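import Cfsg.Agent.Chev.Ree.EllipticTorus

/-! Centralisers of the elements of order dividing `(q+1)/4`. -/

set_option autoImplicit false
set_option maxRecDepth 100000
set_option linter.style.haveILetI false
set_option linter.unusedSectionVars false

namespace CfsgLib.Chev.Ree

open Cfsg.Lie CfsgLib.Chev Matrix CfsgLib.SL2

universe u

variable {K : Type u} [Field K] [Finite K] [CharP K 3] (m : ℕ)

local notation "θ" => (3 ^ m : ℕ)
local notation "G¹" => twistedG2 K (3 ^ m)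
local notation "k₁" => ((3 ^ (2 * m + 1) - 1) / 2)
local notation "k₂" => ((3 ^ (2 * m + 1) + 1) / 4)

variable (hK : Nat.card K = 3 ^ (2 * m + 1))

include hK in
theorem card_group_factor : ∃ N : ℕ,
    N + 3 ^ (2 * m + 1) = (3 ^ (2 * m + 1)) ^ 2 + 1 ∧
      Nat.card ↥G¹ = (3 ^ (2 * m + 1)) ^ 3 * (3 ^ (2 * m + 1) - 1) * (3 ^ (2 * m + 1) + 1) * N := by
  rw [card_group m hK]
  have hq : 1 ≤ 3 ^ (2 * m + 1) := Nat.one_le_pow _ _ (by norm_num)
  generalize 3 ^ (2 * m + 1) = q at hq ⊢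
  refine ⟨q * (q - 1) + 1, ?_, ?_⟩
  · obtain ⟨r, rfl⟩ := Nat.exists_eq_add_of_le hq
    rw [Nat.add_sub_cancel_left]; ring
  · obtain ⟨r, rfl⟩ := Nat.exists_eq_add_of_le hq
    rw [Nat.add_sub_cancel_left]; ring

include hK in
theorem card_group_k1 : ∃ r : ℕ, Nat.card ↥G¹ = k₁ * r ∧ ∀ p : ℕ, p.Prime → p ∣ k₁ → ¬ p ∣ r := by
  obtain ⟨N, hN, hG⟩ := card_group_factor (K := K) m hK
  obtain ⟨hk, hodd⟩ := k1_facts (K := K) m hK
  refine ⟨2 * ((3 ^ (2 * m + 1)) ^ 3) * (3 ^ (2 * m + 1) + 1) * N, ?_, ?_⟩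
  · generalize k₁ = k at hk ⊢
    rw [hG, ← hk]; ring
  intro p hp hpk hpr
  have hp2 : p ≠ 2 := fun h => absurd (hodd.of_dvd_nat hpk) (by rw [h]; decide)
  have h1 : p ∣ 3 ^ (2 * m + 1) - 1 := hk ▸ hpk.mul_left 2
  have hq : 1 ≤ 3 ^ (2 * m + 1) := Nat.one_le_pow _ _ (by norm_num)
  generalize 3 ^ (2 * m + 1) = q at h1 hN hpr hq
  have nd2 : ¬ p ∣ 2 := fun h => hp2 ((Nat.prime_dvd_prime_iff_eq hp Nat.prime_two).1 h)
  rcases hp.dvd_mul.1 hpr with h | h
  · rcases hp.dvd_mul.1 h with h | h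
    · rcases hp.dvd_mul.1 h with h | h
      · exact nd2 h
      · have h' := hp.dvd_of_dvd_pow h
        have := Nat.dvd_sub h' h1
        rw [show q - (q - 1) = 1 by omega] at this
        exact hp.one_lt.ne' (Nat.dvd_one.1 this)
    · have := Nat.dvd_sub h h1
      rw [show q + 1 - (q - 1) = 2 by omega] at this
      exact nd2 this
  · obtain ⟨r, rfl⟩ := Nat.exists_eq_add_of_le hq
    rw [Nat.add_sub_cancel_left] at h1
    have hN' : N = r * (r + 1) + 1 := by nlinarith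
    rw [hN'] at h
    have := Nat.dvd_sub h (h1.mul_right (r + 1))
    rw [Nat.add_sub_cancel_left] at this
    exact hp.one_lt.ne' (Nat.dvd_one.1 this)

include hK in
theorem card_group_k2 : ∃ r : ℕ, Nat.card ↥G¹ = k₂ * r ∧ ∀ p : ℕ, p.Prime → p ∣ k₂ → ¬ p ∣ r := by
  obtain ⟨N, hN, hG⟩ := card_group_factor (K := K) m hK
  obtain ⟨hk, hodd, h3⟩ := k2_facts (K := K) m hK
  refine ⟨4 * ((3 ^ (2 * m + 1)) ^ 3) * (3 ^ (2 * m + 1) - 1) * N, ?_, ?_⟩
  · generalize k₂ = k at hk ⊢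
    rw [hG, ← hk]; ring
  intro p hp hpk hpr
  have hp2 : p ≠ 2 := fun h => absurd (hodd.of_dvd_nat hpk) (by rw [h]; decide)
  have hp3 : p ≠ 3 := fun h => h3 (h ▸ hpk)
  have h1 : p ∣ 3 ^ (2 * m + 1) + 1 := hk ▸ hpk.mul_left 4
  have hq : 1 ≤ 3 ^ (2 * m + 1) := Nat.one_le_pow _ _ (by norm_num)
  generalize 3 ^ (2 * m + 1) = q at h1 hN hpr hq
  have nd2 : ¬ p ∣ 2 := fun h => hp2 ((Nat.prime_dvd_prime_iff_eq hp Nat.prime_two).1 h)
  rcases hp.dvd_mul.1 hpr with h | h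
  · rcases hp.dvd_mul.1 h with h | h
    · rcases hp.dvd_mul.1 h with h | h
      · exact nd2 (hp.dvd_of_dvd_pow (show p ∣ 2 ^ 2 by simpa using h))
      · have := Nat.dvd_sub h1 (hp.dvd_of_dvd_pow h)
        rw [Nat.add_sub_cancel_left] at this
        exact hp.one_lt.ne' (Nat.dvd_one.1 this)
    · have := Nat.dvd_sub h1 h
      rw [show q + 1 - (q - 1) = 2 by omega] at this
      exact nd2 this
  · obtain ⟨r, rfl⟩ := Nat.exists_eq_add_of_le hq
    have hd : (p : ℤ) ∣ (N : ℤ) := Int.natCast_dvd_natCast.2 h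
    have hd1 : (p : ℤ) ∣ (1 + r + 1 : ℤ) := by exact_mod_cast h1
    have eN : (N : ℤ) = (1 + r : ℤ) ^ 2 + 1 - (1 + r) := by
      have := congrArg (fun x : ℕ => (x : ℤ)) hN
      push_cast at this ⊢
      linear_combination this
    have h33 : (p : ℤ) ∣ 3 := by
      have := dvd_sub hd (hd1.mul_right ((r : ℤ) - 1))
      rw [eN] at this
      ring_nf at this
      exact this
    exact hp3 ((Nat.prime_dvd_prime_iff_eq hp Nat.prime_three).1 (Int.natCast_dvd_natCast.1 h33))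

/-! ### Unipotent elements -/

include hK in
theorem centralizer_unipotent_le_borel {g u : ↥G¹} (hu : (u : GL chevG2.Idx K) ∈ chevG2.posUnipotent K)
    (hu1 : u ≠ 1) (hc : g * u = u * g) : (g : GL chevG2.Idx K) ∈ chevG2.borelSubgroup K := by
  by_contra hB
  obtain ⟨a, ha, b, hb, e⟩ := exists_unb m hK g.2 hB
  have hc' : a * nJ K * b * (u : GL chevG2.Idx K) = (u : GL chevG2.Idx K) * (a * nJ K * b) := by
    rw [← e]; exact congrArg Subtype.val hc
  set U : GL chevG2.Idx K := (u : GL chevG2.Idx K)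
  have hbU := borel_conj_pos (Subgroup.mem_inf.1 hb).1 hu
  have h1 : a⁻¹ * U * a = 1 := by
    refine eq_one_of_conj_borel m hK (mul_mem (mul_mem (inv_mem (Subgroup.mem_inf.1 ha).1) hu) (Subgroup.mem_inf.1 ha).1) ?_
    rw [show (nJ K)⁻¹ * (a⁻¹ * U * a) * nJ K = (nJ K)⁻¹ * a⁻¹ * (U * (a * nJ K * b)) * b⁻¹ by group, ← hc']
    rw [show (nJ K)⁻¹ * a⁻¹ * (a * nJ K * b * U) * b⁻¹ = b * U * b⁻¹ by group]
    exact Subgroup.mem_sup_left hbU
  refine hu1 (Subtype.ext ?_)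
  calc U = a * (a⁻¹ * U * a) * a⁻¹ := by group
    _ = 1 := by rw [h1, mul_one, mul_inv_cancel]

include hK in
/-- In the Borel subgroup the orders are products of a power of three and a divisor of `q - 1`. -/
theorem pow_eq_one_of_borel {g : ↥G¹} (hg : (g : GL chevG2.Idx K) ∈ chevG2.borelSubgroup K) {n : ℕ}
    (hn : g ^ n = 1) (hcop : Nat.Coprime n ((3 ^ (2 * m + 1)) ^ 3 * (3 ^ (2 * m + 1) - 1))) : g = 1 := by
  obtain ⟨u, hu, h, hh, e⟩ := (show (g : GL chevG2.Idx K) ∈ (gdata K m hK).B1 by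
    rw [← borel_inf_eq m hK]; exact Subgroup.mem_inf.2 ⟨hg, g.2⟩)
  have hh' : h ∈ H1 K m := hh
  have hd : h ∈ chevG2.borelSubgroup K := Subgroup.mem_sup_right (Subgroup.mem_inf.1 hh').1
  have key : ∀ j : ℕ, ∃ u' ∈ chevG2.posUnipotent K, (g : GL chevG2.Idx K) ^ j = u' * h ^ j := by
    intro j
    induction j with
    | zero => exact ⟨1, one_mem _, by simp⟩
    | succ j ih =>
      obtain ⟨u', hu', ej⟩ := ih
      refine ⟨u' * (h ^ j * u * (h ^ j)⁻¹), mul_mem hu' (borel_conj_pos (pow_mem hd j) (Subgroup.mem_inf.1 hu).1), ?_⟩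
      rw [pow_succ, ej, e, pow_succ h]; group
  obtain ⟨u', hu', en⟩ := key n
  have hn' : (g : GL chevG2.Idx K) ^ n = 1 := congrArg Subtype.val hn
  rw [hn'] at en
  have hhn : h ^ n = 1 := pos_diag m hK (by rw [eq_inv_of_mul_eq_one_right en.symm]; exact inv_mem hu') (pow_mem hh' n)
  have hh1 : h = 1 := by
    have h2 : h ^ (3 ^ (2 * m + 1) - 1) = 1 := by
      rw [← card_torus m hK]
      exact congrArg Subtype.val (pow_card_eq_one' (x := (⟨h, hh'⟩ : ↥(H1 K m))))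
    have h3 := pow_gcd_eq_one.2 ⟨hhn, h2⟩
    rwa [(Nat.Coprime.coprime_mul_left_right hcop).gcd_eq_one, pow_one] at h3
  rw [hh1, mul_one] at e
  refine Subtype.ext ?_
  rw [e] at hn'
  have hu'' : u ∈ chevG2.posUnipotent K ⊓ G¹ := by rw [pos_inf_eq m hK]; exact hu
  have hq : u ^ (3 ^ (2 * m + 1)) ^ 3 = 1 := by
    rw [← card_pos_inf m hK]
    exact congrArg Subtype.val (pow_card_eq_one' (x := (⟨u, hu''⟩ : ↥(chevG2.posUnipotent K ⊓ G¹))))
  have := pow_gcd_eq_one.2 ⟨hn', hq⟩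
  rw [(Nat.Coprime.coprime_mul_right_right hcop).gcd_eq_one, pow_one] at this
  rw [e, this]; rfl

include hK in
theorem conj_into_U {u : ↥G¹} (hu : u ^ 3 = 1) :
    ∃ g : ↥G¹, ((g * u * g⁻¹ : ↥G¹) : GL chevG2.Idx K) ∈ chevG2.posUnipotent K := by
  haveI : Fact (Nat.Prime 3) := ⟨Nat.prime_three⟩
  set U := (chevG2.posUnipotent K ⊓ G¹).subgroupOf G¹
  have hU : Nat.card ↥U = (3 ^ (2 * m + 1)) ^ 3 := by
    rw [Nat.card_congr (Subgroup.subgroupOfEquivOfLe inf_le_right).toEquiv, card_pos_inf m hK]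
  have h3 : ¬ 3 ∣ (3 ^ (2 * m + 1) - 1) * ((3 ^ (2 * m + 1)) ^ 3 + 1) := fun h => by
    have hd : (3 : ℕ) ∣ 3 ^ (2 * m + 1) := dvd_pow_self 3 (by omega)
    have := Nat.one_le_pow (2 * m + 1) 3 (by norm_num)
    rcases Nat.prime_three.dvd_mul.1 h with h | h
    · omega
    · have := dvd_pow hd (show 3 ≠ 0 by norm_num); omega
  obtain ⟨g, hg⟩ := GL0.conj_into U (p := 3) (n := 1) (r := (3 ^ (2 * m + 1) - 1) * ((3 ^ (2 * m + 1)) ^ 3 + 1))
    (by rw [card_group m hK, hU, mul_assoc]) h3 (x := u) (by rwa [pow_one])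
  exact ⟨g, (Subgroup.mem_inf.1 (Subgroup.mem_subgroupOf.1 hg)).1⟩

include hK in
theorem three_not_dvd_centralizer {x : ↥G¹} (hx1 : x ≠ 1) {n : ℕ} (hn : x ^ n = 1)
    (hcop : Nat.Coprime n ((3 ^ (2 * m + 1)) ^ 3 * (3 ^ (2 * m + 1) - 1))) :
    ¬ 3 ∣ Nat.card ↥(Subgroup.centralizer {x}) := by
  haveI : Fact (Nat.Prime 3) := ⟨Nat.prime_three⟩
  intro h3
  obtain ⟨⟨u, huC⟩, huo⟩ := exists_prime_orderOf_dvd_card' 3 h3
  rw [Subgroup.orderOf_mk] at huo
  obtain ⟨g, hg⟩ := conj_into_U m hK (huo ▸ pow_orderOf_eq_one u)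
  have hu1 : g * u * g⁻¹ ≠ 1 := fun h => by
    rw [conj_eq_one_iff] at h; rw [h, orderOf_one] at huo; omega
  have hc : g * x * g⁻¹ * (g * u * g⁻¹) = g * u * g⁻¹ * (g * x * g⁻¹) := by
    rw [show ∀ p q : ↥G¹, g * p * g⁻¹ * (g * q * g⁻¹) = g * (p * q) * g⁻¹ from fun p q => by group,
      show ∀ p q : ↥G¹, g * p * g⁻¹ * (g * q * g⁻¹) = g * (p * q) * g⁻¹ from fun p q => by group,
      Subgroup.mem_centralizer_singleton_iff.1 huC]
  exact hx1 (conj_eq_one_iff.1 (pow_eq_one_of_borel m hK (centralizer_unipotent_le_borel m hK hg hu1 hc)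
    (by rw [conj_pow, hn, mul_one, mul_inv_cancel]) hcop))

/-! ### The centraliser -/

variable (K) in
/-- The abelian group of order `q + 1`. -/
noncomputable def DQ (hK : Nat.card K = 3 ^ (2 * m + 1)) : Subgroup ↥G¹ := VG K m hK ⊔ A2 K m hK

theorem VA_comm {v a : ↥G¹} (hv : v ∈ VG K m hK) (ha : a ∈ A2 K m hK) : v * a = a * v :=
  CV_comm m hK (A2_le m hK ha) hv

theorem A2_comm {a b : ↥G¹} (ha : a ∈ A2 K m hK) (hb : b ∈ A2 K m hK) : a * b = b * a := by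
  haveI := isCyclic_A2 (K := K) m hK
  exact congrArg Subtype.val ((IsCyclic.commGroup (α := ↥(A2 K m hK))).mul_comm ⟨a, ha⟩ ⟨b, hb⟩)

theorem mem_DQ {g : ↥G¹} : g ∈ DQ K m hK ↔ ∃ v ∈ VG K m hK, ∃ a ∈ A2 K m hK, g = v * a :=
  ⟨fun h => GL0.mem_sup_of_comm (fun v hv a ha => VA_comm m hK hv ha) h,
    fun ⟨_, hv, _, ha, e⟩ => e ▸ Subgroup.mul_mem_sup hv ha⟩

theorem DQ_comm {g h : ↥G¹} (hg : g ∈ DQ K m hK) (hh : h ∈ DQ K m hK) : g * h = h * g := by
  obtain ⟨v, hv, a, ha, rfl⟩ := (mem_DQ m hK).1 hg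
  obtain ⟨w, hw, b, hb, rfl⟩ := (mem_DQ m hK).1 hh
  have e1 : Commute v w := CV_comm m hK (VG_le_CV m hK hw) hv
  have e2 : Commute v b := VA_comm m hK hv hb
  have e3 : Commute a w := (VA_comm m hK hw ha).symm
  have e4 : Commute a b := A2_comm m hK ha hb
  exact ((e1.mul_right e2).mul_left (e3.mul_right e4)).eq

theorem VG_sq {v : ↥G¹} (hv : v ∈ VG K m hK) : v * v = 1 :=
  sylow_sq m hK (P₀ K m hK) (VG_le_S₀ m hK hv)

include hK in
theorem mem_VG_of_sq {g : ↥G¹} (hg : g ∈ DQ K m hK) (h : g * g = 1) : g ∈ VG K m hK := by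
  obtain ⟨v, hv, a, ha, rfl⟩ := (mem_DQ m hK).1 hg
  have hc : Commute v a := VA_comm m hK hv ha
  have : a * a = 1 := by
    calc a * a = (v * v) * (a * a) := by rw [VG_sq m hK hv, one_mul]
      _ = v * (v * a) * a := by group
      _ = v * (a * v) * a := by rw [hc.eq]
      _ = 1 := by rw [← h]; group
  rw [GL0.eq_one_of_sq (M := A2 K m hK) (by rw [card_A2 m hK]; exact (k2_facts (K := K) m hK).2.1) ha this, mul_one]
  exact hv

include hK in
theorem mem_A2_of_pow {g : ↥G¹} (hg : g ∈ DQ K m hK) (h : g ^ k₂ = 1) : g ∈ A2 K m hK := by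
  obtain ⟨v, hv, a, ha, rfl⟩ := (mem_DQ m hK).1 hg
  rw [(show Commute v a from VA_comm m hK hv ha).mul_pow, pow_of_mem_A2 m hK ha, mul_one] at h
  obtain ⟨j, hj⟩ := (k2_facts (K := K) m hK).2.1
  rw [hj, pow_succ, pow_mul, pow_two, VG_sq m hK hv, one_pow, one_mul] at h
  rw [h, one_mul]; exact ha

include hK in
theorem card_DQ_dvd : 3 ^ (2 * m + 1) + 1 ∣ Nat.card ↥(DQ K m hK) := by
  rw [← (k2_facts (K := K) m hK).1]
  refine Nat.Coprime.mul_dvd_of_dvd_of_dvd ?_ ?_ ?_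
  · exact Nat.Coprime.pow_left 2 (Nat.coprime_two_left.2 (k2_facts (K := K) m hK).2.1)
  · exact card_VG (K := K) m hK ▸ Subgroup.card_dvd_of_le le_sup_left
  · exact card_A2 (K := K) m hK ▸ Subgroup.card_dvd_of_le le_sup_right

theorem DQ_le_inf {i x : ↥G¹} (hiV : i ∈ VG K m hK) (hx : x ∈ A2 K m hK) :
    DQ K m hK ≤ Subgroup.centralizer {x} ⊓ Subgroup.centralizer {i} := fun g hg =>
  Subgroup.mem_inf.2 ⟨Subgroup.mem_centralizer_singleton_iff.2 (DQ_comm m hK hg (Subgroup.mem_sup_right hx)),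
    Subgroup.mem_centralizer_singleton_iff.2 (DQ_comm m hK hg (Subgroup.mem_sup_left hiV))⟩

theorem DQ_eq_inf {i x : ↥G¹} (hiV : i ∈ VG K m hK) (hi1 : i ≠ 1) (hx : x ∈ A2 K m hK) (hx1 : x ≠ 1) :
    Subgroup.centralizer {x} ⊓ Subgroup.centralizer {i} = DQ K m hK := by
  refine (Subgroup.eq_of_le_of_card_ge (DQ_le_inf m hK hiV hx) ?_).symm
  rw [card_inf_centralizers m hK (VG_sq m hK hiV) hi1
    (Subgroup.mem_centralizer_singleton_iff.2 (VA_comm m hK hiV hx).symm) (pow_of_mem_A2 m hK hx) hx1]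
  exact Nat.le_of_dvd Nat.card_pos (card_DQ_dvd m hK)

theorem card_DQ (hm : 1 ≤ m) : Nat.card ↥(DQ K m hK) = 3 ^ (2 * m + 1) + 1 := by
  have h1 : 1 < Nat.card ↥(A2 K m hK) := by
    rw [card_A2 m hK]
    have : 3 ^ 3 ≤ 3 ^ (2 * m + 1) := Nat.pow_le_pow_right (by norm_num) (by omega)
    omega
  haveI : Nontrivial ↥(A2 K m hK) := Finite.one_lt_card_iff_nontrivial.1 h1
  obtain ⟨⟨x, hx⟩, hx1⟩ := exists_ne (1 : ↥(A2 K m hK))
  have hx1' : x ≠ 1 := fun h => hx1 (Subtype.ext h)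
  have hwV : psl K m hK (wP K) ∈ VG K m hK := (mem_VG m hK).2 ⟨_, by simp, rfl⟩
  have hw1 := (psl_wP_ne (K := K) m hK).2
  rw [← DQ_eq_inf m hK hwV hw1 hx hx1', card_inf_centralizers m hK (VG_sq m hK hwV) hw1
    (Subgroup.mem_centralizer_singleton_iff.2 (VA_comm m hK hwV hx).symm) (pow_of_mem_A2 m hK hx) hx1']

include hK in
/-- The centraliser of an element of prime order in `A2`. -/
theorem centralizer_A2_prime {x : ↥G¹} (hx : x ∈ A2 K m hK) (hx1 : x ≠ 1) (hp : (orderOf x).Prime) :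
    Subgroup.centralizer {x} = DQ K m hK := by
  haveI : Fact (Nat.Prime 2) := ⟨Nat.prime_two⟩
  set C := Subgroup.centralizer {x} with hC
  set i := psl K m hK (wP K) with hidef
  set j := psl K m hK (jP K) with hjdef
  have hiV : i ∈ VG K m hK := (mem_VG m hK).2 ⟨_, by simp, rfl⟩
  have hjV : j ∈ VG K m hK := (mem_VG m hK).2 ⟨_, by simp, rfl⟩
  have hi1 := (psl_wP_ne (K := K) m hK).2
  have hj1 : j ≠ 1 := fun h => jP_ne_one (psl_injective m hK (h.trans (map_one _).symm))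
  have hij1 : i * j ≠ 1 := fun h => (wP_jP_ne (K := K)).1 (psl_injective m hK (by rw [map_mul, map_one]; exact h))
  have hDC : DQ K m hK ≤ C := (DQ_le_inf m hK hiV hx).trans inf_le_left
  have hVC : VG K m hK ≤ C := le_sup_left.trans hDC
  have hpk : orderOf x ∣ k₂ := orderOf_dvd_of_pow_eq_one (pow_of_mem_A2 m hK hx)
  obtain ⟨hk, hodd, h3k⟩ := k2_facts (K := K) m hK
  have hp3 : ¬ 3 ∣ Nat.card ↥C := by
    refine three_not_dvd_centralizer m hK hx1 (pow_orderOf_eq_one x) ?_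
    rw [hp.coprime_iff_not_dvd]
    intro h
    rcases hp.dvd_mul.1 h with h | h
    · rw [(Nat.prime_dvd_prime_iff_eq hp Nat.prime_three).1 (hp.dvd_of_dvd_pow (hp.dvd_of_dvd_pow h))] at hpk
      exact h3k hpk
    · have h1 := Nat.dvd_sub (hk ▸ hpk.mul_left 4) h
      have hq : 1 ≤ 3 ^ (2 * m + 1) := Nat.one_le_pow _ _ (by norm_num)
      rw [show 3 ^ (2 * m + 1) + 1 - (3 ^ (2 * m + 1) - 1) = 2 by omega] at h1
      exact absurd (hodd.of_dvd_nat hpk) (by rw [(Nat.prime_dvd_prime_iff_eq hp Nat.prime_two).1 h1]; decide)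
  set V' := (VG K m hK).subgroupOf C with hV'
  have hV'4 : Nat.card ↥V' = 4 := by
    rw [hV', Nat.card_congr (Subgroup.subgroupOfEquivOfLe hVC).toEquiv, card_VG m hK]
  have hV'p : IsPGroup 2 ↥V' := IsPGroup.of_card (n := 2) (by rw [hV'4]; norm_num)
  obtain ⟨Q, hQ⟩ := hV'p.exists_le_sylow
  have hQe : (Q : Subgroup ↥C) = V' := by
    obtain ⟨n, hn⟩ := IsPGroup.iff_card.1 Q.2
    refine (Subgroup.eq_of_le_of_card_ge hQ ?_).symm
    rw [hV'4, hn]
    obtain ⟨r, hr, hG⟩ := card_two_part (K := K) m hK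
    have hQG : 2 ^ n ∣ 8 * r := by
      rw [← hn, ← hG]
      exact (Subgroup.card_subgroup_dvd_card _).trans (Subgroup.card_subgroup_dvd_card C)
    have hn3 : n ≤ 3 := by
      by_contra hn4
      have h16 : 2 ^ 4 ∣ 2 ^ n := pow_dvd_pow 2 (by omega)
      exact Nat.not_even_iff_odd.2 hr (even_iff_two_dvd.2 ((Nat.mul_dvd_mul_iff_left (by norm_num : 0 < 8)).1
        (show 8 * 2 ∣ 8 * r by simpa using h16.trans hQG)))
    rcases (show n ≤ 2 ∨ n = 3 by omega) with h | h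
    · calc 2 ^ n ≤ 2 ^ 2 := Nat.pow_le_pow_right (by norm_num) h
        _ = 4 := rfl
    · exfalso
      set Q' : Subgroup ↥G¹ := (Q : Subgroup ↥C).map C.subtype with hQ'
      have hQ'8 : Nat.card ↥Q' = 2 ^ 3 := by
        rw [hQ', ← Nat.card_congr (Subgroup.equivMapOfInjective _ _ Subtype.val_injective).toEquiv, hn, h]
      have hQ'D : Q' ≤ DQ K m hK := by
        obtain ⟨S, hS⟩ := (IsPGroup.of_card hQ'8).exists_le_sylow
        intro g hg
        rw [← DQ_eq_inf m hK hiV hi1 hx hx1]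
        refine Subgroup.mem_inf.2 ⟨(Subgroup.map_subtype_le _ hg : g ∈ C), Subgroup.mem_centralizer_singleton_iff.2 ?_⟩
        have hiS : i ∈ S := hS ⟨⟨i, hVC hiV⟩, hQ (Subgroup.mem_subgroupOf.2 hiV), rfl⟩
        have hgS : g ∈ S := hS hg
        have h := sylow_sq m hK S (mul_mem hgS hiS)
        rw [← inv_eq_of_mul_eq_one_right h, _root_.mul_inv_rev, inv_eq_of_mul_eq_one_right (sylow_sq m hK S hgS),
          inv_eq_of_mul_eq_one_right (sylow_sq m hK S hiS)]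
      have hle : Q' ≤ VG K m hK := fun g hg => by
        obtain ⟨S, hS⟩ := (IsPGroup.of_card hQ'8).exists_le_sylow
        exact mem_VG_of_sq m hK (hQ'D hg) (sylow_sq m hK S (hS hg))
      have := Subgroup.card_dvd_of_le hle
      rw [hQ'8, card_VG m hK] at this
      norm_num at this
  have hnorm : Subgroup.normalizer ((Q : Subgroup ↥C) : Set ↥C) ≤ Subgroup.centralizer (Q : Set ↥C) := by
    intro g hg
    rw [hQe] at hg
    show g ∈ Subgroup.centralizer ((Q : Subgroup ↥C) : Set ↥C)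
    rw [hQe, Subgroup.mem_centralizer_iff]
    intro v hv
    have hgN : (g : ↥G¹) ∈ Subgroup.normalizer ((VG K m hK : Subgroup ↥G¹) : Set ↥G¹) :=
      GL0.mem_normalizer_of_conj_le fun w hw => Subgroup.mem_subgroupOf.1
        ((Subgroup.mem_normalizer_iff.1 hg ⟨w, hVC hw⟩).1 (Subgroup.mem_subgroupOf.2 hw))
    have hgCV : (g : ↥G¹) ∈ CV K m hK := by
      set N := Subgroup.normalizer ((VG K m hK : Subgroup ↥G¹) : Set ↥G¹) with hNdef
      haveI : ((CV K m hK).subgroupOf N).Normal := by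
        refine ⟨fun c hc n => Subgroup.mem_subgroupOf.2 (Subgroup.mem_centralizer_iff.2 fun a ha => ?_)⟩
        have haV : a ∈ VG K m hK := by
          simp only [Set.mem_insert_iff, Set.mem_singleton_iff] at ha
          rcases ha with rfl | rfl
          · exact hiV
          · exact hjV
        have ha' : (n : ↥G¹)⁻¹ * a * n ∈ VG K m hK := (Subgroup.mem_normalizer_iff''.1 n.2 a).1 haV
        have := CV_comm m hK (g := (c : ↥G¹)) hc ha'
        show a * ((n : ↥G¹) * c * (n : ↥G¹)⁻¹) = (n : ↥G¹) * c * (n : ↥G¹)⁻¹ * a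
        calc a * ((n : ↥G¹) * c * (n : ↥G¹)⁻¹) = n * ((n : ↥G¹)⁻¹ * a * n * c) * (n : ↥G¹)⁻¹ := by group
          _ = n * (c * ((n : ↥G¹)⁻¹ * a * n)) * (n : ↥G¹)⁻¹ := by rw [this]
          _ = _ := by group
      have hidx : ((CV K m hK).subgroupOf N).index = 3 := by
        have h := Subgroup.card_mul_index ((CV K m hK).subgroupOf N)
        rw [Nat.card_congr (Subgroup.subgroupOfEquivOfLe (CV_le_normalizer m hK)).toEquiv, card_CV m hK,
          hNdef, card_normalizer_VG m hK] at h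
        nlinarith [Nat.one_le_pow (2 * m + 1) 3 (by norm_num)]
      have h3 := Subgroup.pow_index_mem ((CV K m hK).subgroupOf N) ⟨g, hgN⟩
      rw [hidx, Subgroup.mem_subgroupOf] at h3
      refine GL0.mem_of_pow_mem (k := 3) ?_ h3
      rw [Nat.coprime_comm, Nat.prime_three.coprime_iff_not_dvd]
      intro hd
      refine hp3 (hd.trans ?_)
      rw [Subgroup.orderOf_coe]
      exact orderOf_dvd_natCard g
    exact Subtype.ext (CV_comm m hK hgCV (Subgroup.mem_subgroupOf.1 hv))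
  obtain ⟨M, hMn, hcompl, hnd⟩ : ∃ M : Subgroup ↥C, M.Normal ∧
      Subgroup.IsComplement' M (Q : Subgroup ↥C) ∧ ¬ 2 ∣ Nat.card ↥M :=
    ⟨_, MonoidHom.normal_ker _, MonoidHom.ker_transferSylow_isComplement' Q hnorm,
      MonoidHom.not_dvd_card_ker_transferSylow Q hnorm⟩
  set M' : Subgroup ↥G¹ := M.map C.subtype with hM'
  have hMC : M' ≤ C := Subgroup.map_subtype_le _
  have hModd : Odd (Nat.card ↥M') := by
    rw [hM', ← Nat.card_congr (Subgroup.equivMapOfInjective _ _ Subtype.val_injective).toEquiv,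
      ← Nat.not_even_iff_odd, even_iff_two_dvd]
    exact hnd
  have hconjM : ∀ v ∈ VG K m hK, ∀ g ∈ M', v * g * v ∈ M' := by
    rintro v hv _ ⟨g, hg, rfl⟩
    refine ⟨⟨v, hVC hv⟩ * g * ⟨v, hVC hv⟩⁻¹,
      hMn.conj_mem g hg _, ?_⟩
    show v * (g : ↥G¹) * v⁻¹ = v * (g : ↥G¹) * v
    rw [inv_eq_of_mul_eq_one_right (VG_sq m hK hv)]
  have hfix : ∀ v ∈ VG K m hK, v ≠ 1 → ∀ g ∈ M', v * g * v = g → g ∈ A2 K m hK := by
    intro v hv hv1 g hg hvg
    have hvv := inv_eq_of_mul_eq_one_right (VG_sq m hK hv)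
    have hgD : g ∈ DQ K m hK := by
      rw [← DQ_eq_inf m hK hv hv1 hx hx1]
      refine Subgroup.mem_inf.2 ⟨hMC hg, Subgroup.mem_centralizer_singleton_iff.2 ?_⟩
      calc g * v = v * g * v * v := by rw [hvg]
        _ = v * g := by rw [mul_assoc, VG_sq m hK hv, mul_one]
    refine mem_A2_of_pow m hK hgD (orderOf_dvd_iff_pow_eq_one.1 ?_)
    have hd : orderOf g ∣ 3 ^ (2 * m + 1) + 1 := by
      have h1 : orderOf g ∣ Nat.card ↥(DQ K m hK) := by
        rw [← Subgroup.orderOf_mk g hgD]; exact orderOf_dvd_natCard _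
      rwa [← DQ_eq_inf m hK hiV hi1 hx hx1, card_inf_centralizers m hK (VG_sq m hK hiV) hi1
        (Subgroup.mem_centralizer_singleton_iff.2 (VA_comm m hK hiV hx).symm) (pow_of_mem_A2 m hK hx) hx1] at h1
    rw [← hk] at hd
    have ho : Odd (orderOf g) := hModd.of_dvd_nat (by rw [← Subgroup.orderOf_mk g hg]; exact orderOf_dvd_natCard _)
    exact (Nat.Coprime.pow_right 2 (Nat.coprime_two_right.2 ho)).dvd_of_dvd_mul_left hd
  have hA : ∀ g ∈ A2 K m hK, ∀ v ∈ VG K m hK, v * g * v = g := fun g hg v hv => by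
    rw [VA_comm m hK hv hg, mul_assoc, VG_sq m hK hv, mul_one]
  have hMA : M' ≤ A2 K m hK := fun g hg => hfix i hiV hi1 g hg
    (GL0.fixed_of_three hModd (VG_sq m hK hiV) (VG_sq m hK hjV) (CV_comm m hK (VG_le_CV m hK hjV) hiV)
      (hconjM i hiV) (hconjM j hjV) (fun g hg h => hA g (hfix j hjV hj1 g hg h) i hiV)
      (fun g hg h => hA g (hfix (i * j) (mul_mem hiV hjV) hij1 g hg h) i hiV) hg)
  refine le_antisymm (fun g hg => ?_) hDC
  obtain ⟨⟨⟨a, ha⟩, ⟨v, hv⟩⟩, e⟩ := (hcompl.existsUnique ⟨g, hg⟩).exists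
  have e' : (a : ↥G¹) * v = g := congrArg Subtype.val e
  rw [← e']
  refine mul_mem (Subgroup.mem_sup_right (hMA ⟨a, ha, rfl⟩)) (Subgroup.mem_sup_left ?_)
  have hv' : v ∈ V' := hQe ▸ hv
  exact Subgroup.mem_subgroupOf.1 hv'

include hK in
/-- The centraliser of a non-trivial element of `A2`. -/
theorem centralizer_A2_elem {x : ↥G¹} (hx : x ∈ A2 K m hK) (hx1 : x ≠ 1) :
    Subgroup.centralizer {x} = DQ K m hK := by
  refine le_antisymm ?_ (fun g hg => Subgroup.mem_centralizer_singleton_iff.2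
    (DQ_comm m hK hg (Subgroup.mem_sup_right hx)))
  obtain ⟨p, hp, hpd⟩ := Nat.exists_prime_and_dvd (fun h => hx1 (orderOf_eq_one_iff.1 h))
  set y := x ^ (orderOf x / p)
  have hy : orderOf y = p := orderOf_pow_orderOf_div (orderOf_pos x).ne' hpd
  have hy1 : y ≠ 1 := fun h => by rw [h, orderOf_one] at hy; exact hp.one_lt.ne hy
  rw [← centralizer_A2_prime m hK (pow_mem hx _) hy1 (by rw [hy]; exact hp)]
  intro g hg
  rw [Subgroup.mem_centralizer_singleton_iff] at hg ⊢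
  exact (Commute.pow_right hg _).eq

include hK in
theorem centralizer_A2 {A₀ : Subgroup ↥G¹} (h : A₀ ≤ A2 K m hK) (h1 : A₀ ≠ ⊥) :
    Subgroup.centralizer ((A₀ : Subgroup ↥G¹) : Set ↥G¹) = DQ K m hK := by
  obtain ⟨⟨a, ha⟩, ha1⟩ := Subgroup.ne_bot_iff_exists_ne_one.1 h1
  refine le_antisymm ?_ (fun g hg => Subgroup.mem_centralizer_iff.2 fun b hb =>
    DQ_comm m hK (Subgroup.mem_sup_right (h hb)) hg)
  rw [← centralizer_A2_elem m hK (h ha) (fun e => ha1 (Subtype.ext e))]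
  exact Subgroup.centralizer_le (Set.singleton_subset_iff.2 ha)

include hK in
theorem normalizer_A2 {A₀ : Subgroup ↥G¹} (h : A₀ ≤ A2 K m hK) (h1 : A₀ ≠ ⊥) :
    Subgroup.normalizer (A₀ : Set ↥G¹) =
      Subgroup.normalizer ((VG K m hK : Subgroup ↥G¹) : Set ↥G¹) := by
  refine le_antisymm (fun g hg => GL0.mem_normalizer_of_conj_le fun v hv => ?_) (fun g hg => ?_)
  · refine mem_VG_of_sq m hK ?_ (by
      rw [show g * v * g⁻¹ * (g * v * g⁻¹) = g * (v * v) * g⁻¹ by group, VG_sq m hK hv]; group)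
    rw [← centralizer_A2 m hK h h1, Subgroup.mem_centralizer_iff]
    intro b hb
    have hb' : g⁻¹ * b * g ∈ A₀ := (Subgroup.mem_normalizer_iff''.1 hg b).1 hb
    have := (VA_comm m hK hv (h hb')).symm
    calc b * (g * v * g⁻¹) = g * (g⁻¹ * b * g * v) * g⁻¹ := by group
      _ = g * (v * (g⁻¹ * b * g)) * g⁻¹ := by rw [this]
      _ = g * v * g⁻¹ * b := by group
  · haveI := isCyclic_A2 (K := K) m hK
    refine GL0.normalizer_le_of_cyclic h (GL0.mem_normalizer_of_conj_le fun a ha => ?_)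
    refine mem_A2_of_odd m hK (Subgroup.mem_centralizer_iff.2 fun b hb => ?_) ?_
    · have hbV : b ∈ VG K m hK := by
        simp only [Set.mem_insert_iff, Set.mem_singleton_iff] at hb
        rcases hb with rfl | rfl <;> exact (mem_VG m hK).2 ⟨_, by simp, rfl⟩
      have hb' : g⁻¹ * b * g ∈ VG K m hK := (Subgroup.mem_normalizer_iff''.1 hg b).1 hbV
      have := VA_comm m hK hb' ha
      calc b * (g * a * g⁻¹) = g * (g⁻¹ * b * g * a) * g⁻¹ := by group
        _ = g * (a * (g⁻¹ * b * g)) * g⁻¹ := by rw [this]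
        _ = g * a * g⁻¹ * b := by group
    · rw [← MulAut.conj_apply, MulEquiv.orderOf_eq]
      exact (k2_facts (K := K) m hK).2.1.of_dvd_nat (orderOf_dvd_of_pow_eq_one (pow_of_mem_A2 m hK ha))

/-! ### Every cyclic subgroup of these orders -/

include hK in
theorem conj_into_A1 {x : ↥G¹} {p : ℕ} (hp : p.Prime) (hd : p ∣ k₁) {n : ℕ} (hx : x ^ p ^ n = 1) :
    ∃ g : ↥G¹, g * x * g⁻¹ ∈ A1 K m := by
  obtain ⟨r, hr, hnd⟩ := card_group_k1 (K := K) m hK
  haveI : Fact p.Prime := ⟨hp⟩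
  exact GL0.conj_into _ (by rw [card_A1 m hK, hr]) (hnd p hp hd) hx

include hK in
theorem conj_into_A2 {x : ↥G¹} {p : ℕ} (hp : p.Prime) (hd : p ∣ k₂) {n : ℕ} (hx : x ^ p ^ n = 1) :
    ∃ g : ↥G¹, g * x * g⁻¹ ∈ A2 K m hK := by
  obtain ⟨r, hr, hnd⟩ := card_group_k2 (K := K) m hK
  haveI : Fact p.Prime := ⟨hp⟩
  exact GL0.conj_into _ (by rw [card_A2 m hK, hr]) (hnd p hp hd) hx

include hK in
/-- A cyclic subgroup with order dividing `(q-1)/2` is conjugate into `A1`. -/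
theorem cyclic_conj_A1 {H : Subgroup ↥G¹} [IsCyclic ↥H] (hd : Nat.card ↥H ∣ k₁) :
    ∃ g : ↥G¹, H.map (MulAut.conj g).toMonoidHom ≤ A1 K m := by
  rcases eq_or_ne H ⊥ with rfl | hH
  · exact ⟨1, by simp⟩
  obtain ⟨⟨a, ha⟩, ha1⟩ := Subgroup.ne_bot_iff_exists_ne_one.1 hH
  obtain ⟨p, hp, hpd⟩ := Nat.exists_prime_and_dvd (fun h => ha1 (Subtype.ext (orderOf_eq_one_iff.1 h) : (⟨a, ha⟩ : ↥H) = 1))
  set x := a ^ (orderOf a / p)
  have hxH : x ∈ H := pow_mem ha _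
  have hxo : orderOf x = p := orderOf_pow_orderOf_div (orderOf_pos a).ne' hpd
  have hdiv : p ∣ k₁ := by
    refine (hxo ▸ ?_ : p ∣ Nat.card ↥H).trans hd
    rw [← Subgroup.orderOf_mk x hxH]; exact orderOf_dvd_natCard _
  obtain ⟨g, hg⟩ := conj_into_A1 m hK hp hdiv (x := x) (n := 1) (by rw [pow_one, ← hxo, pow_orderOf_eq_one])
  refine ⟨g, ?_⟩
  rintro _ ⟨h, hh, rfl⟩
  have hx1 : g * x * g⁻¹ ≠ 1 := fun e => by
    rw [conj_eq_one_iff] at e; rw [e, orderOf_one] at hxo; exact hp.one_lt.ne hxo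
  refine (mem_A1 m hK).2 ⟨?_, ?_⟩
  · rw [← centralizer_TG m hK (A1_le m hg) (A1_sq_ne m hK hg hx1)]
    refine Subgroup.mem_centralizer_singleton_iff.2 ?_
    have := congrArg Subtype.val ((IsCyclic.commGroup (α := ↥H)).mul_comm ⟨h, hh⟩ ⟨x, hxH⟩)
    show g * h * g⁻¹ * (g * x * g⁻¹) = g * x * g⁻¹ * (g * h * g⁻¹)
    rw [show ∀ p q : ↥G¹, g * p * g⁻¹ * (g * q * g⁻¹) = g * (p * q) * g⁻¹ from fun p q => by group,
      show ∀ p q : ↥G¹, g * p * g⁻¹ * (g * q * g⁻¹) = g * (p * q) * g⁻¹ from fun p q => by group]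
    exact congrArg (fun z => g * z * g⁻¹) this
  · show (g * h * g⁻¹) ^ k₁ = 1
    rw [conj_pow, (orderOf_dvd_iff_pow_eq_one (x := h)).1 ((Subgroup.orderOf_mk h hh ▸ orderOf_dvd_natCard _).trans hd)]
    group

include hK in
/-- A cyclic subgroup with order dividing `(q+1)/4` is conjugate into `A2`. -/
theorem cyclic_conj_A2 {H : Subgroup ↥G¹} [IsCyclic ↥H] (hd : Nat.card ↥H ∣ k₂) :
    ∃ g : ↥G¹, H.map (MulAut.conj g).toMonoidHom ≤ A2 K m hK := by
  rcases eq_or_ne H ⊥ with rfl | hH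
  · exact ⟨1, by simp⟩
  obtain ⟨⟨a, ha⟩, ha1⟩ := Subgroup.ne_bot_iff_exists_ne_one.1 hH
  obtain ⟨p, hp, hpd⟩ := Nat.exists_prime_and_dvd (fun h => ha1 (Subtype.ext (orderOf_eq_one_iff.1 h) : (⟨a, ha⟩ : ↥H) = 1))
  set x := a ^ (orderOf a / p)
  have hxH : x ∈ H := pow_mem ha _
  have hxo : orderOf x = p := orderOf_pow_orderOf_div (orderOf_pos a).ne' hpd
  have hdiv : p ∣ k₂ := by
    refine (hxo ▸ ?_ : p ∣ Nat.card ↥H).trans hd
    rw [← Subgroup.orderOf_mk x hxH]; exact orderOf_dvd_natCard _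
  obtain ⟨g, hg⟩ := conj_into_A2 m hK hp hdiv (x := x) (n := 1) (by rw [pow_one, ← hxo, pow_orderOf_eq_one])
  refine ⟨g, ?_⟩
  rintro _ ⟨h, hh, rfl⟩
  have hx1 : g * x * g⁻¹ ≠ 1 := fun e => by
    rw [conj_eq_one_iff] at e; rw [e, orderOf_one] at hxo; exact hp.one_lt.ne hxo
  refine mem_A2_of_pow m hK ?_ ?_
  · rw [← centralizer_A2_elem m hK hg hx1]
    refine Subgroup.mem_centralizer_singleton_iff.2 ?_
    have := congrArg Subtype.val ((IsCyclic.commGroup (α := ↥H)).mul_comm ⟨h, hh⟩ ⟨x, hxH⟩)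
    show g * h * g⁻¹ * (g * x * g⁻¹) = g * x * g⁻¹ * (g * h * g⁻¹)
    rw [show ∀ p q : ↥G¹, g * p * g⁻¹ * (g * q * g⁻¹) = g * (p * q) * g⁻¹ from fun p q => by group,
      show ∀ p q : ↥G¹, g * p * g⁻¹ * (g * q * g⁻¹) = g * (p * q) * g⁻¹ from fun p q => by group]
    exact congrArg (fun z => g * z * g⁻¹) this
  · show (g * h * g⁻¹) ^ k₂ = 1
    rw [conj_pow, (orderOf_dvd_iff_pow_eq_one (x := h)).1 ((Subgroup.orderOf_mk h hh ▸ orderOf_dvd_natCard _).trans hd)]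
    group

end CfsgLib.Chev.Ree
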