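import Mathlib

/-! Counting the conjugates of a self-normalising family of elements. -/

set_option autoImplicit false

namespace CfsgLib.Chev.Ree.GL0

variable {G : Type*} [Group G]

/-- The elements conjugate into `W`. -/
def conjSet (W : Set G) : Set G := {s | ∃ g : G, g * s * g⁻¹ ∈ W}

/-- If `N` stabilises `W` and contains every element fusing two elements of `W`, the union of the
conjugates of `W` has `|G| |W| / |N|` elements. -/
theorem card_conjSet [Finite G] {W : Set G} {N : Subgroup G} (hN : ∀ n ∈ N, ∀ y ∈ W, n * y * n⁻¹ ∈ W)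
    (hfus : ∀ y ∈ W, ∀ g : G, g * y * g⁻¹ ∈ W → g ∈ N) :
    (conjSet W).ncard * Nat.card ↥N = Nat.card G * W.ncard := by
  classical
  rw [← Nat.card_coe_set_eq, ← Nat.card_coe_set_eq, ← Nat.card_prod G]
  let f : G × ↥W → ↥(conjSet W) := fun p => ⟨p.1 * p.2 * p.1⁻¹, p.1⁻¹, by
    rw [inv_inv, show p.1⁻¹ * (p.1 * p.2 * p.1⁻¹) * p.1 = (p.2 : G) by group]; exact p.2.2⟩
  have hfib : ∀ s : ↥(conjSet W), Nat.card {p : G × ↥W // f p = s} = Nat.card ↥N := by
    rintro ⟨s, a, ha⟩
    refine Nat.card_congr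
      { toFun := fun p => ⟨a * p.1.1, hfus _ p.1.2.2 _ (by
          have e : p.1.1 * p.1.2 * p.1.1⁻¹ = s := congrArg Subtype.val p.2
          rw [show a * p.1.1 * (p.1.2 : G) * (a * p.1.1)⁻¹ = a * (p.1.1 * p.1.2 * p.1.1⁻¹) * a⁻¹ by group, e]
          exact ha)⟩
        invFun := fun n => ⟨(a⁻¹ * n, ⟨(n : G)⁻¹ * (a * s * a⁻¹) * n, by
          have := hN _ (inv_mem n.2) _ ha
          rwa [inv_inv] at this⟩), Subtype.ext (by
            show a⁻¹ * (n : G) * ((n : G)⁻¹ * (a * s * a⁻¹) * n) * (a⁻¹ * (n : G))⁻¹ = s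
            group)⟩
        left_inv := fun p => by
          have e : p.1.1 * p.1.2 * p.1.1⁻¹ = s := congrArg Subtype.val p.2
          refine Subtype.ext (Prod.ext ?_ (Subtype.ext ?_))
          · show a⁻¹ * (a * p.1.1) = p.1.1
            group
          · show (a * p.1.1)⁻¹ * (a * s * a⁻¹) * (a * p.1.1) = p.1.2
            exact (congrArg (fun z => (a * p.1.1)⁻¹ * (a * z * a⁻¹) * (a * p.1.1)) e.symm).trans (by group)
        right_inv := fun n => Subtype.ext (by
          show a * (a⁻¹ * (n : G)) = n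
          group) }
  haveI := Fintype.ofFinite G
  calc Nat.card ↥(conjSet W) * Nat.card ↥N
      = ∑ s : ↥(conjSet W), Nat.card {p : G × ↥W // f p = s} := by
        rw [Finset.sum_congr rfl (fun s _ => hfib s), Finset.sum_const, Finset.card_univ, smul_eq_mul,
          ← Nat.card_eq_fintype_card]
    _ = Nat.card (Σ s : ↥(conjSet W), {p : G × ↥W // f p = s}) := (Nat.card_sigma).symm
    _ = Nat.card (G × ↥W) := Nat.card_congr (Equiv.sigmaFiberEquiv f)

theorem conjSet_conj {W : Set G} {s : G} (h : s ∈ conjSet W) (g : G) : g * s * g⁻¹ ∈ conjSet W := by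
  obtain ⟨a, ha⟩ := h
  refine ⟨a * g⁻¹, ?_⟩
  rwa [show a * g⁻¹ * (g * s * g⁻¹) * (a * g⁻¹)⁻¹ = a * s * a⁻¹ by group]

theorem subset_conjSet (W : Set G) : W ⊆ conjSet W := fun s hs => ⟨1, by simpa using hs⟩

end CfsgLib.Chev.Ree.GL0
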