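import Cfsg.Agent.Chev.Ree.Results

/-! Cosets of the Borel subgroup and cubes of unipotent elements in the small Ree groups. -/

set_option autoImplicit false
set_option maxRecDepth 100000
set_option linter.style.haveILetI false
set_option linter.unusedSectionVars false

namespace CfsgLib.Chev.Ree

open Cfsg.Lie CfsgLib.Chev Matrix

universe u

/-- The word of `W(1,1,1,1,0,0)`. -/
def aPoly : List (ℕ × Poly) := [(7, vc 1), (6, vc 1), (8, vc 1), (9, vc 1)]

theorem shift_check :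
    sameWordMod 3 DataG2.tbl (aPoly ++ [(8, va), (10, vb)])
      ([(8, va), (9, va), (10, vb), (11, vb)] ++ aPoly) = true ∧
    sameWordMod 3 DataG2.tbl (aPoly ++ [(9, va), (11, vb)]) ([(9, va), (11, vb)] ++ aPoly) = true ∧
    sameWordMod 3 DataG2.tbl (aPoly ++ aPoly ++ aPoly) [(9, vc 2), (11, vc 2)] = true :=
  ⟨by decide +kernel, by decide +kernel, by decide +kernel⟩

variable {K : Type u} [Field K] [Finite K] [CharP K 3] (m : ℕ)

local notation "θ" => (3 ^ m : ℕ)

theorem W_a_wU (a b : K) : SG.wU (wordVal a b aPoly) = W (1 : K) 1 1 1 0 0 := by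
  simp [Sys.wU, wordVal, pev, vc, aPoly, W, X, Sys.xU_zero, mul_assoc]

theorem wordVal_append (a b : K) (L L' : List (ℕ × Poly)) :
    wordVal a b (L ++ L') = wordVal a b L ++ wordVal a b L' := List.map_append

theorem a_shift (r s u v : K) :
    W (1 : K) 1 1 1 0 0 * X r s u v = X r (s + r) u (v + u) * W 1 1 1 1 0 0 := by
  have h1 : W (1 : K) 1 1 1 0 0 * X r 0 u 0 = X r r u u * W 1 1 1 1 0 0 := by
    have e := wU_eq_of_sameWordMod (F := K) (p := 3) DataG2.valid r u shift_check.1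
    simp only [wordVal_append, Sys.wU_append, W_a_wU] at e
    simpa [Sys.wU, wordVal, pev, va, vb, X, Sys.xU_zero, mul_assoc] using e
  have h2 : W (1 : K) 1 1 1 0 0 * X 0 s 0 v = X 0 s 0 v * W 1 1 1 1 0 0 := by
    have e := wU_eq_of_sameWordMod (F := K) (p := 3) DataG2.valid s v shift_check.2.1
    simp only [wordVal_append, Sys.wU_append, W_a_wU] at e
    simpa [Sys.wU, wordVal, pev, va, vb, X, Sys.xU_zero, mul_assoc] using e
  calc W (1 : K) 1 1 1 0 0 * X r s u v = W 1 1 1 1 0 0 * (X r 0 u 0 * X 0 s 0 v) := by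
        rw [X_mul]; simp
    _ = X r r u u * (W 1 1 1 1 0 0 * X 0 s 0 v) := by rw [← mul_assoc, h1, mul_assoc]
    _ = X r r u u * X 0 s 0 v * W 1 1 1 1 0 0 := by rw [h2, mul_assoc]
    _ = _ := by rw [X_mul]; simp [add_comm r s, add_comm u v]

theorem a_cube : W (1 : K) 1 1 1 0 0 * W 1 1 1 1 0 0 * W 1 1 1 1 0 0 = X (0 : K) 2 0 2 := by
  have e := wU_eq_of_sameWordMod (F := K) (p := 3) DataG2.valid 0 0 shift_check.2.2
  simp only [wordVal_append, Sys.wU_append, W_a_wU] at e
  simpa [Sys.wU, wordVal, pev, vc, X, Sys.xU_zero, mul_assoc] using e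

variable (hK : Nat.card K = 3 ^ (2 * m + 1))

theorem two_ne_zero_K : (2 : K) ≠ 0 := Ring.two_ne_zero (by rw [ringChar.eq K 3]; norm_num)

theorem WR_one_eq (u v : K) : WR m 1 u v = W (1 : K) 1 1 1 0 0 * X (u ^ θ) (v ^ θ) u v := by
  rw [W_mul_X, WR]; simp

include hK in
theorem WR_one_cube (u v : K) : WR m 1 u v * WR m 1 u v * WR m 1 u v = WR m 0 0 2 := by
  set a := W (1 : K) 1 1 1 0 0 with ha
  set r := u ^ θ
  set s := v ^ θ
  have e : WR m 1 u v * WR m 1 u v * WR m 1 u v =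
      X (r + r + r) ((s + r) + (s + r + r) + (s + r + r + r)) (u + u + u)
        ((v + u) + (v + u + u) + (v + u + u + u)) * (a * a * a) := by
    rw [WR_one_eq, ← ha, ← X_mul, ← X_mul]
    calc a * X r s u v * (a * X r s u v) * (a * X r s u v)
        = X r (s + r) u (v + u) * a * (X r (s + r) u (v + u) * a) * (X r (s + r) u (v + u) * a) := by
          rw [ha, a_shift]
      _ = X r (s + r) u (v + u) * (a * X r (s + r) u (v + u)) * (a * X r (s + r) u (v + u)) * a := by group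
      _ = X r (s + r) u (v + u) * (X r (s + r + r) u (v + u + u) * a) *
            (X r (s + r + r) u (v + u + u) * a) * a := by rw [ha, a_shift]
      _ = X r (s + r) u (v + u) * X r (s + r + r) u (v + u + u) *
            (a * X r (s + r + r) u (v + u + u)) * a * a := by group
      _ = X r (s + r) u (v + u) * X r (s + r + r) u (v + u + u) *
            (X r (s + r + r + r) u (v + u + u + u) * a) * a * a := by rw [ha, a_shift]
      _ = _ := by group
  have h3 : (3 : K) = 0 := by exact_mod_cast CharP.cast_eq_zero K 3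
  have h2 : (2 : K) ^ θ = 2 := by
    rw [show (2 : K) = -1 by linear_combination h3, Odd.neg_one_pow (Odd.pow (by decide))]
  have hz : ∀ x : K, x + x + x = 0 := fun x => by linear_combination x * h3
  rw [e, ha, a_cube, X_mul, show WR m (0 : K) 0 2 = X (0 : K) 2 0 2 by
    simp [WR, W, X, zero_pow (theta_ne_zero m), Sys.xU_zero, h2]]
  congr 1 <;> first
    | linear_combination r * h3
    | linear_combination (s + 2 * r) * h3
    | linear_combination u * h3
    | linear_combination (v + 2 * u) * h3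

include hK in
theorem WR_one_cube_ne (u v : K) : WR m 1 u v * WR m 1 u v * WR m 1 u v ≠ 1 := by
  rw [WR_one_cube m hK]
  intro h
  exact two_ne_zero_K (K := K) (WR_inj m (h.trans (WR_zero m).symm)).2.2

include hK in
theorem cube_ne {t : K} (ht : t ≠ 0) (u v : K) : WR m t u v * WR m t u v * WR m t u v ≠ 1 := by
  obtain ⟨z, hz0, hzH, -⟩ := exists_coord m hK ((Units.mk0 t ht)⁻¹ ^ θ)
  have hc : (SG.chi z 6 : K) * t = 1 := by
    rw [chi6, coord_eq m hK hzH, hz0, Units.val_pow_eq_pow_val, pow_theta m hK, Units.val_inv_eq_inv_val,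
      Units.val_mk0, inv_mul_cancel₀ ht]
  intro h
  have e := WR_one_cube_ne m hK ((SG.chi z 10 : K) * u) ((SG.chi z 11 : K) * v)
  refine e ?_
  rw [← hc, ← torus_conj_WR m hK hzH]
  have hg : ∀ g x : GL chevG2.Idx K, g * x * g⁻¹ * (g * x * g⁻¹) * (g * x * g⁻¹) = g * (x * x * x) * g⁻¹ :=
    fun g x => by group
  rw [hg, h, mul_one, mul_inv_cancel]

include hK in
theorem cube_eq_one_iff (t u v : K) : WR m t u v ^ 3 = 1 ↔ t = 0 := by
  rw [pow_succ, pow_two]
  refine ⟨fun h => by_contra fun ht => cube_ne m hK ht u v h, ?_⟩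
  rintro rfl
  have h3 : ∀ x : K, x + x + x = 0 := fun x => by
    linear_combination x * (by exact_mod_cast CharP.cast_eq_zero K 3 : (3 : K) = 0)
  rw [WR_add, WR_add, h3, h3, WR_zero]

/-! ### Cosets of the Borel subgroup -/

local notation "G¹" => twistedG2 K (3 ^ m : ℕ)

include hK in
theorem borel_inf_eq : chevG2.borelSubgroup K ⊓ twistedG2 K θ = (gdata K m hK).B1 :=
  (gdata K m hK).borel_inf_G1

include hK in
theorem eq_one_of_conj_borel {x : GL chevG2.Idx K} (hx : x ∈ chevG2.posUnipotent K)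
    (h : (nJ K)⁻¹ * x * nJ K ∈ chevG2.borelSubgroup K) : x = 1 := by
  have hinv : SG.Acts (nJ K)⁻¹ (wdata.{u}.wJ 0) := (gdata K m hK).nJ_inv_acts 0
  have h1 : (nJ K)⁻¹ * x * nJ K ∈ chevG2.negUnipotent K := by
    have := SG.uminus_conj_neg hinv (x := x) (by rw [uminus_eq]; exact hx)
    rwa [inv_inv] at this
  have h2 := Subgroup.mem_inf.2 ⟨h, h1⟩
  rw [SG.borel_inf_neg, Subgroup.mem_bot] at h2
  rw [show x = nJ K * ((nJ K)⁻¹ * x * nJ K) * (nJ K)⁻¹ by group, h2, mul_one, mul_inv_cancel]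

include hK in
/-- An element outside `B¹` is `u n b`. -/
theorem exists_unb {g : GL chevG2.Idx K} (hg : g ∈ twistedG2 K θ) (hgB : g ∉ chevG2.borelSubgroup K) :
    ∃ u ∈ chevG2.posUnipotent K ⊓ twistedG2 K θ, ∃ b ∈ chevG2.borelSubgroup K ⊓ twistedG2 K θ,
      g = u * nJ K * b := by
  rw [borel_inf_eq m hK, show chevG2.posUnipotent K ⊓ twistedG2 K θ = (gdata K m hK).U1 from
    (gdata K m hK).pos_inf_G1]
  obtain ⟨b, hb, n, hn, w, hwg, hw, c, hc, rfl⟩ := (gdata K m hK).exists_normal_form hg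
  rcases good_cases hwg with rfl | rfl
  · refine absurd ?_ hgB
    have hnH : n ∈ chevG2.diagonalSubgroup K :=
      SG.mem_diag_of_pos ((gdata K m hK).N1_le_mono hn) hw fun r hr => hr
    exact mul_mem (mul_mem ((gdata K m hK).B1_le_borel hb) (Subgroup.mem_sup_right hnH))
      (Subgroup.mem_sup_left (SG.genBy_le_pos _ (Subgroup.mem_inf.1 hc).1))
  · obtain ⟨u, hu, h, hh, rfl⟩ := hb
    have hd : n * (nJ K)⁻¹ ∈ (gdata K m hK).H1 :=
      (gdata K m hK).N1_eq_mod hn ((gdata K m hK).nJ_mem_N1 0) hw acts_nJ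
    have hd' := (gdata K m hK).H1_conj 0 _ (mul_mem hh hd)
    have hs := (gdata K m hK).nJ_sq 0
    refine ⟨u, hu, (nJ K)⁻¹ * (h * (n * (nJ K)⁻¹)) * nJ K * c, mul_mem ?_ ((gdata K m hK).U1_le_B1
      (Subgroup.mem_inf.2 ⟨SG.genBy_le_pos _ (Subgroup.mem_inf.1 hc).1, (Subgroup.mem_inf.1 hc).2⟩)),
      by group⟩
    refine (gdata K m hK).H1_le_B1 ?_
    rw [show (nJ K)⁻¹ * (h * (n * (nJ K)⁻¹)) * nJ K =
      (nJ K * nJ K)⁻¹ * (nJ K * (h * (n * (nJ K)⁻¹)) * (nJ K)⁻¹) * (nJ K * nJ K) by group]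
    exact mul_mem (mul_mem (inv_mem hs) hd') hs

theorem borel_conj_pos {g x : GL chevG2.Idx K} (hg : g ∈ chevG2.borelSubgroup K)
    (hx : x ∈ chevG2.posUnipotent K) : g * x * g⁻¹ ∈ chevG2.posUnipotent K := by
  obtain ⟨u, hu, h, hh, rfl⟩ := SG.mem_borel_iff.1 hg
  rw [show u * h * x * (u * h)⁻¹ = u * (h * x * h⁻¹) * u⁻¹ by group]
  exact mul_mem (mul_mem hu (SG.diag_conj_pos hh hx)) (inv_mem hu)

end CfsgLib.Chev.Ree
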