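import Cfsg.Agent.Chev.Ree.HallTori
import Cfsg.Agent.Chev.Ree.ConjCount

/-! The elements of a small Ree group, counted by the types of their orders. -/

set_option autoImplicit false
set_option maxRecDepth 100000
set_option linter.style.haveILetI false
set_option linter.unusedSectionVars false

namespace CfsgLib.Chev.Ree

open Cfsg.Lie CfsgLib.Chev Matrix CfsgLib.SL2

universe u

variable {K : Type u} [Field K] [Finite K] [CharP K 3] (m : ℕ)

local notation "G¹" => twistedG2 K (3 ^ m)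
local notation "k₁" => ((3 ^ (2 * m + 1) - 1) / 2)
local notation "k₂" => ((3 ^ (2 * m + 1) + 1) / 4)
local notation "qq" => (3 ^ (2 * m + 1) : ℕ)

variable (hK : Nat.card K = 3 ^ (2 * m + 1))

/-! ### Elements of odd order in `PSL₂(q)` -/

include hK in
theorem pow_mem_CV {x y : ProjectiveSpecialLinearGroup (Fin 2) K} (h2 : x * x = 1) (h1 : x ≠ 1)
    (hy : y * x = x * y) : y ^ (2 * k₂) = 1 := by
  obtain ⟨hk, -, -⟩ := k2_facts (K := K) m hK
  have h : y ^ (4 * k₂) = 1 := by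
    rw [hk, ← card_centralizer_involution m hK h2 h1]
    exact congrArg Subtype.val (pow_card_eq_one' (x := (⟨y, Subgroup.mem_centralizer_singleton_iff.2 hy⟩ :
      ↥(Subgroup.centralizer ({x} : Set (ProjectiveSpecialLinearGroup (Fin 2) K))))))
  have := psl_sq_eq_one m hK (x := y ^ k₂) (k := 2) (by rw [← pow_mul, show k₂ * 2 ^ 2 = 4 * k₂ by ring, h])
  rwa [← pow_add, ← two_mul] at this

include hK in
theorem conjSet_psl_eq {x : ProjectiveSpecialLinearGroup (Fin 2) K} (h2 : x * x = 1) (h1 : x ≠ 1) :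
    GL0.conjSet {y | y ^ k₂ = x} = {y : ProjectiveSpecialLinearGroup (Fin 2) K | Even (orderOf y)} := by
  ext y
  constructor
  · rintro ⟨g, hg⟩
    by_contra hne
    change ¬ Even (orderOf y) at hne
    obtain ⟨j, hj⟩ := Nat.not_even_iff_odd.1 hne
    change (g * y * g⁻¹) ^ k₂ = x at hg
    have : x ^ orderOf y = 1 := by
      rw [← hg, conj_pow, conj_pow, ← pow_mul, mul_comm, pow_mul, pow_orderOf_eq_one]
      simp
    rw [hj, pow_succ, pow_mul, pow_two, h2, one_pow, one_mul] at this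
    exact h1 this
  · intro (hev : Even (orderOf y))
    obtain ⟨j, hj⟩ := hev
    have hpos := orderOf_pos y
    have hw2 : y ^ j * y ^ j = 1 := by rw [← pow_add, ← hj, pow_orderOf_eq_one]
    have hw1 : y ^ j ≠ 1 := fun e => by
      have := Nat.le_of_dvd (by omega) (orderOf_dvd_of_pow_eq_one e); omega
    obtain ⟨g1, hg1, ht1⟩ := tr_zero_of_involution m hK h2 h1
    obtain ⟨g2, hg2, ht2⟩ := tr_zero_of_involution m hK hw2 hw1
    obtain ⟨a, ha⟩ := isConj_iff.1 (isConj_of_tr_eq' (h := g1) (tr_zero_sq_ne_four two_ne_zero' ht2) (ht2.trans ht1.symm))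
    have hc : proj a * y ^ j * (proj a)⁻¹ = x := by
      rw [← hg2, ← map_inv, ← map_mul, ← map_mul, ha, hg1]
    set y' := proj a * y * (proj a)⁻¹ with hy'
    have hy'j : y' ^ j = x := by rw [hy', conj_pow, hc]
    have hcomm : y' * x = x * y' := by rw [← hy'j]; exact ((Commute.refl y').pow_right j).eq
    have hd : 2 * j ∣ 2 * k₂ := by
      rw [show 2 * j = orderOf y' by rw [hy', ← MulAut.conj_apply, MulEquiv.orderOf_eq]; omega]
      exact orderOf_dvd_of_pow_eq_one (pow_mem_CV m hK h2 h1 hcomm)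
    obtain ⟨i, hi⟩ := Nat.dvd_of_mul_dvd_mul_left (by norm_num) hd
    obtain ⟨l, hl⟩ : Odd i := (k2_facts (K := K) m hK).2.1.of_dvd_nat ⟨j, by rw [hi]; ring⟩
    refine ⟨proj a, ?_⟩
    show y' ^ k₂ = x
    rw [hi, pow_mul, hy'j, hl, pow_succ, pow_mul, pow_two, h2, one_pow, one_mul]

include hK in
theorem card_psl_even : Set.ncard {y : ProjectiveSpecialLinearGroup (Fin 2) K | Even (orderOf y)} * (qq + 1) =
    Nat.card (ProjectiveSpecialLinearGroup (Fin 2) K) * k₂ := by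
  obtain ⟨c, hc, hcx⟩ := exists_c m hK (x := wP K) wP_mul_self wP_ne_one
  obtain ⟨hk, hodd, -⟩ := k2_facts (K := K) m hK
  set x := wP K
  have hW : {y : ProjectiveSpecialLinearGroup (Fin 2) K | y ^ k₂ = x} =
      (fun z => c * z) '' (Subgroup.zpowers (c ^ 2) : Set (ProjectiveSpecialLinearGroup (Fin 2) K)) := by
    ext y
    constructor
    · intro (hy : y ^ k₂ = x)
      have hyx : y * x = x * y := by rw [← hy]; exact ((Commute.refl y).pow_right _).eq
      set C := Subgroup.centralizer ({x} : Set (ProjectiveSpecialLinearGroup (Fin 2) K))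
      have hZC : Subgroup.zpowers c ≤ C := Subgroup.zpowers_le.2 (Subgroup.mem_centralizer_singleton_iff.2
        (hcx ▸ (Commute.refl c).pow_right _))
      have hidx : ((Subgroup.zpowers c).subgroupOf C).index = 2 := by
        have h := Subgroup.card_mul_index ((Subgroup.zpowers c).subgroupOf C)
        rw [card_centralizer_involution m hK wP_mul_self wP_ne_one, ← hk,
          Nat.card_congr (Subgroup.subgroupOfEquivOfLe hZC).toEquiv, Nat.card_zpowers, hc] at h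
        have hpos : 0 < k₂ := hodd.pos
        nlinarith
      have hy2 : y ^ 2 ∈ Subgroup.zpowers c := Subgroup.sq_mem_of_index_two hidx
        (⟨y, Subgroup.mem_centralizer_singleton_iff.2 hyx⟩ : ↥C)
      obtain ⟨l, hl⟩ := hodd
      have hyc : y ∈ Subgroup.zpowers c := by
        have e : y = ((y ^ 2) ^ l)⁻¹ * y ^ k₂ := by rw [hl, pow_succ y (2 * l), pow_mul]; group
        rw [e, hy, ← hcx]
        exact mul_mem (inv_mem (pow_mem hy2 _)) (pow_mem (Subgroup.mem_zpowers c) _)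
      obtain ⟨i, rfl⟩ := Subgroup.mem_zpowers_iff.1 hyc
      refine ⟨c⁻¹ * c ^ i, ?_, mul_inv_cancel_left c _⟩
      have e1 : c ^ ((i - 1) * ((k₂ : ℕ) : ℤ)) = 1 := by
        rw [sub_mul, one_mul, _root_.zpow_sub, _root_.zpow_mul, zpow_natCast, zpow_natCast, _root_.mul_inv_eq_one]
        exact hy.trans hcx.symm
      have hd : (orderOf c : ℤ) ∣ (i - 1) * ((k₂ : ℕ) : ℤ) := orderOf_dvd_iff_zpow_eq_one.2 e1
      rw [hc] at hd
      push_cast at hd
      obtain ⟨s, hs⟩ := (mul_dvd_mul_iff_right (Nat.cast_ne_zero.2 (by rw [hl]; exact Nat.succ_ne_zero _) : ((k₂ : ℕ) : ℤ) ≠ 0)).1 hd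
      refine Subgroup.mem_zpowers_iff.2 ⟨s, ?_⟩
      rw [← zpow_natCast, ← _root_.zpow_mul, Nat.cast_ofNat, ← hs, _root_.zpow_sub, _root_.zpow_one]
      exact ((Commute.refl c).zpow_left i).inv_right.eq
    · rintro ⟨z, hz, rfl⟩
      obtain ⟨i, rfl⟩ := Subgroup.mem_zpowers_iff.1 hz
      show (c * (c ^ 2) ^ i) ^ k₂ = x
      rw [(((Commute.refl c).pow_right 2).zpow_right i).mul_pow, hcx]
      have h1 : ((c ^ 2) ^ i) ^ k₂ = 1 := by
        rw [← zpow_natCast, zpow_comm, zpow_natCast, ← pow_mul, ← hc, pow_orderOf_eq_one, _root_.one_zpow]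
      rw [h1, mul_one]
  have h := GL0.card_conjSet (W := {y : ProjectiveSpecialLinearGroup (Fin 2) K | y ^ k₂ = x})
    (N := Subgroup.centralizer {x}) (fun n hn y (hy : y ^ k₂ = x) => by
      show (n * y * n⁻¹) ^ k₂ = x
      rw [conj_pow, hy, Subgroup.mem_centralizer_singleton_iff.1 hn, mul_inv_cancel_right])
    (fun y (hy : y ^ k₂ = x) g (hg : (g * y * g⁻¹) ^ k₂ = x) => by
      rw [conj_pow, hy, mul_inv_eq_iff_eq_mul] at hg
      exact Subgroup.mem_centralizer_singleton_iff.2 hg)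
  rw [conjSet_psl_eq m hK wP_mul_self wP_ne_one, card_centralizer_involution m hK wP_mul_self wP_ne_one] at h
  rw [h, hW, Set.ncard_image_of_injective _ (mul_right_injective c), ← Nat.card_coe_set_eq, SetLike.coe_sort_coe,
    Nat.card_zpowers, orderOf_pow' _ (by norm_num), hc, Nat.gcd_eq_right (dvd_mul_right 2 _),
    Nat.mul_div_cancel_left _ (by norm_num)]

include hK in
theorem card_psl_odd : 8 * Set.ncard {y : ProjectiveSpecialLinearGroup (Fin 2) K | Odd (orderOf y)} =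
    3 * (qq * (qq ^ 2 - 1)) := by
  have h := card_psl_even (K := K) m hK
  obtain ⟨hk, hodd, -⟩ := k2_facts (K := K) m hK
  generalize k₂ = v at h hk hodd
  rw [← hk] at h
  have h4 : 4 * Set.ncard {y : ProjectiveSpecialLinearGroup (Fin 2) K | Even (orderOf y)} =
      Nat.card (ProjectiveSpecialLinearGroup (Fin 2) K) := by
    have hpos : 0 < v := hodd.pos
    nlinarith
  have hc : {y : ProjectiveSpecialLinearGroup (Fin 2) K | Odd (orderOf y)} =
      {y : ProjectiveSpecialLinearGroup (Fin 2) K | Even (orderOf y)}ᶜ := by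
    ext y; exact Nat.not_even_iff_odd.symm
  have h5 := Set.ncard_add_ncard_compl {y : ProjectiveSpecialLinearGroup (Fin 2) K | Even (orderOf y)}
  rw [← hc] at h5
  rw [← two_mul_card_PSL m hK]
  omega

/-! ### The types of elements -/

include hK in
theorem conjSet_W4 : GL0.conjSet {y : ↥G¹ | ∃ z, Odd (orderOf z) ∧ y = hmG K m * psl K m hK z} =
    {y : ↥G¹ | Even (orderOf y)} := by
  ext y
  have hpow : ∀ (z : ProjectiveSpecialLinearGroup (Fin 2) K) (n : ℕ),
      (hmG K m * psl K m hK z) ^ n = hmG K m ^ n * psl K m hK (z ^ n) := fun z n => by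
    rw [(show Commute (hmG K m) (psl K m hK z) from hm_comm_psl m hK z).mul_pow, map_pow]
  constructor
  · rintro ⟨g, z, -, hz⟩
    by_contra hne
    change ¬ Even (orderOf y) at hne
    obtain ⟨j, hj⟩ := Nat.not_even_iff_odd.1 hne
    have h : (g * y * g⁻¹) ^ orderOf y = 1 := by rw [conj_pow, pow_orderOf_eq_one]; group
    rw [hz, hpow, hj, pow_succ (hmG K m), pow_mul, pow_two, hmG_mul_self m hK, one_pow, one_mul] at h
    exact psl_ne_hm m hK (z ^ (2 * j + 1)) (by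
      rw [eq_inv_of_mul_eq_one_right h, inv_eq_of_mul_eq_one_right (hmG_mul_self m hK)])
  · intro (hev : Even (orderOf y))
    obtain ⟨j, hj⟩ := hev
    have hpos := orderOf_pos y
    have hi2 : y ^ j * y ^ j = 1 := by rw [← pow_add, ← hj, pow_orderOf_eq_one]
    have hi1 : y ^ j ≠ 1 := fun e => by
      have := Nat.le_of_dvd (by omega) (orderOf_dvd_of_pow_eq_one e); omega
    obtain ⟨g, hg⟩ := isConj_iff.1 (isConj_hm m hK hi2 hi1)
    set y' := g * y * g⁻¹ with hy'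
    have hy'j : y' ^ j = hmG K m := by rw [hy', conj_pow, hg]
    have hC : y' ∈ Ch K m := (mem_Ch m).2 (by rw [← hy'j]; exact ((Commute.refl y').pow_left j).eq)
    obtain ⟨z, hz | hz⟩ := mem_centralizer_hm m hK ((mem_Ch m).1 hC)
    · exact absurd (by rw [map_pow, ← hz, hy'j]) (psl_ne_hm m hK (z ^ j))
    · refine ⟨g, z, ?_, hz⟩
      rw [hz, hpow] at hy'j
      rcases Nat.even_or_odd j with ⟨i, hi⟩ | hjo
      · rw [hi, pow_add (hmG K m), ← (Commute.refl (hmG K m)).mul_pow, hmG_mul_self m hK, one_pow, one_mul] at hy'j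
        exact absurd hy'j (psl_ne_hm m hK _)
      · obtain ⟨i, hi⟩ := id hjo
        have hh : hmG K m ^ j = hmG K m := by
          rw [hi, pow_succ, pow_mul, pow_two, hmG_mul_self m hK, one_pow, one_mul]
        rw [hh, mul_eq_left, ← map_one (psl K m hK)] at hy'j
        exact hjo.of_dvd_nat (orderOf_dvd_of_pow_eq_one (psl_injective m hK hy'j))

include hK in
theorem card_even : 8 * Set.ncard {y : ↥G¹ | Even (orderOf y)} = 3 * Nat.card ↥G¹ := by
  have hpow : ∀ (z : ProjectiveSpecialLinearGroup (Fin 2) K) (n : ℕ), Odd n → z ^ n = 1 →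
      (hmG K m * psl K m hK z) ^ n = hmG K m := fun z n hn h => by
    obtain ⟨l, rfl⟩ := hn
    rw [(show Commute (hmG K m) (psl K m hK z) from hm_comm_psl m hK z).mul_pow, ← map_pow, h, map_one, mul_one,
      pow_succ, pow_mul, pow_two, hmG_mul_self m hK, one_pow, one_mul]
  have h := GL0.card_conjSet (W := {y : ↥G¹ | ∃ z, Odd (orderOf z) ∧ y = hmG K m * psl K m hK z}) (N := Ch K m)
    (by
      rintro n hn _ ⟨z, hz, rfl⟩
      obtain ⟨w, hw⟩ := hm_psl_conj m hK hn z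
      refine ⟨w, ?_, ?_⟩
      · rwa [← orderOf_injective (psl K m hK) (psl_injective m hK) w, ← hw, ← MulAut.conj_apply,
          MulEquiv.orderOf_eq, orderOf_injective (psl K m hK) (psl_injective m hK) z]
      · rw [show n * (hmG K m * psl K m hK z) * n⁻¹ = (n * hmG K m * n⁻¹) * (n * psl K m hK z * n⁻¹) by group,
          ← (mem_Ch m).1 hn, mul_inv_cancel_right, hw])
    (by
      rintro _ ⟨z, hz, rfl⟩ g ⟨w, hw, hgw⟩
      have h1 := hpow z _ (hz.mul hw) (by rw [pow_mul, pow_orderOf_eq_one, one_pow])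
      have h2 := hpow w _ (hz.mul hw) (by rw [mul_comm, pow_mul, pow_orderOf_eq_one, one_pow])
      rw [← hgw, conj_pow, h1, mul_inv_eq_iff_eq_mul] at h2
      exact (mem_Ch m).2 h2.symm)
  rw [conjSet_W4 m hK, card_Ch m hK] at h
  have hW : {y : ↥G¹ | ∃ z, Odd (orderOf z) ∧ y = hmG K m * psl K m hK z} =
      (fun z => hmG K m * psl K m hK z) '' {z | Odd (orderOf z)} := by
    ext y
    exact ⟨fun ⟨z, hz, e⟩ => ⟨z, hz, e.symm⟩, fun ⟨z, hz, e⟩ => ⟨z, hz, e.symm⟩⟩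
  rw [hW, Set.ncard_image_of_injective (f := fun z => hmG K m * psl K m hK z) _
    (fun a b e => psl_injective m hK (mul_left_cancel e))] at h
  have h8 := card_psl_odd (K := K) m hK
  have hpos : 0 < qq * (qq ^ 2 - 1) := by
    have : 3 ≤ qq := Nat.le_self_pow (by omega) 3
    exact Nat.mul_pos (by omega) (Nat.sub_pos_of_lt (by nlinarith))
  refine Nat.eq_of_mul_eq_mul_right hpos ?_
  rw [mul_assoc, h, mul_left_comm, h8]
  ring

include hK in
theorem mem_of_prime_k1 {y : ↥G¹} (ho : Odd (orderOf y)) {p : ℕ} (hp : p.Prime) (hpd : p ∣ orderOf y)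
    (hk : p ∣ k₁) : ∃ g : ↥G¹, g * y * g⁻¹ ∈ A1 K m := by
  set z := y ^ (orderOf y / p)
  have hzo : orderOf z = p := orderOf_pow_orderOf_div (orderOf_pos y).ne' hpd
  obtain ⟨g, hg⟩ := conj_into_A1 m hK hp hk (x := z) (n := 1) (by rw [pow_one, ← hzo, pow_orderOf_eq_one])
  have hg1 : g * z * g⁻¹ ≠ 1 := fun e => by
    rw [conj_eq_one_iff] at e; rw [e, orderOf_one] at hzo; exact hp.one_lt.ne hzo
  have hmem : g * y * g⁻¹ ∈ TG K m := by
    rw [← centralizer_TG m hK (A1_le m hg) (A1_sq_ne m hK hg hg1), Subgroup.mem_centralizer_singleton_iff,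
      show z = y ^ (orderOf y / p) from rfl, ← conj_pow]
    exact ((Commute.refl _).pow_right _).eq
  refine ⟨g, (mem_A1 m hK).2 ⟨hmem, orderOf_dvd_iff_pow_eq_one.1 ?_⟩⟩
  have hd : orderOf (g * y * g⁻¹) ∣ 2 * k₁ := by
    rw [(k1_facts (K := K) m hK).1, ← card_TG m hK, ← Subgroup.orderOf_mk _ hmem]
    exact orderOf_dvd_natCard _
  rw [← MulAut.conj_apply, MulEquiv.orderOf_eq] at hd ⊢
  exact (Nat.coprime_two_right.2 ho).dvd_of_dvd_mul_left hd

include hK in
theorem mem_of_prime_k2 (hm : 1 ≤ m) {y : ↥G¹} (ho : Odd (orderOf y)) {p : ℕ} (hp : p.Prime) (hpd : p ∣ orderOf y)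
    (hk : p ∣ k₂) : ∃ g : ↥G¹, g * y * g⁻¹ ∈ A2 K m hK := by
  set z := y ^ (orderOf y / p)
  have hzo : orderOf z = p := orderOf_pow_orderOf_div (orderOf_pos y).ne' hpd
  obtain ⟨g, hg⟩ := conj_into_A2 m hK hp hk (x := z) (n := 1) (by rw [pow_one, ← hzo, pow_orderOf_eq_one])
  have hg1 : g * z * g⁻¹ ≠ 1 := fun e => by
    rw [conj_eq_one_iff] at e; rw [e, orderOf_one] at hzo; exact hp.one_lt.ne hzo
  have hmem : g * y * g⁻¹ ∈ DQ K m hK := by
    rw [← centralizer_A2_elem m hK hg hg1, Subgroup.mem_centralizer_singleton_iff,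
      show z = y ^ (orderOf y / p) from rfl, ← conj_pow]
    exact ((Commute.refl _).pow_right _).eq
  refine ⟨g, mem_A2_of_pow m hK hmem (orderOf_dvd_iff_pow_eq_one.1 ?_)⟩
  have hd : orderOf (g * y * g⁻¹) ∣ 4 * k₂ := by
    rw [(k2_facts (K := K) m hK).1, ← card_DQ m hK hm, ← Subgroup.orderOf_mk _ hmem]
    exact orderOf_dvd_natCard _
  rw [← MulAut.conj_apply, MulEquiv.orderOf_eq] at hd ⊢
  exact (Nat.Coprime.pow_right 2 (Nat.coprime_two_right.2 ho)).dvd_of_dvd_mul_left hd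

include hK in
/-- The five types of orders. -/
theorem type_cases (hm : 1 ≤ m) {y : ↥G¹} (hy : y ≠ 1) :
    Even (orderOf y) ∨ y ^ qq ^ 3 = 1 ∨ y ^ k₁ = 1 ∨ y ^ k₂ = 1 ∨ y ^ Nq m = 1 := by
  rcases Nat.even_or_odd (orderOf y) with h | ho
  · exact Or.inl h
  refine Or.inr ?_
  by_cases h3 : ∀ p : ℕ, p.Prime → p ∣ orderOf y → p = 3
  · left
    rw [← orderOf_dvd_iff_pow_eq_one]
    obtain ⟨j, hj⟩ : ∃ j, orderOf y = 3 ^ j :=
      ⟨_, Nat.eq_prime_pow_of_unique_prime_dvd (orderOf_pos y).ne' (fun hp hd => h3 _ hp hd)⟩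
    have hd := orderOf_dvd_natCard y
    rw [card_group m hK, mul_assoc, hj] at hd
    rw [hj]
    refine (Nat.Coprime.pow_left j ?_).dvd_of_dvd_mul_right hd
    rw [Nat.prime_three.coprime_iff_not_dvd]
    intro h
    have hq3 : (3 : ℕ) ∣ qq := dvd_pow_self 3 (by omega)
    have := Nat.one_le_pow (2 * m + 1) 3 (by norm_num)
    rcases Nat.prime_three.dvd_mul.1 h with h | h
    · omega
    · have := dvd_pow hq3 (show 3 ≠ 0 by norm_num); omega
  · push Not at h3
    obtain ⟨p, hp, hpd, hp3⟩ := h3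
    have hp2 : p ≠ 2 := fun e => Nat.not_even_iff_odd.2 ho (even_iff_two_dvd.2 (e ▸ hpd))
    have hd := hpd.trans (orderOf_dvd_natCard y)
    rw [card_group_Nq m hK] at hd
    rcases hp.dvd_mul.1 hd with hd | hd
    · rcases hp.dvd_mul.1 hd with hd | hd
      · rcases hp.dvd_mul.1 hd with hd | hd
        · exact absurd ((Nat.prime_dvd_prime_iff_eq hp Nat.prime_three).1 (hp.dvd_of_dvd_pow (hp.dvd_of_dvd_pow hd))) hp3
        · rw [← (k1_facts (K := K) m hK).1] at hd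
          have h1 := (hp.dvd_mul.1 hd).resolve_left fun e => hp2 ((Nat.prime_dvd_prime_iff_eq hp Nat.prime_two).1 e)
          obtain ⟨g, hg⟩ := mem_of_prime_k1 m hK ho hp hpd h1
          exact Or.inr (Or.inl (conj_eq_one_iff.1 (conj_pow.symm.trans ((mem_A1 m hK).1 hg).2)))
      · rw [← (k2_facts (K := K) m hK).1] at hd
        have h1 := (hp.dvd_mul.1 hd).resolve_left fun e =>
          hp2 ((Nat.prime_dvd_prime_iff_eq hp Nat.prime_two).1 (hp.dvd_of_dvd_pow (show p ∣ 2 ^ 2 from e)))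
        obtain ⟨g, hg⟩ := mem_of_prime_k2 m hK hm ho hp hpd h1
        exact Or.inr (Or.inr (Or.inl (conj_eq_one_iff.1 (conj_pow.symm.trans (pow_of_mem_A2 m hK hg)))))
    · set z := y ^ (orderOf y / p) with hz
      have hzo : orderOf z = p := orderOf_pow_orderOf_div (orderOf_pos y).ne' hpd
      have hx : IsTorusElt m z := ⟨hzo ▸ hp, hzo ▸ hd⟩
      have hy' : y ∈ Subgroup.centralizer {z} := Subgroup.mem_centralizer_singleton_iff.2
        ((Commute.refl y).pow_right _).eq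
      refine Or.inr (Or.inr (Or.inr (orderOf_dvd_iff_pow_eq_one.1 (Dvd.dvd.trans ?_ (card_torus_dvd m hK hm hx)))))
      rw [← Subgroup.orderOf_mk y hy']
      exact orderOf_dvd_natCard _

include hK in
theorem coprimes : Nat.Coprime (qq ^ 3) k₁ ∧ Nat.Coprime (qq ^ 3) k₂ ∧ Nat.Coprime (qq ^ 3) (Nq m) ∧
    Nat.Coprime k₁ k₂ ∧ Nat.Coprime k₁ (Nq m) ∧ Nat.Coprime k₂ (Nq m) ∧ Odd (Nq m) := by
  obtain ⟨h1, h1o⟩ := k1_facts (K := K) m hK
  obtain ⟨h2, h2o, -⟩ := k2_facts (K := K) m hK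
  have hq : 1 ≤ qq := Nat.one_le_pow _ _ (by norm_num)
  have h3q : (3 : ℕ) ∣ qq := dvd_pow_self 3 (by omega)
  have e3 : ∀ n, ¬ 3 ∣ n → Nat.Coprime (qq ^ 3) n := fun n hn =>
    Nat.Coprime.pow_left _ (Nat.Coprime.pow_left _ (Nat.prime_three.coprime_iff_not_dvd.2 hn))
  refine ⟨e3 _ (by omega), e3 _ (by omega), e3 _ fun h => ?_, ?_, ?_, ?_, ?_⟩
  · exact (prime_dvd_Nq m Nat.prime_three h).2.1 rfl
  · refine Nat.coprime_of_dvd fun p hp ha hb => ?_
    have := Nat.dvd_sub (h2 ▸ hb.mul_left 4) (h1 ▸ ha.mul_left 2)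
    rw [show qq + 1 - (qq - 1) = 2 by omega, Nat.prime_dvd_prime_iff_eq hp Nat.prime_two] at this
    exact absurd (h1o.of_dvd_nat (this ▸ ha)) (by decide)
  · exact Nat.coprime_of_dvd fun p hp ha hb => (prime_dvd_Nq m hp hb).2.2.1 (h1 ▸ ha.mul_left 2)
  · exact Nat.coprime_of_dvd fun p hp ha hb => (prime_dvd_Nq m hp hb).2.2.2.1 (h2 ▸ ha.mul_left 4)
  · rw [← Nat.not_even_iff_odd, even_iff_two_dvd]
    exact fun h => (prime_dvd_Nq m Nat.prime_two h).1 rfl

include hK in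
/-- The number of elements with order dividing `q² - q + 1`. -/
theorem card_EN (hm : 1 ≤ m) : 3 * (Set.ncard {y : ↥G¹ | y ≠ 1 ∧ y ^ Nq m = 1} : ℤ) =
    (3 ^ (2 * m + 1) : ℤ) ^ 4 * (((3 : ℤ) ^ (2 * m + 1)) ^ 2 - 1) * ((3 : ℤ) ^ (2 * m + 1) - 2) := by
  classical
  obtain ⟨c31, c32, c3N, c12, c1N, c2N, hNo⟩ := coprimes (K := K) m hK
  set S4 := {y : ↥G¹ | Even (orderOf y)}
  set S3 := {y : ↥G¹ | y ≠ 1 ∧ y ^ qq ^ 3 = 1}
  set S1 := {y : ↥G¹ | y ≠ 1 ∧ y ^ k₁ = 1}
  set S2 := {y : ↥G¹ | y ≠ 1 ∧ y ^ k₂ = 1}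
  set SN := {y : ↥G¹ | y ≠ 1 ∧ y ^ Nq m = 1}
  have hdisj : ∀ {a b : ℕ}, Nat.Coprime a b →
      Disjoint {y : ↥G¹ | y ≠ 1 ∧ y ^ a = 1} {y : ↥G¹ | y ≠ 1 ∧ y ^ b = 1} := by
    intro a b hab
    rw [Set.disjoint_left]
    rintro y ⟨hy, ha⟩ ⟨-, hb⟩
    have := pow_gcd_eq_one.2 ⟨ha, hb⟩
    rw [hab.gcd_eq_one, pow_one] at this
    exact hy this
  have hdisj4 : ∀ {a : ℕ}, Odd a → Disjoint S4 {y : ↥G¹ | y ≠ 1 ∧ y ^ a = 1} := by
    intro a ha
    rw [Set.disjoint_left]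
    rintro y hy ⟨-, hy'⟩
    exact Nat.not_even_iff_odd.2 (ha.of_dvd_nat (orderOf_dvd_of_pow_eq_one hy')) hy
  have hcover : ((((({1} : Set ↥G¹) ∪ S4) ∪ S3) ∪ S1) ∪ S2) ∪ SN = Set.univ := by
    refine Set.eq_univ_of_forall fun y => ?_
    rcases eq_or_ne y 1 with rfl | hy
    · simp
    rcases type_cases m hK hm hy with h | h | h | h | h
    · exact Or.inl (Or.inl (Or.inl (Or.inl (Or.inr h))))
    · exact Or.inl (Or.inl (Or.inl (Or.inr ⟨hy, h⟩)))
    · exact Or.inl (Or.inl (Or.inr ⟨hy, h⟩))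
    · exact Or.inl (Or.inr ⟨hy, h⟩)
    · exact Or.inr ⟨hy, h⟩
  have h1S4 : Disjoint ({1} : Set ↥G¹) S4 := Set.disjoint_singleton_left.2 (by simp [S4])
  have h1 : ∀ a : ℕ, Disjoint ({1} : Set ↥G¹) {y : ↥G¹ | y ≠ 1 ∧ y ^ a = 1} := fun a =>
    Set.disjoint_singleton_left.2 (fun h => h.1 rfl)
  obtain ⟨-, h1o⟩ := k1_facts (K := K) m hK
  obtain ⟨-, h2o, -⟩ := k2_facts (K := K) m hK
  have h3o : Odd (qq ^ 3) := Odd.pow (Odd.pow (by decide))
  have hsum := congrArg Set.ncard hcover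
  rw [Set.ncard_univ,
    Set.ncard_union_eq (by
      simp only [Set.disjoint_union_left]
      exact ⟨⟨⟨⟨h1 _, hdisj4 hNo⟩, hdisj c3N⟩, hdisj c1N⟩, hdisj c2N⟩),
    Set.ncard_union_eq (by
      simp only [Set.disjoint_union_left]
      exact ⟨⟨⟨h1 _, hdisj4 h2o⟩, hdisj c32⟩, hdisj c12⟩),
    Set.ncard_union_eq (by
      simp only [Set.disjoint_union_left]
      exact ⟨⟨h1 _, hdisj4 h1o⟩, hdisj c31⟩),
    Set.ncard_union_eq (by
      simp only [Set.disjoint_union_left]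
      exact ⟨h1 _, hdisj4 h3o⟩),
    Set.ncard_union_eq h1S4, Set.ncard_singleton] at hsum
  -- the three families
  haveI : Fact (Nat.Prime 3) := ⟨Nat.prime_three⟩
  have hq : 1 ≤ qq := Nat.one_le_pow _ _ (by norm_num)
  have e3 : S3.ncard * (qq ^ 3 * (qq - 1)) = Nat.card ↥G¹ * (qq ^ 3 - 1) := by
    set U := (chevG2.posUnipotent K ⊓ G¹).subgroupOf G¹ with hUdef
    have hU : Nat.card ↥U = qq ^ 3 := by
      rw [hUdef, Nat.card_congr (Subgroup.subgroupOfEquivOfLe inf_le_right).toEquiv, card_pos_inf m hK]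
    set B := (chevG2.borelSubgroup K ⊓ G¹).subgroupOf G¹ with hBdef
    have hB : Nat.card ↥B = qq ^ 3 * (qq - 1) := by
      rw [hBdef, Nat.card_congr (Subgroup.subgroupOfEquivOfLe inf_le_right).toEquiv, borel_inf_eq m hK,
        Twisted.GData.card_B1]
      congr 1
      · exact (congrArg (fun H : Subgroup (GL chevG2.Idx K) => Nat.card ↥H) (pos_inf_eq m hK).symm).trans
          (card_pos_inf m hK)
      · exact card_torus m hK
    have h := GL0.card_conjSet (W := (U : Set ↥G¹) \ {1}) (N := B) (fun n hn y hy => ⟨by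
        refine Subgroup.mem_subgroupOf.2 (Subgroup.mem_inf.2 ⟨?_, (n * y * n⁻¹).2⟩)
        exact borel_conj_pos (Subgroup.mem_inf.1 (Subgroup.mem_subgroupOf.1 hn)).1
          (Subgroup.mem_inf.1 (Subgroup.mem_subgroupOf.1 hy.1)).1, fun e => hy.2 (conj_eq_one_iff.1 e)⟩)
      (fun y hy g hg => by
        refine Subgroup.mem_subgroupOf.2 (Subgroup.mem_inf.2 ⟨?_, g.2⟩)
        by_contra hB
        obtain ⟨a, ha, b, hb, e⟩ := exists_unb m hK g.2 hB
        have hyU := (Subgroup.mem_inf.1 (Subgroup.mem_subgroupOf.1 hy.1)).1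
        have hgU := (Subgroup.mem_inf.1 (Subgroup.mem_subgroupOf.1 hg.1)).1
        have hbU := borel_conj_pos (Subgroup.mem_inf.1 hb).1 hyU
        set Y : GL chevG2.Idx K := (y : GL chevG2.Idx K)
        change (g : GL chevG2.Idx K) * Y * (g : GL chevG2.Idx K)⁻¹ ∈ chevG2.posUnipotent K at hgU
        rw [e] at hgU
        set P := a⁻¹ * (a * nJ K * b * Y * (a * nJ K * b)⁻¹) * a with hP
        have hPU : P ∈ chevG2.posUnipotent K :=
          mul_mem (mul_mem (inv_mem (Subgroup.mem_inf.1 ha).1) hgU) (Subgroup.mem_inf.1 ha).1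
        have h1 : P = 1 := eq_one_of_conj_borel m hK hPU (by
          rw [hP, show (nJ K)⁻¹ * (a⁻¹ * (a * nJ K * b * Y * (a * nJ K * b)⁻¹) * a) * nJ K = b * Y * b⁻¹ by group]
          exact Subgroup.mem_sup_left hbU)
        refine hy.2 (Subtype.ext ?_)
        calc Y = b⁻¹ * (nJ K)⁻¹ * P * nJ K * b := by rw [hP]; group
          _ = 1 := by rw [h1]; group)
    have hset : GL0.conjSet ((U : Set ↥G¹) \ {1}) = S3 := by
      ext y
      constructor
      · rintro ⟨g, hg, hg1⟩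
        refine ⟨fun e => hg1 (by simp [e]), conj_eq_one_iff.1 ((conj_pow (a := g) (b := y)).symm.trans ?_)⟩
        rw [← hU]
        exact congrArg Subtype.val (pow_card_eq_one' (x := (⟨_, hg⟩ : ↥U)))
      · rintro ⟨hy1, hy⟩
        have hr : ¬ 3 ∣ (qq - 1) * (qq ^ 3 + 1) := fun h => by
          have hd : (3 : ℕ) ∣ qq := dvd_pow_self 3 (by omega)
          rcases Nat.prime_three.dvd_mul.1 h with h | h
          · omega
          · have := dvd_pow hd (show 3 ≠ 0 by norm_num); omega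
        obtain ⟨g, hg⟩ := GL0.conj_into U (p := 3) (n := (2 * m + 1) * 3) (r := (qq - 1) * (qq ^ 3 + 1))
          (by rw [card_group m hK, hU, mul_assoc]) hr (x := y) (by rwa [pow_mul])
        exact ⟨g, hg, fun e => hy1 (conj_eq_one_iff.1 e)⟩
    rw [hset, hB, Set.ncard_sdiff (by simp [U.one_mem]), ← Nat.card_coe_set_eq, ← Nat.card_coe_set_eq,
      SetLike.coe_sort_coe, hU, Set.ncard_singleton] at h
    rw [← h, ← Nat.card_coe_set_eq S3]
  have e1 : S1.ncard * (2 * (qq - 1)) = Nat.card ↥G¹ * (k₁ - 1) := by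
    have h := GL0.card_conjSet (W := (A1 K m : Set ↥G¹) \ {1})
      (N := Subgroup.normalizer ((TG K m : Subgroup ↥G¹) : Set ↥G¹))
      (fun n hn y hy => ⟨(mem_A1 m hK).2 ⟨(Subgroup.mem_normalizer_iff.1 hn y).1 (A1_le m hy.1), by
        rw [conj_pow, ((mem_A1 m hK).1 hy.1).2, mul_one, mul_inv_cancel]⟩, fun e => hy.2 (conj_eq_one_iff.1 e)⟩)
      (fun y hy g hg => by
        rcases torus_fusion m hK (A1_le m hy.1) (A1_sq_ne m hK hy.1 hy.2) (A1_le m hg.1) with ⟨hgT, -⟩ | ⟨hgT, -⟩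
        · exact Subgroup.le_normalizer hgT
        · have hn : nG K m ∈ Subgroup.normalizer ((TG K m : Subgroup ↥G¹) : Set ↥G¹) :=
            GL0.mem_normalizer_of_conj_le fun x hx => by rw [nG_conj m hK hx]; exact inv_mem hx
          have := mul_mem (inv_mem hn) (Subgroup.le_normalizer hgT)
          rwa [inv_mul_cancel_left] at this)
    have hset : GL0.conjSet ((A1 K m : Set ↥G¹) \ {1}) = S1 := by
      ext y
      constructor
      · rintro ⟨g, hg, hg1⟩
        exact ⟨fun e => hg1 (by simp [e]), conj_eq_one_iff.1 (conj_pow.symm.trans ((mem_A1 m hK).1 hg).2)⟩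
      · rintro ⟨hy1, hy⟩
        obtain ⟨p, hp, hpd⟩ := Nat.exists_prime_and_dvd (fun e => hy1 (orderOf_eq_one_iff.1 e))
        have hd := orderOf_dvd_of_pow_eq_one hy
        obtain ⟨g, hg⟩ := mem_of_prime_k1 m hK (h1o.of_dvd_nat hd) hp hpd (hpd.trans hd)
        exact ⟨g, hg, fun e => hy1 (conj_eq_one_iff.1 e)⟩
    rw [hset, card_normalizer_TG m hK hm, Set.ncard_sdiff (by simp [(A1 K m).one_mem]),
      ← Nat.card_coe_set_eq (A1 K m : Set ↥G¹), SetLike.coe_sort_coe, card_A1 m hK, Set.ncard_singleton] at h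
    exact h
  have e2 : S2.ncard * (6 * (qq + 1)) = Nat.card ↥G¹ * (k₂ - 1) := by
    have h := GL0.card_conjSet (W := (A2 K m hK : Set ↥G¹) \ {1})
      (N := Subgroup.normalizer ((VG K m hK : Subgroup ↥G¹) : Set ↥G¹))
      (fun n hn y hy => ⟨by
        have hA := normalizer_A2 m hK (A₀ := A2 K m hK) le_rfl (fun e => hy.2 (Subgroup.mem_bot.1 (e ▸ hy.1)))
        rw [← hA] at hn
        exact (Subgroup.mem_normalizer_iff.1 hn y).1 hy.1, fun e => hy.2 (conj_eq_one_iff.1 e)⟩)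
      (fun y hy g hg => by
        refine GL0.mem_normalizer_of_conj_le fun v hv => mem_VG_of_sq m hK ?_ (by
          rw [show g * v * g⁻¹ * (g * v * g⁻¹) = g * (v * v) * g⁻¹ by group, VG_sq m hK hv]; group)
        rw [← centralizer_A2_elem m hK hg.1 hg.2, Subgroup.mem_centralizer_singleton_iff,
          show ∀ a b : ↥G¹, g * a * g⁻¹ * (g * b * g⁻¹) = g * (a * b) * g⁻¹ from fun a b => by group,
          show ∀ a b : ↥G¹, g * a * g⁻¹ * (g * b * g⁻¹) = g * (a * b) * g⁻¹ from fun a b => by group,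
          VA_comm m hK hv hy.1])
    have hset : GL0.conjSet ((A2 K m hK : Set ↥G¹) \ {1}) = S2 := by
      ext y
      constructor
      · rintro ⟨g, hg, hg1⟩
        exact ⟨fun e => hg1 (by simp [e]), conj_eq_one_iff.1 (conj_pow.symm.trans (pow_of_mem_A2 m hK hg))⟩
      · rintro ⟨hy1, hy⟩
        obtain ⟨p, hp, hpd⟩ := Nat.exists_prime_and_dvd (fun e => hy1 (orderOf_eq_one_iff.1 e))
        have hd := orderOf_dvd_of_pow_eq_one hy
        obtain ⟨g, hg⟩ := mem_of_prime_k2 m hK hm (h2o.of_dvd_nat hd) hp hpd (hpd.trans hd)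
        exact ⟨g, hg, fun e => hy1 (conj_eq_one_iff.1 e)⟩
    rw [hset, card_normalizer_VG m hK, Set.ncard_sdiff (by simp [(A2 K m hK).one_mem]),
      ← Nat.card_coe_set_eq (A2 K m hK : Set ↥G¹), SetLike.coe_sort_coe, card_A2 m hK, Set.ncard_singleton] at h
    exact h
  have e4 : 8 * S4.ncard = 3 * Nat.card ↥G¹ := card_even (K := K) m hK
  have hG := card_group m hK
  obtain ⟨hk1, -⟩ := k1_facts (K := K) m hK
  obtain ⟨hk2, -, -⟩ := k2_facts (K := K) m hK
  have hk1p : 1 ≤ k₁ := h1o.pos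
  have hk2p : 1 ≤ k₂ := h2o.pos
  have hq3 : 1 ≤ qq ^ 3 := Nat.one_le_pow _ _ (by omega)
  generalize Nat.card ↥G¹ = g at hsum e3 e1 e2 e4 hG
  generalize S4.ncard = a4, S3.ncard = a3, S1.ncard = a1, S2.ncard = a2, SN.ncard = aN at hsum e3 e1 e2 e4 ⊢
  rw [show ((3 : ℤ) ^ (2 * m + 1)) = (qq : ℤ) by push_cast; rfl]
  generalize k₁ = u at hk1 hk1p e1
  generalize k₂ = v at hk2 hk2p e2
  generalize qq = q at hq hq3 hk1 hk2 e1 e2 e3 hG ⊢
  zify [hq, hq3, hk1p, hk2p] at hsum e3 e1 e2 e4 hG hk1 hk2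
  have hqne : ((q : ℤ) ^ 2 - 1) ≠ 0 := by
    intro h
    nlinarith
  have ha3 : (a3 : ℤ) = (q : ℤ) ^ 6 - 1 := by
    have h0 : (q : ℤ) ^ 3 * ((q : ℤ) - 1) ≠ 0 := by
      have : (1 : ℤ) ≤ u := by exact_mod_cast hk1p
      exact mul_ne_zero (pow_ne_zero _ (by omega)) (by omega)
    refine mul_right_cancel₀ h0 ?_
    linear_combination e3 + ((q : ℤ) ^ 3 - 1) * hG
  refine mul_right_cancel₀ (mul_ne_zero hqne (show (24 : ℤ) ≠ 0 by norm_num)) ?_
  linear_combination (72 * ((q : ℤ) ^ 2 - 1)) * hsum - (9 * ((q : ℤ) ^ 2 - 1)) * e4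
    - (72 * ((q : ℤ) ^ 2 - 1)) * ha3 - (36 * ((q : ℤ) + 1)) * e1 - (12 * ((q : ℤ) - 1)) * e2
    - (18 * ((q : ℤ) + 1) * g) * hk1 - (3 * ((q : ℤ) - 1) * g) * hk2
    + (24 * (q : ℤ) * ((q : ℤ) + 2)) * hG

end CfsgLib.Chev.Ree
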