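import Cfsg.Agent.Chev.Ree.Group
import Cfsg.Agent.Chev.Twist.Bridge

/-! The small Ree groups as instances of the generic theory of twisted groups. -/

set_option autoImplicit false
set_option maxRecDepth 20000
set_option linter.style.haveILetI false
set_option linter.unusedSectionVars false

namespace CfsgLib.Chev.Ree

open Cfsg.Lie CfsgLib.Chev Matrix

universe u

/-- The longest element is minus the identity. -/
theorem longest_apply : ∀ r : Fin chevG2.nroots,
    ((SG.{u}.wprod [0, 1, 0, 1, 0, 1] r : Fin chevG2.nroots) : ℕ) = 11 - (r : ℕ) := by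
  decide +kernel

theorem longest_flips (r : Fin chevG2.nroots) (h : SG.{u}.Pos r) :
    ¬ SG.{u}.Pos (SG.{u}.wprod [0, 1, 0, 1, 0, 1] r) := by
  have h' : 6 ≤ (r : ℕ) := h
  intro h2
  have h2' : 6 ≤ ((SG.{u}.wprod [0, 1, 0, 1, 0, 1] r : Fin chevG2.nroots) : ℕ) := h2
  rw [longest_apply] at h2'
  omega

theorem bar_simple (i : Fin chevG2.rank) :
    bar (SG.{u}.sr i) = SG.{u}.sr ⟨1 - (i : ℕ), by have : chevG2.rank = 2 := rfl; omega⟩ := by
  revert i
  decide +kernel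

theorem bar_pos' (r : Fin chevG2.nroots) : SG.{u}.Pos (bar r) ↔ SG.{u}.Pos r :=
  (Special.rbar_spec Special.specG2_valid r.2).2.2.2.2.2

/-- An element commuting with the exchange keeps all positive roots positive or none. -/
theorem dichotomy {w : Equiv.Perm (Fin chevG2.nroots)} (hw : w ∈ SG.{u}.weyl) (hc : w * bar = bar * w) :
    w = 1 ∨ ∀ r, SG.{u}.Pos r → ¬ SG.{u}.Pos (w r) := by
  have hrel : ∀ i j : Fin chevG2.rank, SG.{u}.Pos (w (SG.{u}.sr i)) → SG.{u}.Pos (w (SG.{u}.sr j)) := by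
    intro i j h
    by_cases hij : i = j
    · exact hij ▸ h
    have hr : chevG2.rank = 2 := rfl
    have hj : (⟨1 - (i : ℕ), by omega⟩ : Fin chevG2.rank) = j := by
      refine Fin.ext ?_
      have := i.2
      have := j.2
      have : (i : ℕ) ≠ j := fun e => hij (Fin.ext e)
      show 1 - (i : ℕ) = j
      omega
    rw [← hj, ← bar_simple, ← Equiv.Perm.mul_apply, hc, Equiv.Perm.mul_apply]
    exact (bar_pos' _).2 h
  by_cases h : ∀ i, SG.{u}.Pos (w (SG.{u}.sr i))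
  · exact Or.inl (SG.eq_one_of_simple_pos hw h)
  · refine Or.inr fun r hr => SG.neg_of_support hw hr fun i _ hpos => h fun j => hrel i j hpos

/-- The combinatorial data of the small Ree groups. -/
noncomputable def wdata : Twisted.WData (SG.{u}) 1 where
  rho := bar
  ob _ := 0
  word _ := [0, 1, 0, 1, 0, 1]
  d := 2
  lj _ := 3
  d_pos := by norm_num
  ob_surj j := ⟨0, by decide, Subsingleton.elim _ _⟩
  word_ob j q hq := by
    have : chevG2.rank = 2 := rfl
    simp at hq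
    exact ⟨by omega, Subsingleton.elim _ _⟩
  wJ_comm _ := by decide +kernel
  wJ_sq _ := by decide +kernel
  simple_flip i := longest_flips _ (SG.sr_pos i)
  len_eq _ := by decide +kernel
  flips w hw hc j r hr hneg r' hr' := by
    rcases dichotomy hw hc with rfl | h
    · exact absurd (SG.mem_invSet.1 hr).1 hneg
    · exact h r' (SG.mem_invSet.1 hr').1

theorem good_cases {w : Equiv.Perm (Fin chevG2.nroots)} (hw : w ∈ wdata.{u}.good) :
    w = 1 ∨ w = wdata.{u}.wJ 0 := by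
  obtain ⟨hW, hc⟩ := wdata.mem_good.1 hw
  rcases dichotomy hW hc with h | h
  · exact Or.inl h
  · refine Or.inr ?_
    obtain ⟨hW', hc'⟩ := wdata.mem_good.1 (mul_mem hw (wdata.{u}.wJ_mem 0))
    rcases dichotomy hW' hc' with h1 | h1
    · calc w = w * wdata.wJ 0 * wdata.wJ 0 := by rw [mul_assoc, wdata.wJ_wJ, mul_one]
        _ = wdata.wJ 0 := by rw [h1, one_mul]
    · exfalso
      set a := SG.{u}.sr ⟨0, by decide⟩
      have ha : a ∈ wdata.{u}.inJ 0 := wdata.sr_mem_inJ ⟨0, by decide⟩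
      have hb := h _ (wdata.mem_inJ.1 (wdata.ng_wJ_mem ha)).1
      rw [SG.weyl_ng hW, SG.pos_ng, not_not] at hb
      exact h1 a (SG.sr_pos _) hb

variable {K : Type u} [Field K] [Finite K] [CharP K 3] (m : ℕ)

local notation "θ" => (3 ^ m : ℕ)

theorem acts_nJ : SG.Acts (nJ K) (wdata.{u}.wJ 0) := fun r => ⟨-1, fun t => by
  rw [nJ_conj (show (r : ℕ) < 12 from r.2) t]
  show SG.xU (11 - (r : ℕ)) (-t) = SG.xU ((SG.{u}.wprod [0, 1, 0, 1, 0, 1] r : Fin chevG2.nroots) : ℕ) _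
  rw [longest_apply, Units.val_neg, Units.val_one, neg_one_mul]⟩

theorem uminus_eq : SG.uminus K (wdata.{u}.wJ 0) = chevG2.posUnipotent K := uminus_longest longest_flips

theorem nJ_mono : nJ K ∈ chevG2.monomialSubgroup K := by
  have h : nJ K = SG.nU 8 (((1 : Kˣ) : K)) * SG.nU 10 ((1 : Kˣ) : K) := by
    rw [nJ_eq_pair (K := K) 0]; simp
  rw [h]
  exact mul_mem (SG.nU_mem_mono (r := 8) (by decide) 1) (SG.nU_mem_mono (r := 10) (by decide) 1)

variable (hK : Nat.card K = 3 ^ (2 * m + 1))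

include hK in
theorem pos_inf_fixed {g : GL chevG2.Idx K} :
    g ∈ SG.uminus K (wdata.{u}.wJ 0) ⊓ (twist K m).fixed ↔ ∃ t u v : K, g = WR m t u v := by
  rw [uminus_eq, Subgroup.mem_inf]
  constructor
  · rintro ⟨h1, h2⟩; exact exists_WR m hK h1 h2
  · rintro ⟨t, u, v, rfl⟩; exact ⟨W_mem _ _ _ _ _ _, WR_fixed m hK t u v⟩

theorem WR_zero : WR m (0 : K) 0 0 = 1 := by
  simp [WR, W, X, zero_pow (theta_ne_zero m), Sys.xU_zero]

include hK in
theorem card_pos_fixed :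
    Nat.card (SG.uminus K (wdata.{u}.wJ 0) ⊓ (twist K m).fixed : Subgroup (GL chevG2.Idx K)) =
      (3 ^ (2 * m + 1)) ^ 3 := by
  have e : Nat.card (K × K × K) =
      Nat.card (SG.uminus K (wdata.{u}.wJ 0) ⊓ (twist K m).fixed : Subgroup (GL chevG2.Idx K)) := by
    refine Nat.card_eq_of_bijective (fun p => ⟨WR m p.1 p.2.1 p.2.2, (pos_inf_fixed m hK).2 ⟨_, _, _, rfl⟩⟩)
      ⟨fun p q h => ?_, fun g => ?_⟩
    · obtain ⟨h1, h2, h3⟩ := WR_inj m (congrArg Subtype.val h)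
      exact Prod.ext h1 (Prod.ext h2 h3)
    · obtain ⟨t, u, v, h⟩ := (pos_inf_fixed m hK).1 g.2
      exact ⟨(t, u, v), Subtype.ext h.symm⟩
  rw [← e, Nat.card_prod, Nat.card_prod, hK]
  ring

variable (K) in
/-- The small Ree group as a twisted group. -/
noncomputable def gdata (hK : Nat.card K = 3 ^ (2 * m + 1)) : Twisted.GData (wdata.{u}) K where
  G1 := twistedG2 K θ
  Fx := (twist K m).fixed
  H1 := H1 K m
  q := 3 ^ (2 * m + 1)
  nJ _ := nJ K
  G1_le_Fx := twisted_le_fixed m hK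
  split w hw a ha b hb hab :=
    (twist K m).split_fixed (wdata.mem_good.1 hw).1 (wdata.mem_good.1 hw).2 ha hb hab
  XJ_le j g hg := by
    obtain rfl : j = 0 := Subsingleton.elim _ _
    obtain ⟨t, u, v, rfl⟩ := (pos_inf_fixed m hK).1 hg
    exact WR_mem m t u v
  card_XJ j := by
    obtain rfl : j = 0 := Subsingleton.elim _ _
    exact card_pos_fixed m hK
  nJ_mem _ := nJ_mem m
  nJ_mono _ := nJ_mono
  nJ_acts j := by
    obtain rfl : j = 0 := Subsingleton.elim _ _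
    exact acts_nJ
  H1_diag := inf_le_left
  H1_le := H1_le m hK
  H1_conj _ h hh := Subgroup.mem_inf.2 ⟨SG.mono_conj_diag nJ_mono (Subgroup.mem_inf.1 hh).1,
    mul_mem (mul_mem (nJ_fixed m) (Subgroup.mem_inf.1 hh).2) (inv_mem (nJ_fixed m))⟩
  nJ_sq _ := Subgroup.mem_inf.2 ⟨SG.mem_diag_of_pos (mul_mem nJ_mono nJ_mono)
    (SG.acts_mul acts_nJ acts_nJ) (fun r hr => by rw [wdata.wJ_wJ]; exact hr),
    mul_mem (nJ_fixed m) (nJ_fixed m)⟩
  rank1 j x hx hx1 := by
    obtain rfl : j = 0 := Subsingleton.elim _ _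
    obtain ⟨hxU, hxf⟩ := Subgroup.mem_inf.1 hx
    have hg : nJ K * x * (nJ K)⁻¹ ∈ (twist K m).fixed :=
      mul_mem (mul_mem (nJ_fixed m) hxf) (inv_mem (nJ_fixed m))
    obtain ⟨w, hwW, hwc, v, hv, n, hn, hnw, y, hy, e⟩ := (twist K m).exists_normal_form hg
    obtain ⟨hvU, hvf⟩ := Subgroup.mem_inf.1 hv
    obtain ⟨hnM, hnf⟩ := Subgroup.mem_inf.1 hn
    obtain ⟨hyU, hyf⟩ := Subgroup.mem_inf.1 hy
    rcases good_cases (wdata.mem_good.2 ⟨hwW, hwc.symm⟩) with rfl | rfl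
    · exfalso
      have hnB : n ∈ chevG2.borelSubgroup K :=
        Subgroup.mem_sup_right (SG.mem_diag_of_pos hnM hnw fun r hr => hr)
      have hB : nJ K * x * (nJ K)⁻¹ ∈ chevG2.borelSubgroup K ⊓ chevG2.negUnipotent K :=
        Subgroup.mem_inf.2 ⟨e ▸ mul_mem (mul_mem (Subgroup.mem_sup_left hvU) hnB)
          (Subgroup.mem_sup_left (SG.genBy_le_pos _ hyU)), SG.uminus_conj_neg acts_nJ hxU⟩
      rw [SG.borel_inf_neg, Subgroup.mem_bot, conj_eq_one_iff] at hB
      exact hx1 hB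
    · have hd : n * nJ K ∈ chevG2.diagonalSubgroup K :=
        SG.mem_diag_of_pos (mul_mem hnM nJ_mono) (SG.acts_mul hnw acts_nJ)
          fun r hr => by rw [wdata.wJ_wJ]; exact hr
      have hs : nJ K * nJ K ∈ chevG2.diagonalSubgroup K :=
        SG.mem_diag_of_pos (mul_mem nJ_mono nJ_mono) (SG.acts_mul acts_nJ acts_nJ)
          fun r hr => by rw [wdata.wJ_wJ]; exact hr
      refine ⟨v, Subgroup.mem_inf.2 ⟨by rw [uminus_eq]; exact hvU, hvf⟩, n * (nJ K)⁻¹, ?_, y,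
        Subgroup.mem_inf.2 ⟨hyU, hyf⟩, by rw [e]; group⟩
      refine Subgroup.mem_inf.2 ⟨?_, mul_mem hnf (inv_mem (nJ_fixed m))⟩
      rw [show n * (nJ K)⁻¹ = n * nJ K * (nJ K * nJ K)⁻¹ by group]
      exact mul_mem hd (inv_mem hs)
  nJ_eq j := by
    obtain rfl : j = 0 := Subsingleton.elim _ _
    have hm : WR m (0 : K) 1 0 ∈ SG.uminus K (wdata.{u}.wJ 0) ⊓ (twist K m).fixed :=
      (pos_inf_fixed m hK).2 ⟨_, _, _, rfl⟩
    refine ⟨_, hm, _, hm, _, hm, fun h => ?_, ?_⟩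
    · obtain ⟨-, h2, -⟩ := WR_inj m (h.trans (WR_zero m).symm)
      exact one_ne_zero h2
    · have h1 := pair_n (K := K) m 1
      rw [← nJ_eq_pair, inv_one, Units.val_one] at h1
      exact h1
  gen := by
    rw [twistedG2, ChevalleyDatum.genSubgroup, Subgroup.closure_le]
    rintro g ⟨w, ⟨t, u, v, rfl | rfl⟩, hg⟩
    · exact Subgroup.subset_closure ⟨0, WR m t u v, (pos_inf_fixed m hK).2 ⟨_, _, _, rfl⟩,
        Or.inl (Units.ext (hg.trans (coe_WR m t u v).symm))⟩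
    · exact Subgroup.subset_closure ⟨0, WR m t u v, (pos_inf_fixed m hK).2 ⟨_, _, _, rfl⟩,
        Or.inr (Units.ext (hg.trans (coe_conj_WR m t u v).symm))⟩

end CfsgLib.Chev.Ree
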