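import Mathlib

/-! Commutant of a matrix of dimension seven of prime order `p` with `q` of order six modulo `p`. -/

set_option autoImplicit false
set_option linter.unusedSectionVars false

namespace CfsgLib.Chev.Ree.Eig

open Matrix Polynomial

universe u v

variable {K : Type u} [Field K] [Finite K] [CharP K 3] {ι : Type v} [Fintype ι] [DecidableEq ι]

/-- The hypotheses on the order. -/
structure Setup (q p : ℕ) (M : Matrix ι ι K) : Prop where
  card : Nat.card K = q
  qpow : ∃ n : ℕ, q = 3 ^ n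
  card_ι : Fintype.card ι = 7
  prime : p.Prime
  ne : p ≠ 3
  ord6 : q ^ 6 % p = 1
  min : ∀ i : ℕ, 0 < i → i < 6 → q ^ i % p ≠ 1
  pow_p : M ^ p = 1
  ne_one : M ≠ 1

local notation "F" => AlgebraicClosure K

/-- The matrix over the algebraic closure. -/
noncomputable def up (A : Matrix ι ι K) : Matrix ι ι F := A.map (algebraMap K F)

theorem up_mul (A B : Matrix ι ι K) : up (A * B) = up A * up B := Matrix.map_mul

theorem up_one : up (1 : Matrix ι ι K) = 1 := Matrix.map_one _ (map_zero _) (map_one _)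

theorem up_pow (A : Matrix ι ι K) (n : ℕ) : up (A ^ n) = up A ^ n := by
  induction n with
  | zero => simp [up_one]
  | succ n ih => rw [pow_succ, pow_succ, up_mul, ih]

theorem up_injective {A B : Matrix ι ι K} (h : up A = up B) : A = B :=
  Matrix.map_injective (algebraMap K F).injective h

variable {q p : ℕ} {M : Matrix ι ι K}

/-- The Galois automorphism. -/
noncomputable def sig (q : ℕ) (i : ℕ) (y : F) : F := y ^ q ^ i

theorem sig_algebraMap (h : Setup q p M) (i : ℕ) (c : K) : sig q i (algebraMap K F c) = algebraMap K F c := by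
  haveI := Fintype.ofFinite K
  rw [sig, ← map_pow, ← h.card, Nat.card_eq_fintype_card, FiniteField.pow_card_pow]

theorem sig_sum (h : Setup q p M) (i : ℕ) {α : Type*} (s : Finset α) (f : α → F) :
    sig q i (∑ x ∈ s, f x) = ∑ x ∈ s, sig q i (f x) := by
  haveI : CharP F 3 := charP_of_injective_algebraMap (algebraMap K F).injective 3
  haveI : Fact (Nat.Prime 3) := ⟨Nat.prime_three⟩
  obtain ⟨n, hn⟩ := h.qpow
  simp only [sig, hn, ← pow_mul]
  exact sum_pow_char_pow 3 (n * i) s f

theorem sig_mulVec (h : Setup q p M) (i : ℕ) (A : Matrix ι ι K) (w : ι → F) :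
    up A *ᵥ (fun k => sig q i (w k)) = fun k => sig q i ((up A *ᵥ w) k) := by
  funext k
  simp only [mulVec, dotProduct]
  rw [sig_sum h]
  refine Finset.sum_congr rfl fun j _ => ?_
  rw [show up A k j = algebraMap K F (A k j) from rfl]
  show _ * sig q i (w j) = sig q i (algebraMap K F (A k j) * w j)
  rw [show sig q i (algebraMap K F (A k j) * w j) = sig q i (algebraMap K F (A k j)) * sig q i (w j) from mul_pow _ _ _,
    sig_algebraMap h]

theorem pow_mulVec {A : Matrix ι ι F} {w : ι → F} {c : F} (hw : A *ᵥ w = c • w) (n : ℕ) :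
    (A ^ n) *ᵥ w = c ^ n • w := by
  induction n with
  | zero => simp
  | succ n ih => rw [pow_succ', ← mulVec_mulVec, ih, mulVec_smul, hw, smul_smul, pow_succ]

theorem smul_right_cancel' {w : ι → F} (hw : w ≠ 0) {a b : F} (h : a • w = b • w) : a = b := by
  by_contra hab
  exact hw ((smul_eq_zero.1 (show (a - b) • w = 0 by rw [sub_smul, h, sub_self])).resolve_left (sub_ne_zero.2 hab))

theorem eig_pow_p (h : Setup q p M) {w : ι → F} (hw0 : w ≠ 0) {c : F} (hw : up M *ᵥ w = c • w) : c ^ p = 1 := by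
  refine smul_right_cancel' hw0 ?_
  rw [← pow_mulVec hw p, ← up_pow, h.pow_p, up_one, one_mulVec, one_smul]

theorem exists_vec {c : F} (hc : (up M).charpoly.IsRoot c) : ∃ w : ι → F, w ≠ 0 ∧ up M *ᵥ w = c • w := by
  have h : (Matrix.scalar ι c - up M).det = 0 := by rw [← Matrix.eval_charpoly]; exact hc
  obtain ⟨w, hw0, hw⟩ := Matrix.exists_mulVec_eq_zero_iff.2 h
  refine ⟨w, hw0, ?_⟩
  rw [sub_mulVec, sub_eq_zero] at hw
  rw [← hw]
  funext k
  simp [Matrix.scalar_apply, mulVec_diagonal]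

theorem isRoot_of_vec {c : F} {w : ι → F} (hw0 : w ≠ 0) (hw : up M *ᵥ w = c • w) : (up M).charpoly.IsRoot c := by
  show (up M).charpoly.eval c = 0
  rw [Matrix.eval_charpoly]
  refine Matrix.exists_mulVec_eq_zero_iff.1 ⟨w, hw0, ?_⟩
  rw [sub_mulVec, sub_eq_zero, hw]
  funext k
  simp [Matrix.scalar_apply, mulVec_diagonal]

theorem exists_lam (h : Setup q p M) : ∃ c : F, c ≠ 1 ∧ (up M).charpoly.IsRoot c := by
  by_contra hn
  push Not at hn
  have hall : ∀ c ∈ (up M).charpoly.roots, c = 1 := fun c hc => by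
    by_contra hc1
    exact hn c hc1 (isRoot_of_mem_roots hc)
  have hcp : (up M).charpoly = (X - C 1) ^ 7 := by
    have hs := IsAlgClosed.splits (up M).charpoly
    have hcard : (up M).charpoly.roots.card = 7 := by
      rw [← hs.natDegree_eq_card_roots, Matrix.charpoly_natDegree_eq_dim, h.card_ι]
    rw [hs.eq_prod_roots_of_monic (Matrix.charpoly_monic _),
      Multiset.eq_replicate.2 ⟨hcard, hall⟩, Multiset.map_replicate, Multiset.prod_replicate]
  have hCH := Matrix.aeval_self_charpoly (up M)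
  rw [hcp, map_pow, map_sub, aeval_X, aeval_C, map_one] at hCH
  haveI : Nonempty ι := Fintype.card_pos_iff.1 (by rw [h.card_ι]; norm_num)
  haveI : CharP F 3 := charP_of_injective_algebraMap (algebraMap K F).injective 3
  haveI : CharP (Matrix ι ι F) 3 := inferInstance
  haveI : Fact (Nat.Prime 3) := ⟨Nat.prime_three⟩
  have h9 : up M ^ 3 ^ 2 = 1 := by
    have := sub_pow_char_pow_of_commute 3 2 (Commute.one_right (up M))
    rw [one_pow] at this
    rw [← sub_eq_zero, ← this, show (3 : ℕ) ^ 2 = 7 + 2 from rfl, pow_add, hCH, zero_mul]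
  refine h.ne_one (up_injective ?_)
  rw [up_one]
  have hp' : up M ^ p = 1 := by rw [← up_pow, h.pow_p, up_one]
  have hco : Nat.gcd (3 ^ 2) p = 1 := Nat.Coprime.pow_left 2
    ((Nat.coprime_primes Nat.prime_three h.prime).2 h.ne.symm)
  obtain ⟨a, b, hab⟩ : ∃ a b : ℕ, 3 ^ 2 * a = p * b + 1 := by
    obtain ⟨a, -, ha⟩ := Nat.exists_mul_mod_eq_one_of_coprime hco h.prime.one_lt
    exact ⟨a, 3 ^ 2 * a / p, by have := Nat.div_add_mod (3 ^ 2 * a) p; omega⟩
  calc up M = up M ^ (p * b + 1) := by rw [pow_succ, pow_mul, hp', one_pow, one_mul]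
    _ = 1 := by rw [← hab, pow_mul, h9, one_pow]

theorem orderOf_lam (h : Setup q p M) {c : F} (hc : c ≠ 1) (hp : c ^ p = 1) : orderOf c = p := by
  haveI : Fact p.Prime := ⟨h.prime⟩
  exact orderOf_eq_prime hp hc

theorem not_dvd_q_pow (h : Setup q p M) (i : ℕ) : ¬ p ∣ q ^ i := fun hd => by
  have h6 := h.ord6
  rw [Nat.mod_eq_zero_of_dvd (dvd_pow (h.prime.dvd_of_dvd_pow hd) (by norm_num : (6 : ℕ) ≠ 0))] at h6
  omega

theorem sig_inj (h : Setup q p M) {c : F} (hc : c ≠ 1) (hp : c ^ p = 1) {i j : ℕ} (hi : i < 6) (hj : j < 6)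
    (e : c ^ q ^ i = c ^ q ^ j) : i = j := by
  wlog hij : i ≤ j generalizing i j
  · exact (this hj hi e.symm (le_of_not_ge hij)).symm
  by_contra hne
  haveI : Fact p.Prime := ⟨h.prime⟩
  have hq : (q : ZMod p) ^ (j - i) = 1 := by
    have h1 : q ^ i ≡ q ^ j [MOD p] := by
      rw [← orderOf_lam h hc hp]
      exact (isOfFinOrder_iff_pow_eq_one.2 ⟨p, h.prime.pos, hp⟩).pow_eq_pow_iff_modEq.1 e
    have h2 : ((q ^ i : ℕ) : ZMod p) = ((q ^ j : ℕ) : ZMod p) := (ZMod.natCast_eq_natCast_iff _ _ _).2 h1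
    have hq0 : (q : ZMod p) ≠ 0 := fun h0 => by
      rw [ZMod.natCast_eq_zero_iff] at h0
      exact not_dvd_q_pow h 1 (by rwa [pow_one])
    push_cast at h2
    rw [show j = i + (j - i) by omega, pow_add] at h2
    exact (mul_right_eq_self₀.1 h2.symm).resolve_right (pow_ne_zero _ hq0)
  refine h.min (j - i) (by omega) (by omega) ?_
  rw [← Nat.cast_pow, ← Nat.cast_one, ZMod.natCast_eq_natCast_iff'] at hq
  rw [hq, Nat.mod_eq_of_lt h.prime.one_lt]

variable (M) in
/-- An eigenbasis. -/
structure Frame (q : ℕ) where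
  lam : F
  v : ι → F
  w : ι → K
  v_ne : v ≠ 0
  v_eig : up M *ᵥ v = lam • v
  lam_ne : lam ≠ 1
  w_ne : w ≠ 0
  w_eig : M *ᵥ w = w
  indep : LinearIndependent F (fun o : Option (Fin 6) => o.elim (fun k => algebraMap K F (w k))
    (fun i => fun k => sig q i (v k)))

theorem v_sig_eig (h : Setup q p M) {c : F} {w : ι → F} (hw : up M *ᵥ w = c • w) (i : ℕ) :
    up M *ᵥ (fun k => sig q i (w k)) = c ^ q ^ i • fun k => sig q i (w k) := by
  rw [sig_mulVec h, hw]
  funext k
  exact mul_pow _ _ _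

theorem exists_frame (h : Setup q p M) : Nonempty (Frame M q) := by
  classical
  obtain ⟨c, hc1, hcr⟩ := exists_lam h
  obtain ⟨v, hv0, hv⟩ := exists_vec hcr
  have hcp := eig_pow_p h hv0 hv
  have hq0 : q ≠ 0 := by obtain ⟨n, hn⟩ := h.qpow; rw [hn]; positivity
  have hvi : ∀ i : ℕ, (fun k => sig q i (v k)) ≠ (0 : ι → F) := fun i e => hv0 (funext fun k =>
    (pow_eq_zero_iff (pow_ne_zero i hq0)).1 (congrFun e k))
  -- the six conjugates
  set S : Finset F := (Finset.range 6).image fun i => c ^ q ^ i with hS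
  have hScard : S.card = 6 := by
    rw [hS, Finset.card_image_of_injOn, Finset.card_range]
    intro i hi j hj e
    exact sig_inj h hc1 hcp (Finset.mem_range.1 hi) (Finset.mem_range.1 hj) e
  set R := (up M).charpoly.roots with hR
  have hRcard : R.card = 7 := by
    rw [hR, ← (IsAlgClosed.splits (up M).charpoly).natDegree_eq_card_roots, Matrix.charpoly_natDegree_eq_dim, h.card_ι]
  have hle : S.val ≤ R := (Multiset.le_iff_subset S.nodup).2 fun x hx => by
    obtain ⟨i, -, rfl⟩ := Finset.mem_image.1 (Finset.mem_def.2 hx : x ∈ S)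
    exact (mem_roots (Matrix.charpoly_monic _).ne_zero).2 (isRoot_of_vec (hvi i) (v_sig_eig h hv i))
  obtain ⟨T, hT⟩ := Multiset.le_iff_exists_add.1 hle
  obtain ⟨μ, rfl⟩ : ∃ μ, T = {μ} := Multiset.card_eq_one.1 (by
    have := congrArg Multiset.card hT
    rw [Multiset.card_add, hRcard, Finset.card_val, hScard] at this
    omega)
  have hdet : (up M).det = 1 := by
    haveI := Fintype.ofFinite K
    have h1 : (M.det) ^ p = 1 := by rw [← det_pow, h.pow_p, det_one]
    have hM0 : M.det ≠ 0 := fun e => by rw [e, zero_pow h.prime.ne_zero] at h1; exact zero_ne_one h1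
    have h2 : (M.det) ^ (q - 1) = 1 := by
      rw [← h.card, Nat.card_eq_fintype_card]; exact FiniteField.pow_card_sub_one_eq_one _ hM0
    have hg : Nat.gcd p (q - 1) = 1 := by
      refine h.prime.coprime_iff_not_dvd.2 fun hd => h.min 1 (by norm_num) (by norm_num) ?_
      rw [pow_one]
      obtain ⟨r, hr⟩ := hd
      rw [show q = p * r + 1 by omega, Nat.mul_add_mod, Nat.mod_eq_of_lt h.prime.one_lt]
    have h3 := pow_gcd_eq_one.2 ⟨h1, h2⟩
    rw [hg, pow_one] at h3
    have h4 : (up M).det = algebraMap K F M.det := (RingHom.map_det (algebraMap K F) M).symm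
    rw [h4, h3, map_one]
  have hμ : μ = 1 := by
    rw [Matrix.det_eq_prod_roots_charpoly, ← hR, hT, Multiset.prod_add, Multiset.prod_singleton] at hdet
    have hprod : S.val.prod = 1 := by
      rw [Finset.prod_val, hS, Finset.prod_image (fun i hi j hj e =>
        sig_inj h hc1 hcp (Finset.mem_range.1 hi) (Finset.mem_range.1 hj) e)]
      simp only [id]
      rw [Finset.prod_pow_eq_pow_sum]
      rw [← orderOf_dvd_iff_pow_eq_one, orderOf_lam h hc1 hcp]
      haveI : Fact p.Prime := ⟨h.prime⟩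
      rw [← ZMod.natCast_eq_zero_iff]
      push_cast
      have h6 : (q : ZMod p) ^ 6 = 1 := by
        rw [← Nat.cast_pow, ← Nat.cast_one, ZMod.natCast_eq_natCast_iff', h.ord6,
          Nat.mod_eq_of_lt h.prime.one_lt]
      have hq1 : (q : ZMod p) - 1 ≠ 0 := fun e => h.min 1 (by norm_num) (by norm_num) (by
        rw [sub_eq_zero, ← Nat.cast_one, ZMod.natCast_eq_natCast_iff', Nat.mod_eq_of_lt h.prime.one_lt] at e
        rw [pow_one]; exact e)
      refine (mul_eq_zero.1 ?_).resolve_right hq1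
      rw [geom_sum_mul, h6, sub_self]
    rwa [hprod, one_mul] at hdet
  have hroot1 : M.charpoly.IsRoot 1 := by
    have : (up M).charpoly.IsRoot 1 := isRoot_of_mem_roots (by
      rw [← hR, hT, ← hμ]; exact Multiset.mem_add.2 (Or.inr (Multiset.mem_singleton_self _)))
    rw [up, Matrix.charpoly_map] at this
    refine IsRoot.of_map (f := algebraMap K F) ?_ (algebraMap K F).injective
    rwa [map_one]
  obtain ⟨w, hw0, hw⟩ : ∃ w : ι → K, w ≠ 0 ∧ M *ᵥ w = w := by
    have h0 : (Matrix.scalar ι (1 : K) - M).det = 0 := by rw [← Matrix.eval_charpoly]; exact hroot1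
    obtain ⟨w, hw0, hw⟩ := Matrix.exists_mulVec_eq_zero_iff.2 h0
    refine ⟨w, hw0, ?_⟩
    rw [map_one, sub_mulVec, one_mulVec, sub_eq_zero] at hw
    exact hw.symm
  refine ⟨⟨c, v, w, hv0, hv, hc1, hw0, hw, ?_⟩⟩
  refine Module.End.eigenvectors_linearIndependent' (Matrix.toLin' (up M))
    (fun o : Option (Fin 6) => o.elim 1 fun i => c ^ q ^ (i : ℕ)) ?_ _ fun o => ?_
  · have hne : ∀ i : Fin 6, c ^ q ^ (i : ℕ) ≠ 1 := fun i e => by
      have hd := orderOf_dvd_of_pow_eq_one e
      rw [orderOf_lam h hc1 hcp] at hd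
      exact not_dvd_q_pow h _ hd
    rintro (_ | i) (_ | j) e
    · rfl
    · exact absurd e.symm (hne j)
    · exact absurd e (hne i)
    · exact congrArg some (Fin.ext (sig_inj h hc1 hcp i.2 j.2 e))
  · rcases o with _ | i
    · refine ⟨Module.End.mem_eigenspace_iff.2 ?_, fun e => hw0 (funext fun k => ?_)⟩
      · simp only [Matrix.toLin'_apply, Option.elim_none, one_smul]
        funext k
        simp only [mulVec, dotProduct]
        conv_rhs => rw [← hw]
        simp only [mulVec, dotProduct, map_sum, map_mul]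
        rfl
      · exact (algebraMap K F).injective ((congrFun e k).trans (map_zero _).symm)
    · exact ⟨Module.End.mem_eigenspace_iff.2 (by rw [Matrix.toLin'_apply]; exact v_sig_eig h hv i), hvi i⟩

variable (Fr : Frame M q)

/-- The basis of eigenvectors. -/
noncomputable def bv (o : Option (Fin 6)) : ι → F :=
  o.elim (fun k => algebraMap K F (Fr.w k)) fun i => fun k => sig q i (Fr.v k)

/-- The eigenvalues. -/
noncomputable def mu (o : Option (Fin 6)) : F := o.elim 1 fun i => Fr.lam ^ q ^ (i : ℕ)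

theorem span_top (h : Setup q p M) : Submodule.span F (Set.range (bv Fr)) = ⊤ :=
  Fr.indep.span_eq_top_of_card_eq_finrank (by simp [Fintype.card_option, h.card_ι])

theorem bv_eig (h : Setup q p M) (o : Option (Fin 6)) : up M *ᵥ bv Fr o = mu Fr o • bv Fr o := by
  rcases o with _ | i
  · simp only [bv, mu, Option.elim_none, one_smul]
    funext k
    have := congrArg (algebraMap K F) (congrFun Fr.w_eig k)
    rw [← this]
    simp only [mulVec, dotProduct, map_sum, map_mul]
    rfl
  · exact v_sig_eig h Fr.v_eig i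

theorem ext_bv (h : Setup q p M) {A B : Matrix ι ι F} (e : ∀ o, A *ᵥ bv Fr o = B *ᵥ bv Fr o) : A = B := by
  refine Matrix.toLin'.injective (LinearMap.ext_on_range (span_top Fr h) fun o => ?_)
  rw [Matrix.toLin'_apply, Matrix.toLin'_apply, e o]

theorem mu_injective (h : Setup q p M) : Function.Injective (mu Fr) := by
  have hcp := eig_pow_p h Fr.v_ne Fr.v_eig
  have hne : ∀ i : Fin 6, Fr.lam ^ q ^ (i : ℕ) ≠ 1 := fun i e => by
    have hd := orderOf_dvd_of_pow_eq_one e
    rw [orderOf_lam h Fr.lam_ne hcp] at hd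
    exact not_dvd_q_pow h _ hd
  rintro (_ | i) (_ | j) e
  · rfl
  · exact absurd e.symm (hne j)
  · exact absurd e (hne i)
  · exact congrArg some (Fin.ext (sig_inj h Fr.lam_ne hcp i.2 j.2 e))

/-- An eigenvector of `M` is a multiple of a basis vector. -/
theorem eig_mem (h : Setup q p M) {w : ι → F} {o : Option (Fin 6)} (hw : up M *ᵥ w = mu Fr o • w) :
    ∃ a : F, w = a • bv Fr o := by
  classical
  let b : Module.Basis (Option (Fin 6)) F (ι → F) := Module.Basis.mk Fr.indep (span_top Fr h).ge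
  have hb : ∀ o, b o = bv Fr o := fun o => Module.Basis.mk_apply ..
  have hrep : ∀ x : ι → F, ∀ j, b.repr (up M *ᵥ x) j = mu Fr j * b.repr x j := by
    intro x j
    have hlin : (Finsupp.lapply j).comp (b.repr.toLinearMap.comp (Matrix.toLin' (up M))) =
        mu Fr j • (Finsupp.lapply j).comp b.repr.toLinearMap := by
      refine b.ext fun o => ?_
      simp only [LinearMap.comp_apply, LinearEquiv.coe_coe, Finsupp.lapply_apply, LinearMap.smul_apply,
        Matrix.toLin'_apply, smul_eq_mul]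
      rw [hb, bv_eig Fr h, ← hb, map_smul, Module.Basis.repr_self, Finsupp.smul_apply, smul_eq_mul]
      rcases eq_or_ne o j with rfl | hne
      · rfl
      · rw [Finsupp.single_eq_of_ne hne.symm, mul_zero, mul_zero]
    exact LinearMap.congr_fun hlin x
  refine ⟨b.repr w o, ?_⟩
  conv_lhs => rw [← b.sum_repr w]
  rw [Finset.sum_eq_single o (fun j _ hj => ?_) (fun h => absurd (Finset.mem_univ o) h), hb]
  have h1 := hrep w j
  rw [hw, map_smul, Finsupp.smul_apply, smul_eq_mul] at h1
  have h2 : (mu Fr o - mu Fr j) * b.repr w j = 0 := by rw [sub_mul, h1, sub_self]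
  rw [(mul_eq_zero.1 h2).resolve_left (sub_ne_zero.2 fun e => hj (mu_injective Fr h e).symm), zero_smul]

theorem bv_ne (o : Option (Fin 6)) : bv Fr o ≠ 0 := Fr.indep.ne_zero o

theorem comm_mulVec {A : Matrix ι ι K} (hA : A * M = M * A) {w : ι → F} {c : F} (hw : up M *ᵥ w = c • w) :
    up M *ᵥ (up A *ᵥ w) = c • (up A *ᵥ w) := by
  rw [mulVec_mulVec, ← up_mul, ← hA, up_mul, ← mulVec_mulVec, hw, mulVec_smul]

theorem exists_chi (h : Setup q p M) {A : Matrix ι ι K} (hA : A * M = M * A) :
    ∃ a : F, up A *ᵥ Fr.v = a • Fr.v := by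
  have e0 : bv Fr (some 0) = Fr.v := funext fun k => by simp [bv, sig]
  have em : mu Fr (some 0) = Fr.lam := by simp [mu]
  obtain ⟨a, ha⟩ := eig_mem Fr h (o := some 0) (w := up A *ᵥ Fr.v) (by rw [em]; exact comm_mulVec hA Fr.v_eig)
  exact ⟨a, by rw [ha, e0]⟩

/-- The eigenvalue of a commuting matrix on the first eigenvector. -/
noncomputable def chi (h : Setup q p M) (A : Matrix ι ι K) (hA : A * M = M * A) : F := (exists_chi Fr h hA).choose

theorem chi_spec (h : Setup q p M) (A : Matrix ι ι K) (hA : A * M = M * A) :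
    up A *ᵥ Fr.v = chi Fr h A hA • Fr.v := (exists_chi Fr h hA).choose_spec

theorem chi_eq (h : Setup q p M) {A : Matrix ι ι K} (hA : A * M = M * A) {a : F} (ha : up A *ᵥ Fr.v = a • Fr.v) :
    chi Fr h A hA = a := smul_right_cancel' Fr.v_ne ((chi_spec Fr h A hA).symm.trans ha)

theorem apply_bv (h : Setup q p M) {A : Matrix ι ι K} (hA : A * M = M * A) (i : Fin 6) :
    up A *ᵥ bv Fr (some i) = chi Fr h A hA ^ q ^ (i : ℕ) • bv Fr (some i) := by
  show up A *ᵥ (fun k => sig q i (Fr.v k)) = _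
  rw [sig_mulVec h, chi_spec Fr h A hA]
  funext k
  exact mul_pow _ _ _

theorem exists_scalar (h : Setup q p M) {A : Matrix ι ι K} (hA : A * M = M * A) :
    ∃ c : K, up A *ᵥ bv Fr none = algebraMap K F c • bv Fr none := by
  obtain ⟨a, ha⟩ := eig_mem Fr h (o := none) (w := up A *ᵥ bv Fr none)
    (comm_mulVec hA (bv_eig Fr h none))
  obtain ⟨k, hk⟩ := Function.ne_iff.1 Fr.w_ne
  have e : up A *ᵥ bv Fr none = fun j => algebraMap K F ((A *ᵥ Fr.w) j) := by
    funext j
    simp only [bv, Option.elim_none, mulVec, dotProduct, map_sum, map_mul]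
    rfl
  refine ⟨(A *ᵥ Fr.w) k / Fr.w k, ?_⟩
  have hak : a * algebraMap K F (Fr.w k) = algebraMap K F ((A *ᵥ Fr.w) k) := by
    have := congrFun (e.symm.trans ha) k
    exact this.symm
  rw [ha, map_div₀, ← hak, mul_div_assoc, div_self (by simpa using hk), mul_one]

include Fr in
theorem commute_of_comm (h : Setup q p M) {A B : Matrix ι ι K} (hA : A * M = M * A) (hB : B * M = M * B) :
    A * B = B * A := by
  refine up_injective (ext_bv Fr h fun o => ?_)
  rw [up_mul, up_mul, ← mulVec_mulVec, ← mulVec_mulVec]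
  rcases o with _ | i
  · obtain ⟨a, ha⟩ := exists_scalar Fr h hA
    obtain ⟨b, hb⟩ := exists_scalar Fr h hB
    rw [hb, mulVec_smul, ha, mulVec_smul, hb, smul_smul, smul_smul, mul_comm]
  · rw [apply_bv Fr h hB, mulVec_smul, apply_bv Fr h hA, mulVec_smul, apply_bv Fr h hB, smul_smul, smul_smul, mul_comm]

theorem chi_mul (h : Setup q p M) {A B : Matrix ι ι K} (hA : A * M = M * A) (hB : B * M = M * B)
    (hAB : A * B * M = M * (A * B)) : chi Fr h (A * B) hAB = chi Fr h A hA * chi Fr h B hB := by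
  refine chi_eq Fr h hAB ?_
  rw [up_mul, ← mulVec_mulVec, chi_spec Fr h B hB, mulVec_smul, chi_spec Fr h A hA, smul_smul, mul_comm]

/-- A commuting matrix of order prime to `q - 1` is determined by its first eigenvalue. -/
theorem eq_one_of_chi (h : Setup q p M) {A : Matrix ι ι K} (hA : A * M = M * A) (h1 : chi Fr h A hA = 1) {n : ℕ}
    (hn : A ^ n = 1) (hco : Nat.Coprime n (q - 1)) : A = 1 := by
  haveI := Fintype.ofFinite K
  refine up_injective (ext_bv Fr h fun o => ?_)
  rw [up_one, one_mulVec]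
  rcases o with _ | i
  · obtain ⟨c, hc⟩ := exists_scalar Fr h hA
    have h0 := bv_ne Fr none
    have h2 : algebraMap K F c ^ n = 1 := smul_right_cancel' h0
      (by rw [← pow_mulVec hc n, ← up_pow, hn, up_one, one_mulVec, one_smul])
    rw [← map_pow, ← map_one (algebraMap K F)] at h2
    have h3 := (algebraMap K F).injective h2
    have hc1 : c = 1 := by
      rcases eq_or_ne c 0 with rfl | hc0
      · rcases Nat.eq_zero_or_pos n with rfl | hpos
        · have hq : q - 1 = 1 := (Nat.gcd_zero_left _).symm.trans hco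
          obtain ⟨r, hr⟩ := h.qpow
          have : Odd q := hr ▸ Odd.pow (by decide)
          rcases this with ⟨s, hs⟩; omega
        · rw [zero_pow hpos.ne'] at h3; exact h3
      · have h4 := pow_gcd_eq_one.2 ⟨h3, h.card ▸ Nat.card_eq_fintype_card (α := K) ▸ FiniteField.pow_card_sub_one_eq_one c hc0⟩
        rwa [hco, pow_one] at h4
    rw [hc, hc1, map_one, one_smul]
  · rw [apply_bv Fr h hA, h1, one_pow, one_smul]

include Fr in
/-- Conjugates of `M` among its powers. -/
theorem conj_pow (h : Setup q p M) {A A' : Matrix ι ι K} (hA : A' * A = 1) {k : ℕ} (hk : A * M = M ^ k * A) :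
    ∃ i : ℕ, i < 6 ∧ M ^ k = M ^ q ^ i := by
  have hcp := eig_pow_p h Fr.v_ne Fr.v_eig
  set w := up A *ᵥ Fr.v with hw
  have hw0 : w ≠ 0 := fun e => Fr.v_ne (by
    have := congrArg (fun x => up A' *ᵥ x) e
    simpa [hw, mulVec_mulVec, ← up_mul, hA, up_one] using this)
  have he : up (M ^ k) *ᵥ w = Fr.lam • w := by
    rw [hw, mulVec_mulVec, ← up_mul, ← hk, up_mul, ← mulVec_mulVec, Fr.v_eig, mulVec_smul]
  obtain ⟨o, ho⟩ : ∃ o, mu Fr o ^ k = Fr.lam := by
    by_contra hn
    push Not at hn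
    classical
    let b : Module.Basis (Option (Fin 6)) F (ι → F) := Module.Basis.mk Fr.indep (span_top Fr h).ge
    have hb : ∀ o, b o = bv Fr o := fun o => Module.Basis.mk_apply ..
    refine hw0 ?_
    have hz : ∀ o, b.repr w o = 0 := by
      intro o
      have h1 : up (M ^ k) *ᵥ w = ∑ j, (b.repr w j * mu Fr j ^ k) • b j := by
        conv_lhs => rw [← b.sum_repr w, Matrix.mulVec_sum]
        refine Finset.sum_congr rfl fun j _ => ?_
        rw [mulVec_smul, hb, up_pow, pow_mulVec (bv_eig Fr h j), smul_smul]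
      have h2 := congrArg (fun x => b.repr x o) (h1.symm.trans he)
      simp only [map_sum, map_smul, Module.Basis.repr_self, Finsupp.finsetSum_apply, Finsupp.smul_apply,
        smul_eq_mul] at h2
      rw [Finset.sum_eq_single o (fun j _ hj => by rw [Finsupp.single_eq_of_ne hj.symm, mul_zero])
        (fun hh => absurd (Finset.mem_univ o) hh), Finsupp.single_eq_same, mul_one] at h2
      have h3 : b.repr w o * (mu Fr o ^ k - Fr.lam) = 0 := by rw [mul_sub, h2]; ring
      exact (mul_eq_zero.1 h3).resolve_right (sub_ne_zero.2 (hn o))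
    rw [← b.sum_repr w]
    exact Finset.sum_eq_zero fun j _ => by rw [hz j, zero_smul]
  rcases o with _ | i
  · simp [mu] at ho
    exact absurd ho.symm Fr.lam_ne
  · simp only [mu, Option.elim_some, ← pow_mul] at ho
    have h1 : q ^ (i : ℕ) * k ≡ 1 [MOD p] := by
      rw [← orderOf_lam h Fr.lam_ne hcp]
      exact (isOfFinOrder_iff_pow_eq_one.2 ⟨p, h.prime.pos, hcp⟩).pow_eq_pow_iff_modEq.1 (ho.trans (pow_one _).symm)
    refine ⟨(6 - (i : ℕ)) % 6, Nat.mod_lt _ (by norm_num), ?_⟩
    have h6 : q ^ 6 ≡ 1 [MOD p] := h.ord6.trans (Nat.mod_eq_of_lt h.prime.one_lt).symm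
    have h2 : q ^ (i : ℕ) * q ^ ((6 - (i : ℕ)) % 6) ≡ 1 [MOD p] := by
      rw [← pow_add]
      rcases Nat.eq_zero_or_pos (i : ℕ) with e | e
      · rw [e]; simp [Nat.ModEq.refl]
      · rw [Nat.mod_eq_of_lt (show 6 - (i : ℕ) < 6 by omega), Nat.add_sub_cancel' i.2.le]; exact h6
    have h3 : k ≡ q ^ ((6 - (i : ℕ)) % 6) [MOD p] := by
      calc k = 1 * k := (one_mul k).symm
        _ ≡ q ^ (i : ℕ) * q ^ ((6 - (i : ℕ)) % 6) * k [MOD p] := (h2.mul_right k).symm
        _ = q ^ ((6 - (i : ℕ)) % 6) * (q ^ (i : ℕ) * k) := by ring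
        _ ≡ q ^ ((6 - (i : ℕ)) % 6) * 1 [MOD p] := h1.mul_left _
        _ = _ := mul_one _
    rw [← pow_mod_orderOf M k, ← pow_mod_orderOf M (q ^ _)]
    haveI : Fact p.Prime := ⟨h.prime⟩
    rw [orderOf_eq_prime h.pow_p h.ne_one, h3]

end CfsgLib.Chev.Ree.Eig
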