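import Cfsg.Agent.Chev.Ree.PSLElliptic

/-! The abelian subgroups of order `q + 1` of the small Ree groups. -/

set_option autoImplicit false
set_option maxRecDepth 100000
set_option linter.style.haveILetI false
set_option linter.unusedSectionVars false

namespace CfsgLib.Chev.Ree

open Cfsg.Lie CfsgLib.Chev Matrix CfsgLib.SL2

universe u

variable {K : Type u} [Field K] [Finite K] [CharP K 3] (m : ℕ)

local notation "θ" => (3 ^ m : ℕ)
local notation "G¹" => twistedG2 K (3 ^ m)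
local notation "k₂" => ((3 ^ (2 * m + 1) + 1) / 4)

variable (hK : Nat.card K = 3 ^ (2 * m + 1))

theorem comm_psl_iff {g t : ↥G¹} {y x : ProjectiveSpecialLinearGroup (Fin 2) K}
    (hg : g = psl K m hK y ∨ g = hmG K m * psl K m hK y) (ht : t = psl K m hK x ∨ t = hmG K m * psl K m hK x) :
    g * t = t * g ↔ y * x = x * y := by
  have hh := hm_comm_psl m hK
  have e : ∀ a b : ↥G¹, (a = 1 ∨ a = hmG K m) → (b = 1 ∨ b = hmG K m) →
      (a * psl K m hK y * (b * psl K m hK x) = b * psl K m hK x * (a * psl K m hK y) ↔ y * x = x * y) := by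
    intro a b ha hb
    have hc : ∀ c : ↥G¹, (c = 1 ∨ c = hmG K m) → ∀ z, c * psl K m hK z = psl K m hK z * c := by
      rintro c (rfl | rfl) z
      · simp
      · exact hh z
    have hab : a * b = b * a := by rcases ha with rfl | rfl <;> rcases hb with rfl | rfl <;> simp
    rw [show a * psl K m hK y * (b * psl K m hK x) = a * (psl K m hK y * b) * psl K m hK x by group,
      ← hc b hb, show b * psl K m hK x * (a * psl K m hK y) = b * (psl K m hK x * a) * psl K m hK y by group,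
      ← hc a ha, ← mul_assoc a, ← mul_assoc b, hab, mul_assoc (b * a), mul_assoc (b * a), mul_right_inj,
      ← map_mul, ← map_mul]
    exact ⟨fun h => psl_injective m hK h, fun h => by rw [h]⟩
  rcases hg with rfl | rfl <;> rcases ht with rfl | rfl
  · simpa using e 1 1 (Or.inl rfl) (Or.inl rfl)
  · simpa using e 1 _ (Or.inl rfl) (Or.inr rfl)
  · simpa using e _ 1 (Or.inr rfl) (Or.inl rfl)
  · exact e _ _ (Or.inr rfl) (Or.inr rfl)

include hK in
theorem card_Ch_inf {t : ↥G¹} {x : ProjectiveSpecialLinearGroup (Fin 2) K}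
    (ht : t = psl K m hK x ∨ t = hmG K m * psl K m hK x) :
    Nat.card ↥(Ch K m ⊓ Subgroup.centralizer {t}) =
      2 * Nat.card ↥(Subgroup.centralizer ({x} : Set (ProjectiveSpecialLinearGroup (Fin 2) K))) := by
  have e : Ch K m ⊓ Subgroup.centralizer {t} =
      ((⊤ : Subgroup (Multiplicative (ZMod 2))).prod
        (Subgroup.centralizer ({x} : Set (ProjectiveSpecialLinearGroup (Fin 2) K)))).map
        ((Ch K m).subtype.comp (centralizerEquiv K m hK).toMonoidHom) := by
    have hval : ∀ p, ((centralizerEquiv K m hK p : ↥(Ch K m)) : ↥G¹) =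
        (if p.1 = 1 then 1 else hmG K m) * psl K m hK p.2 := fun p => rfl
    have hform : ∀ p, ((centralizerEquiv K m hK p : ↥(Ch K m)) : ↥G¹) = psl K m hK p.2 ∨
        ((centralizerEquiv K m hK p : ↥(Ch K m)) : ↥G¹) = hmG K m * psl K m hK p.2 := fun p => by
      rw [hval]; split_ifs <;> simp
    ext g
    constructor
    · intro hg
      obtain ⟨hg1, hg2⟩ := Subgroup.mem_inf.1 hg
      obtain ⟨p, hp⟩ := (centralizerEquiv K m hK).surjective ⟨g, hg1⟩
      have hp' : ((centralizerEquiv K m hK p : ↥(Ch K m)) : ↥G¹) = g := congrArg Subtype.val hp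
      refine ⟨p, ⟨Subgroup.mem_top _, Subgroup.mem_centralizer_singleton_iff.2 ?_⟩, hp'⟩
      exact (comm_psl_iff m hK (hp' ▸ hform p) ht).1 (Subgroup.mem_centralizer_singleton_iff.1 hg2)
    · rintro ⟨p, ⟨-, hp⟩, rfl⟩
      refine Subgroup.mem_inf.2 ⟨(centralizerEquiv K m hK p).2, Subgroup.mem_centralizer_singleton_iff.2 ?_⟩
      exact (comm_psl_iff m hK (hform p) ht).2 (Subgroup.mem_centralizer_singleton_iff.1 hp)
  rw [e, ← Nat.card_congr (Subgroup.equivMapOfInjective _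
    ((Ch K m).subtype.comp (centralizerEquiv K m hK).toMonoidHom)
    (fun a b h => (centralizerEquiv K m hK).injective (Subtype.val_injective h))).toEquiv,
    Nat.card_congr (Subgroup.prodEquiv _ _).toEquiv, Nat.card_prod, Subgroup.card_top]
  simp

include hK in
theorem psl_of_odd {g : ↥G¹} (hg : g ∈ Ch K m) {k : ℕ} (hk : Odd k) (h : g ^ k = 1) :
    ∃ y, g = psl K m hK y ∧ y ^ k = 1 := by
  obtain ⟨y, rfl | rfl⟩ := mem_centralizer_hm m hK ((mem_Ch m).1 hg)
  · exact ⟨y, rfl, psl_injective m hK (by rw [map_pow, h, map_one])⟩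
  · exfalso
    obtain ⟨j, hj⟩ := hk
    rw [(show Commute (hmG K m) (psl K m hK y) from hm_comm_psl m hK y).mul_pow, ← map_pow, hj, pow_succ (hmG K m),
      pow_mul, pow_two, hmG_mul_self m hK, one_pow, one_mul] at h
    refine psl_ne_hm m hK (y ^ (2 * j + 1)) ?_
    rw [eq_inv_of_mul_eq_one_right h, inv_eq_of_mul_eq_one_right (hmG_mul_self m hK)]

include hK in
/-- Inside the centraliser of an involution, the centraliser of an element of order dividing `(q+1)/4`. -/
theorem card_inf_centralizers {i x : ↥G¹} (hi : i * i = 1) (hi1 : i ≠ 1) (hx : x ∈ Subgroup.centralizer {i})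
    (hxk : x ^ k₂ = 1) (hx1 : x ≠ 1) :
    Nat.card ↥(Subgroup.centralizer {x} ⊓ Subgroup.centralizer {i}) = 3 ^ (2 * m + 1) + 1 := by
  obtain ⟨d, hd⟩ := isConj_iff.1 (isConj_hm m hK hi hi1)
  have hx' : d * x * d⁻¹ ∈ Ch K m := by
    rw [mem_Ch, ← hd, show d * i * d⁻¹ * (d * x * d⁻¹) = d * (i * x) * d⁻¹ by group,
      ← Subgroup.mem_centralizer_singleton_iff.1 hx]
    group
  obtain ⟨y, hy, hyk⟩ := psl_of_odd m hK hx' (k2_facts (K := K) m hK).2.1
    (show (d * x * d⁻¹) ^ k₂ = 1 by rw [conj_pow, hxk, mul_one, mul_inv_cancel])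
  have hy1 : y ≠ 1 := fun h => hx1 (conj_eq_one_iff.1 (by rw [hy, h, map_one]))
  have e := GL0.card_centralizer_conj d ({x, i} : Set ↥G¹)
  rw [Set.image_pair, show MulAut.conj d x = d * x * d⁻¹ from rfl, show MulAut.conj d i = d * i * d⁻¹ from rfl, hd,
    Set.pair_comm, GL0.centralizer_insert, GL0.centralizer_insert] at e
  rw [← e, show Subgroup.centralizer {hmG K m} = Ch K m from rfl, card_Ch_inf m hK (Or.inl hy),
    card_centralizer_elliptic_proj m hK hyk hy1]

/-! ### The four group and its centraliser -/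

variable (K) in
/-- The four group. -/
noncomputable def VG (hK : Nat.card K = 3 ^ (2 * m + 1)) : Subgroup ↥G¹ :=
  (Subgroup.centralizer {wP K, jP K}).map (psl K m hK)

theorem mem_VG {g : ↥G¹} : g ∈ VG K m hK ↔
    ∃ v, (v = 1 ∨ v = wP K ∨ v = jP K ∨ v = wP K * jP K) ∧ g = psl K m hK v := by
  constructor
  · rintro ⟨v, hv, rfl⟩
    exact ⟨v, four_centralizer m hK ((Subgroup.mem_centralizer_iff.1 hv) _ (by simp)).symm
      ((Subgroup.mem_centralizer_iff.1 hv) _ (by simp)).symm, rfl⟩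
  · rintro ⟨v, hv, rfl⟩
    refine ⟨v, Subgroup.mem_centralizer_iff.2 fun a ha => ?_, rfl⟩
    have hwj := wP_jP (K := K)
    simp only [Set.mem_insert_iff, Set.mem_singleton_iff] at ha
    rcases ha with rfl | rfl <;> rcases hv with rfl | rfl | rfl | rfl
    any_goals simp
    · exact hwj
    · rw [mul_assoc, hwj]
    · exact hwj.symm
    · rw [← mul_assoc, ← hwj]

theorem VG_le_S₀ : VG K m hK ≤ S₀ K m hK := fun g hg => by
  obtain ⟨v, hv, rfl⟩ := (mem_VG m hK).1 hg
  exact psl_mem_S₀ m hK hv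

include hK in
theorem card_VG : Nat.card ↥(VG K m hK) = 4 := by
  have e : ((VG K m hK : Subgroup ↥G¹) : Set ↥G¹) = psl K m hK '' {1, wP K, jP K, wP K * jP K} := by
    ext g
    rw [SetLike.mem_coe, mem_VG]
    simp only [Set.mem_image, Set.mem_insert_iff, Set.mem_singleton_iff]
    exact ⟨fun ⟨v, hv, h⟩ => ⟨v, hv, h.symm⟩, fun ⟨v, hv, h⟩ => ⟨v, hv, h.symm⟩⟩
  obtain ⟨h1, h2, h3⟩ := wP_jP_ne (K := K)
  rw [← SetLike.coe_sort_coe, Nat.card_coe_set_eq, e, Set.ncard_image_of_injective _ (psl_injective m hK),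
    Set.ncard_insert_of_notMem (by simp [(wP_ne_one (K := K)).symm, (jP_ne_one (K := K)).symm, h1.symm]),
    Set.ncard_insert_of_notMem (by simp [wP_ne_jP, h2.symm]),
    Set.ncard_insert_of_notMem (by simp [h3.symm]), Set.ncard_singleton]

variable (K) in
/-- The centraliser of the four group. -/
noncomputable def CV (hK : Nat.card K = 3 ^ (2 * m + 1)) : Subgroup ↥G¹ :=
  Subgroup.centralizer {psl K m hK (wP K), psl K m hK (jP K)}

theorem CV_comm {g v : ↥G¹} (hg : g ∈ CV K m hK) (hv : v ∈ VG K m hK) : v * g = g * v := by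
  rw [CV, Subgroup.mem_centralizer_iff] at hg
  obtain ⟨w, hw, rfl⟩ := (mem_VG m hK).1 hv
  have h1 := hg _ (Set.mem_insert _ _)
  have h2 := hg (psl K m hK (jP K)) (by simp)
  rcases hw with rfl | rfl | rfl | rfl
  · simp
  · exact h1
  · exact h2
  · rw [map_mul, mul_assoc, h2, ← mul_assoc, h1, mul_assoc]

theorem VG_le_CV : VG K m hK ≤ CV K m hK := fun g hg => Subgroup.mem_centralizer_iff.2 fun a ha => by
  simp only [Set.mem_insert_iff, Set.mem_singleton_iff] at ha
  have hS := VG_le_S₀ m hK hg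
  rcases ha with rfl | rfl <;> exact S₀_comm m hK (psl_mem_S₀ m hK (by simp)) hS

theorem psl_wP_ne : psl K m hK (wP K) * psl K m hK (wP K) = 1 ∧ psl K m hK (wP K) ≠ 1 :=
  ⟨by rw [← map_mul, wP_mul_self, map_one], fun h => wP_ne_one (psl_injective m hK (h.trans (map_one _).symm))⟩

include hK in
theorem exists_frame : ∃ (d : ↥G¹) (x c : ProjectiveSpecialLinearGroup (Fin 2) K),
    d * psl K m hK (wP K) * d⁻¹ = hmG K m ∧ x * x = 1 ∧ x ≠ 1 ∧
    (d * psl K m hK (jP K) * d⁻¹ = psl K m hK x ∨ d * psl K m hK (jP K) * d⁻¹ = hmG K m * psl K m hK x) ∧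
    orderOf c = 2 * k₂ ∧ c ^ k₂ = x := by
  obtain ⟨hw2, hw1⟩ := psl_wP_ne m hK
  obtain ⟨d, hd⟩ := isConj_iff.1 (isConj_hm m hK hw2 hw1)
  set s := d * psl K m hK (jP K) * d⁻¹ with hs
  have hsC : hmG K m * s = s * hmG K m := by
    rw [← hd, hs, show ∀ a b : ↥G¹, d * a * d⁻¹ * (d * b * d⁻¹) = d * (a * b) * d⁻¹ from fun a b => by group,
      show ∀ a b : ↥G¹, d * a * d⁻¹ * (d * b * d⁻¹) = d * (a * b) * d⁻¹ from fun a b => by group,
      ← map_mul, ← map_mul, wP_jP]
  obtain ⟨x, hx⟩ := mem_centralizer_hm m hK hsC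
  have hs2 : s * s = 1 := by
    rw [hs, show d * psl K m hK (jP K) * d⁻¹ * (d * psl K m hK (jP K) * d⁻¹) =
      d * (psl K m hK (jP K) * psl K m hK (jP K)) * d⁻¹ by group, ← map_mul, jP_mul_self, map_one]
    group
  have hx2 : x * x = 1 := psl_injective m hK (by
    rcases hx with e | e <;> rw [e] at hs2
    · rw [map_mul, map_one, hs2]
    · rw [map_mul, map_one, ← hs2, show ∀ a b : ↥G¹, a * b * (a * b) = a * (b * a) * b from fun a b => by group,
        ← hm_comm_psl m hK, ← mul_assoc (hmG K m), hmG_mul_self m hK, one_mul])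
  have hx1 : x ≠ 1 := fun h => by
    rw [h, map_one, mul_one] at hx
    rcases hx with e | e
    · exact jP_ne_one (psl_injective m hK ((conj_eq_one_iff.1 e).trans (map_one _).symm))
    · rw [← hd, hs, mul_left_inj, mul_right_inj] at e
      exact wP_ne_jP (psl_injective m hK e).symm
  obtain ⟨c, hc, hcx⟩ := exists_c m hK hx2 hx1
  exact ⟨d, x, c, hd, hx2, hx1, hx, hc, hcx⟩

include hK in
theorem conj_mem_iff {d g : ↥G¹} {x : ProjectiveSpecialLinearGroup (Fin 2) K}
    (hd : d * psl K m hK (wP K) * d⁻¹ = hmG K m) :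
    g ∈ CV K m hK ↔ d * g * d⁻¹ ∈ Ch K m ⊓ Subgroup.centralizer {d * psl K m hK (jP K) * d⁻¹} := by
  have key : ∀ a : ↥G¹, a * g = g * a ↔ d * a * d⁻¹ * (d * g * d⁻¹) = d * g * d⁻¹ * (d * a * d⁻¹) := fun a => by
    rw [show ∀ p q : ↥G¹, d * p * d⁻¹ * (d * q * d⁻¹) = d * (p * q) * d⁻¹ from fun p q => by group,
      show ∀ p q : ↥G¹, d * p * d⁻¹ * (d * q * d⁻¹) = d * (p * q) * d⁻¹ from fun p q => by group,
      mul_left_inj, mul_right_inj]
  rw [Subgroup.mem_inf, mem_Ch, ← hd, ← key, Subgroup.mem_centralizer_singleton_iff,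
    eq_comm (a := d * g * d⁻¹ * _), ← key, CV, Subgroup.mem_centralizer_iff]
  simp

include hK in
theorem card_CV : Nat.card ↥(CV K m hK) = 2 * (3 ^ (2 * m + 1) + 1) := by
  obtain ⟨d, x, c, hd, hx2, hx1, hs, -, -⟩ := exists_frame m hK
  rw [← card_centralizer_involution m hK hx2 hx1, ← card_Ch_inf m hK hs, CV,
    ← GL0.card_centralizer_conj d, Set.image_pair, GL0.centralizer_insert]
  simp only [MulAut.conj_apply, hd]

variable (K) in
/-- The cyclic group of order `(q+1)/4`. -/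
noncomputable def A2 (hK : Nat.card K = 3 ^ (2 * m + 1)) : Subgroup ↥G¹ :=
  ((Subgroup.zpowers ((exists_frame m hK).choose_spec.choose_spec.choose ^ 2)).map (psl K m hK)).map
    (MulAut.conj (exists_frame m hK).choose⁻¹).toMonoidHom

theorem isCyclic_A2 : IsCyclic ↥(A2 K m hK) := by
  rw [A2, MonoidHom.map_zpowers, MonoidHom.map_zpowers]
  exact Subgroup.isCyclic_zpowers _

theorem card_A2 : Nat.card ↥(A2 K m hK) = k₂ := by
  obtain ⟨-, -, -, -, hc, -⟩ := (exists_frame m hK).choose_spec.choose_spec.choose_spec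
  set c := (exists_frame m hK).choose_spec.choose_spec.choose
  rw [A2, ← Nat.card_congr (Subgroup.equivMapOfInjective _ _ (MulEquiv.injective _)).toEquiv,
    ← Nat.card_congr (Subgroup.equivMapOfInjective _ _ (psl_injective m hK)).toEquiv, Nat.card_zpowers,
    orderOf_pow' _ (by norm_num), hc, Nat.gcd_eq_right (dvd_mul_right 2 _), Nat.mul_div_cancel_left _ (by norm_num)]

theorem pow_of_mem_A2 {g : ↥G¹} (hg : g ∈ A2 K m hK) : g ^ k₂ = 1 := by
  rw [← card_A2 m hK]
  exact congrArg Subtype.val (pow_card_eq_one' (x := (⟨g, hg⟩ : ↥(A2 K m hK))))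

theorem A2_le : A2 K m hK ≤ CV K m hK := by
  obtain ⟨hd, -, -, hs, -, hcx⟩ := (exists_frame m hK).choose_spec.choose_spec.choose_spec
  set d := (exists_frame m hK).choose
  set x := (exists_frame m hK).choose_spec.choose
  set c := (exists_frame m hK).choose_spec.choose_spec.choose
  rintro _ ⟨_, ⟨y, hy, rfl⟩, rfl⟩
  refine (conj_mem_iff (x := x) m hK hd).2 ?_
  show d * (d⁻¹ * psl K m hK y * d⁻¹⁻¹) * d⁻¹ ∈ _
  rw [show d * (d⁻¹ * psl K m hK y * d⁻¹⁻¹) * d⁻¹ = psl K m hK y by group]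
  refine Subgroup.mem_inf.2 ⟨psl_mem_Ch m hK y, Subgroup.mem_centralizer_singleton_iff.2
    ((comm_psl_iff m hK (Or.inl rfl) hs).2 ?_)⟩
  obtain ⟨j, rfl⟩ := Subgroup.mem_zpowers_iff.1 hy
  have h := (((Commute.refl c).pow_left 2).zpow_left j).pow_right k₂
  rw [hcx] at h
  exact h.eq

theorem mem_A2_of_odd {g : ↥G¹} (hg : g ∈ CV K m hK) (hodd : Odd (orderOf g)) : g ∈ A2 K m hK := by
  obtain ⟨hd, hx2, hx1, hs, hc, hcx⟩ := (exists_frame m hK).choose_spec.choose_spec.choose_spec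
  set d := (exists_frame m hK).choose with hdd
  set x := (exists_frame m hK).choose_spec.choose
  set c := (exists_frame m hK).choose_spec.choose_spec.choose
  obtain ⟨h1, h2⟩ := Subgroup.mem_inf.1 ((conj_mem_iff (x := x) m hK hd).1 hg)
  have ho : orderOf (d * g * d⁻¹) = orderOf g := by
    rw [← MulAut.conj_apply, MulEquiv.orderOf_eq]
  obtain ⟨y, hy, -⟩ := psl_of_odd m hK h1 (ho ▸ hodd) (pow_orderOf_eq_one _)
  have hyx := (comm_psl_iff m hK (Or.inl hy) hs).1 (Subgroup.mem_centralizer_singleton_iff.1 h2)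
  have hyo : Odd (orderOf y) := by
    rw [← orderOf_injective (psl K m hK) (psl_injective m hK) y, ← hy, ho]; exact hodd
  refine ⟨d * g * d⁻¹, ⟨y, zpowers_sq_of_odd m hK hx2 hx1 hc hcx hyx hyo, hy.symm⟩, ?_⟩
  show d⁻¹ * (d * g * d⁻¹) * d⁻¹⁻¹ = g
  group

/-! ### Normalisers -/

include hK in
theorem no_swap {g s : ↥G¹} (hg : g ∈ Ch K m) {x : ProjectiveSpecialLinearGroup (Fin 2) K}
    (hs : s = psl K m hK x ∨ s = hmG K m * psl K m hK x) : g * s * g⁻¹ ≠ hmG K m * s := by
  obtain ⟨y, hy⟩ := hm_psl_conj m hK hg x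
  intro h
  have hgh : g * hmG K m * g⁻¹ = hmG K m := by rw [← (mem_Ch m).1 hg, mul_inv_cancel_right]
  have h' : psl K m hK y = hmG K m * psl K m hK x := by
    rcases hs with rfl | rfl
    · rwa [hy] at h
    · rw [show g * (hmG K m * psl K m hK x) * g⁻¹ = (g * hmG K m * g⁻¹) * (g * psl K m hK x * g⁻¹) by group, hgh,
        hy] at h
      exact mul_left_cancel h
  exact psl_ne_hm m hK (y * x⁻¹) (by rw [map_mul, map_inv, h', mul_inv_cancel_right])

include hK in
theorem conj_mem_VG {g : ↥G¹} (hg : g ∈ Subgroup.normalizer ((VG K m hK : Subgroup ↥G¹) : Set ↥G¹))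
    (hw : g * psl K m hK (wP K) * g⁻¹ = psl K m hK (wP K)) : g ∈ CV K m hK := by
  obtain ⟨d, x, c, hd, -, -, hs, -, -⟩ := exists_frame m hK
  have hj : g * psl K m hK (jP K) * g⁻¹ = psl K m hK (jP K) := by
    obtain ⟨v, hv, e⟩ := (mem_VG m hK).1 ((Subgroup.mem_normalizer_iff.1 hg _).1
      ((mem_VG m hK).2 ⟨jP K, by simp, rfl⟩))
    rcases hv with rfl | rfl | rfl | rfl
    · rw [map_one, conj_eq_one_iff] at e
      exact absurd (psl_injective m hK (e.trans (map_one _).symm)) jP_ne_one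
    · rw [← hw, mul_left_inj, mul_right_inj] at e
      exact absurd (psl_injective m hK e).symm wP_ne_jP
    · exact e
    · exfalso
      have hC : d * g * d⁻¹ ∈ Ch K m := by
        rw [mem_Ch, ← hd, show ∀ p q : ↥G¹, d * p * d⁻¹ * (d * q * d⁻¹) = d * (p * q) * d⁻¹ from fun p q => by group,
          show ∀ p q : ↥G¹, d * p * d⁻¹ * (d * q * d⁻¹) = d * (p * q) * d⁻¹ from fun p q => by group]
        congr 2
        nth_rewrite 1 [← hw]
        rw [inv_mul_cancel_right]
      refine no_swap m hK hC hs ?_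
      rw [← hd, show d * g * d⁻¹ * (d * psl K m hK (jP K) * d⁻¹) * (d * g * d⁻¹)⁻¹ =
        d * (g * psl K m hK (jP K) * g⁻¹) * d⁻¹ by group, e, map_mul]
      group
  rw [CV, Subgroup.mem_centralizer_iff]
  intro a ha
  simp only [Set.mem_insert_iff, Set.mem_singleton_iff] at ha
  rcases ha with rfl | rfl
  · exact (mul_inv_eq_iff_eq_mul.1 hw).symm
  · exact (mul_inv_eq_iff_eq_mul.1 hj).symm

theorem CV_le_normalizer : CV K m hK ≤ Subgroup.normalizer ((VG K m hK : Subgroup ↥G¹) : Set ↥G¹) := fun g hg =>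
  GL0.mem_normalizer_of_conj_le fun v hv => by rw [← CV_comm m hK hg hv, mul_inv_cancel_right]; exact hv

include hK in
theorem card_normalizer_VG :
    Nat.card ↥(Subgroup.normalizer ((VG K m hK : Subgroup ↥G¹) : Set ↥G¹)) = 6 * (3 ^ (2 * m + 1) + 1) := by
  set N := Subgroup.normalizer ((VG K m hK : Subgroup ↥G¹) : Set ↥G¹) with hN
  obtain ⟨c, hc1, hc2⟩ := exists_cE K
  set c' := psl K m hK (proj c) with hc'
  have c1 : c' * psl K m hK (wP K) * c'⁻¹ = psl K m hK (jP K) := by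
    rw [hc', ← map_inv, ← map_mul, ← map_mul, wP, jP, ← map_inv, ← map_mul, ← map_mul, hc1,
      mul_inv_cancel_right]
  have c2 : c' * psl K m hK (jP K) * c'⁻¹ = psl K m hK (wP K * jP K) := by
    rw [hc', ← map_inv, ← map_mul, ← map_mul, wP, jP, ← map_inv, ← map_mul, ← map_mul, ← map_mul, hc2,
      mul_inv_cancel_right]
  have cN : c' ∈ N := GL0.mem_normalizer_of_conj_le fun x hx => by
    obtain ⟨v, hv, rfl⟩ := (mem_VG m hK).1 hx
    rcases hv with rfl | rfl | rfl | rfl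
    · simp
    · rw [c1]; exact (mem_VG m hK).2 ⟨_, by simp, rfl⟩
    · rw [c2]; exact (mem_VG m hK).2 ⟨_, by simp, rfl⟩
    · rw [map_mul, show c' * (psl K m hK (wP K) * psl K m hK (jP K)) * c'⁻¹ =
        (c' * psl K m hK (wP K) * c'⁻¹) * (c' * psl K m hK (jP K) * c'⁻¹) by group, c1, c2]
      exact mul_mem ((mem_VG m hK).2 ⟨_, by simp, rfl⟩) ((mem_VG m hK).2 ⟨_, by simp, rfl⟩)
  have o : {y : ↥G¹ | ∃ g ∈ N, g * psl K m hK (wP K) * g⁻¹ = y} = psl K m hK '' {wP K, jP K, wP K * jP K} := by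
    ext y
    constructor
    · rintro ⟨g, hg, rfl⟩
      obtain ⟨v, hv, e⟩ := (mem_VG m hK).1 ((Subgroup.mem_normalizer_iff.1 hg _).1
        ((mem_VG m hK).2 ⟨wP K, by simp, rfl⟩))
      refine ⟨v, ?_, e.symm⟩
      rcases hv with rfl | h'
      · rw [map_one, conj_eq_one_iff] at e
        exact absurd (psl_injective m hK (e.trans (map_one _).symm)) wP_ne_one
      · simpa using h'
    · rintro ⟨v, hv, rfl⟩
      simp only [Set.mem_insert_iff, Set.mem_singleton_iff] at hv
      rcases hv with rfl | rfl | rfl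
      · exact ⟨1, one_mem _, by simp⟩
      · exact ⟨c', cN, c1⟩
      · exact ⟨c' * c', mul_mem cN cN, by
          rw [show c' * c' * psl K m hK (wP K) * (c' * c')⁻¹ = c' * (c' * psl K m hK (wP K) * c'⁻¹) * c'⁻¹ by group,
            c1, c2]⟩
  have e2 : N ⊓ Subgroup.centralizer {psl K m hK (wP K)} = CV K m hK := by
    refine le_antisymm (fun g hg => ?_) (le_inf (CV_le_normalizer m hK) (Subgroup.centralizer_le (by simp)))
    obtain ⟨h1, h2⟩ := Subgroup.mem_inf.1 hg
    exact conj_mem_VG m hK h1 (by rw [Subgroup.mem_centralizer_singleton_iff.1 h2, mul_inv_cancel_right])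
  obtain ⟨h1, h2, h3⟩ := wP_jP_ne (K := K)
  rw [GL0.card_eq_conj N (psl K m hK (wP K)), e2, card_CV m hK,
    show Nat.card {y : ↥G¹ // ∃ g ∈ N, g * psl K m hK (wP K) * g⁻¹ = y} =
      Set.ncard {y : ↥G¹ | ∃ g ∈ N, g * psl K m hK (wP K) * g⁻¹ = y} from rfl, o,
    Set.ncard_image_of_injective _ (psl_injective m hK),
    Set.ncard_insert_of_notMem (by simp [wP_ne_jP, h2.symm]),
    Set.ncard_insert_of_notMem (by simp [h3.symm]), Set.ncard_singleton]
  ring

end CfsgLib.Chev.Ree
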