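import Mathlib

/-! Elementary facts about conjugation in finite groups used for the small Ree groups. -/

set_option autoImplicit false

namespace CfsgLib.Chev.Ree.GL0

variable {G : Type*} [Group G]

/-- Conjugates under a subgroup: orbit times stabiliser. -/
theorem card_eq_conj [Finite G] (N : Subgroup G) (z : G) :
    Nat.card ↥N = Nat.card {y : G // ∃ g ∈ N, g * z * g⁻¹ = y} * Nat.card ↥(N ⊓ Subgroup.centralizer {z}) := by
  letI : MulAction ↥N G := MulAction.compHom G (MulAut.conj.comp N.subtype)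
  have hs : ∀ (g : ↥N) (x : G), g • x = (g : G) * x * (g : G)⁻¹ := fun g x => rfl
  have e : MulAction.stabilizer ↥N z = (Subgroup.centralizer {z}).subgroupOf N := by
    ext g
    rw [MulAction.mem_stabilizer_iff, hs, mul_inv_eq_iff_eq_mul, Subgroup.mem_subgroupOf,
      Subgroup.mem_centralizer_singleton_iff]
  have eo : MulAction.orbit ↥N z = {y : G | ∃ g ∈ N, g * z * g⁻¹ = y} := by
    ext y
    exact ⟨fun ⟨g, hg⟩ => ⟨g, g.2, hg⟩, fun ⟨g, hg, h⟩ => ⟨⟨g, hg⟩, h⟩⟩
  rw [← Subgroup.index_mul_card (MulAction.stabilizer ↥N z), MulAction.index_stabilizer, eo,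
    ← Nat.card_coe_set_eq, e,
    ← Nat.card_congr (Subgroup.subgroupOfEquivOfLe (inf_le_left : N ⊓ Subgroup.centralizer {z} ≤ N)).toEquiv,
    Subgroup.inf_subgroupOf_left]
  rfl

theorem map_conj_centralizer (g : G) (s : Set G) :
    (Subgroup.centralizer s).map (MulAut.conj g).toMonoidHom = Subgroup.centralizer (MulAut.conj g '' s) := by
  ext x
  rw [Subgroup.mem_map_equiv, Subgroup.mem_centralizer_iff, Subgroup.mem_centralizer_iff]
  constructor
  · rintro h _ ⟨y, hy, rfl⟩
    have := congrArg (MulAut.conj g) (h y hy)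
    rwa [map_mul, map_mul, MulEquiv.apply_symm_apply] at this
  · intro h y hy
    have := congrArg (MulAut.conj g).symm (h _ ⟨y, hy, rfl⟩)
    rwa [map_mul, map_mul, MulEquiv.symm_apply_apply] at this

theorem card_centralizer_conj (g : G) (s : Set G) :
    Nat.card ↥(Subgroup.centralizer (MulAut.conj g '' s)) = Nat.card ↥(Subgroup.centralizer s) := by
  rw [← map_conj_centralizer]
  exact (Nat.card_congr (Subgroup.equivMapOfInjective _ _ (MulEquiv.injective _)).toEquiv).symm

theorem centralizer_insert (a : G) (s : Set G) :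
    Subgroup.centralizer (insert a s) = Subgroup.centralizer {a} ⊓ Subgroup.centralizer s := by
  ext x
  simp only [Subgroup.mem_inf, Subgroup.mem_centralizer_iff, Set.mem_insert_iff, forall_eq_or_imp,
    Set.mem_singleton_iff, forall_eq]

theorem mem_normalizer_of_conj_le [Finite G] {H : Subgroup G} {g : G} (h : ∀ x ∈ H, g * x * g⁻¹ ∈ H) :
    g ∈ Subgroup.normalizer (H : Set G) := by
  have e : H.map (MulAut.conj g).toMonoidHom = H := by
    refine Subgroup.eq_of_le_of_card_ge ?_
      (Nat.card_congr (Subgroup.equivMapOfInjective H _ (MulEquiv.injective (MulAut.conj g))).toEquiv).le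
    rintro _ ⟨x, hx, rfl⟩
    exact h x hx
  refine Subgroup.mem_normalizer_iff.2 fun x => ⟨h x, fun hx => ?_⟩
  rw [← e] at hx
  obtain ⟨y, hy, hye⟩ := hx
  rwa [show x = y from (MulEquiv.injective (MulAut.conj g) hye).symm]

end CfsgLib.Chev.Ree.GL0
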