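import Cfsg.Agent.Chev.Ree.Involutions
import Cfsg.Agent.Chev.Ree.GroupLemmas

/-! A Sylow 2-subgroup of a small Ree group, its centraliser and normaliser. -/

set_option autoImplicit false
set_option maxRecDepth 100000
set_option linter.style.haveILetI false
set_option linter.unusedSectionVars false

namespace CfsgLib.Chev.Ree

open Cfsg.Lie CfsgLib.Chev Matrix CfsgLib.SL2

universe u

variable {K : Type u} [Field K] [Finite K] [CharP K 3] (m : ℕ)

local notation "θ" => (3 ^ m : ℕ)
local notation "G¹" => twistedG2 K (3 ^ m)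

variable (hK : Nat.card K = 3 ^ (2 * m + 1))

/-! ### A four group in `PSL₂(q)` -/

theorem coe_neg_apply (p : SpecialLinearGroup (Fin 2) K) (i k : Fin 2) : (-p).1 i k = -(p.1 i k) := by
  simp [SpecialLinearGroup.coe_neg]

variable (K) in
theorem exists_ab : ∃ a b : K, a * a + b * b = -1 := by
  haveI := Fintype.ofFinite K
  obtain ⟨a, b, h⟩ := FiniteField.exists_root_sum_quadratic (f := (Polynomial.X ^ 2 : Polynomial K))
    (g := (Polynomial.X ^ 2 + Polynomial.C 1 : Polynomial K))
    (Polynomial.degree_X_pow 2) (Polynomial.degree_X_pow_add_C (by norm_num) 1) (by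
      rw [FiniteField.odd_card_of_char_ne_two]
      rw [ringChar.eq K 3]; norm_num)
  refine ⟨a, b, ?_⟩
  simp at h
  linear_combination h

variable (K) in
/-- A second trace-zero element. -/
noncomputable def jE : SpecialLinearGroup (Fin 2) K :=
  mk2 (exists_ab K).choose (exists_ab K).choose_spec.choose (exists_ab K).choose_spec.choose
    (-(exists_ab K).choose) (by linear_combination -(exists_ab K).choose_spec.choose_spec)

variable (K) in
theorem jE_spec : ∃ a b : K, a * a + b * b = -1 ∧ (jE K : Matrix (Fin 2) (Fin 2) K) = !![a, b; b, -a] :=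
  ⟨_, _, (exists_ab K).choose_spec.choose_spec, rfl⟩

variable (K) in
/-- The four group is cyclically permuted. -/
theorem exists_cE : ∃ c : SpecialLinearGroup (Fin 2) K, c * wE = jE K * c ∧ c * jE K = wE * jE K * c := by
  obtain ⟨a, b, h, e⟩ := jE_spec K
  have h3 := three_eq_zero (K := K)
  refine ⟨mk2 (-(1 + a + b)) (-(1 + b - a)) (-(-1 + b - a)) (-(1 - a - b))
    (by linear_combination (-2 : K) * h + h3), ?_, ?_⟩
  · have e00 : (jE K).1 0 0 = a := by rw [e]; rfl
    have e01 : (jE K).1 0 1 = b := by rw [e]; rfl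
    have e10 : (jE K).1 1 0 = b := by rw [e]; rfl
    have e11 : (jE K).1 1 1 = -a := by rw [e]; rfl
    apply ext2 <;> simp [wE, mul00, mul01, mul10, mul11, e00, e01, e10, e11] <;>
      first | ring1 | linear_combination h | linear_combination -h
  · have e00 : (jE K).1 0 0 = a := by rw [e]; rfl
    have e01 : (jE K).1 0 1 = b := by rw [e]; rfl
    have e10 : (jE K).1 1 0 = b := by rw [e]; rfl
    have e11 : (jE K).1 1 1 = -a := by rw [e]; rfl
    apply ext2 <;> simp [wE, mul00, mul01, mul10, mul11, e00, e01, e10, e11] <;>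
      first | ring1 | linear_combination h | linear_combination -h

theorem wE_jE : (wE * jE K : SpecialLinearGroup (Fin 2) K) = -(jE K * wE) := by
  obtain ⟨a, b, -, e⟩ := jE_spec K
  have e00 : (jE K).1 0 0 = a := by rw [e]; rfl
  have e01 : (jE K).1 0 1 = b := by rw [e]; rfl
  have e10 : (jE K).1 1 0 = b := by rw [e]; rfl
  have e11 : (jE K).1 1 1 = -a := by rw [e]; rfl
  apply ext2 <;> simp only [coe_neg_apply, mul00, mul01, mul10, mul11] <;> simp [wE, e00, e01, e10, e11]

variable (K) in
/-- The first generator of the four group. -/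
def wP : ProjectiveSpecialLinearGroup (Fin 2) K := proj wE

variable (K) in
/-- The second generator of the four group. -/
noncomputable def jP : ProjectiveSpecialLinearGroup (Fin 2) K := proj (jE K)

theorem wP_jP : wP K * jP K = jP K * wP K := by
  rw [wP, jP, ← map_mul, ← map_mul, proj_eq_iff]
  exact Or.inr wE_jE

theorem tr_wE : tr (wE : SpecialLinearGroup (Fin 2) K) = 0 := by simp [tr, wE]

theorem tr_jE : tr (jE K) = 0 := by
  obtain ⟨a, b, -, e⟩ := jE_spec K
  simp [tr, e]

theorem orderOf_wP : orderOf (wP K) = 2 := (orderOf_proj_eq_two_iff two_ne_zero').2 tr_wE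

theorem orderOf_jP : orderOf (jP K) = 2 := (orderOf_proj_eq_two_iff two_ne_zero').2 tr_jE

theorem wP_mul_self : wP K * wP K = 1 := by
  have := pow_orderOf_eq_one (wP K); rwa [orderOf_wP, pow_two] at this

theorem jP_mul_self : jP K * jP K = 1 := by
  have := pow_orderOf_eq_one (jP K); rwa [orderOf_jP, pow_two] at this

theorem wP_ne_one : wP K ≠ 1 := fun h => by simpa [h] using orderOf_wP (K := K)

theorem jP_ne_one : jP K ≠ 1 := fun h => by simpa [h] using orderOf_jP (K := K)

theorem wP_ne_jP : wP K ≠ jP K := by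
  intro h
  obtain ⟨a, b, hab, e⟩ := jE_spec K
  rcases proj_eq_iff.1 h with h' | h' <;>
  · have h1 := congrArg (fun g : SpecialLinearGroup (Fin 2) K => g.1 0 1) h'
    have h2 := congrArg (fun g : SpecialLinearGroup (Fin 2) K => g.1 1 0) h'
    simp [wE, e] at h1 h2
    exact two_ne_zero' (K := K) (by first | linear_combination h1 - h2 | linear_combination h1 + h2)

include hK in
/-- The four group is its own centraliser. -/
theorem four_centralizer {x : ProjectiveSpecialLinearGroup (Fin 2) K} (hw : x * wP K = wP K * x)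
    (hj : x * jP K = jP K * x) : x = 1 ∨ x = wP K ∨ x = jP K ∨ x = wP K * jP K := by
  obtain ⟨g, rfl⟩ := proj_surjective x
  obtain ⟨a, b, hab, e⟩ := jE_spec K
  have e00 : (jE K).1 0 0 = a := by rw [e]; rfl
  have e01 : (jE K).1 0 1 = b := by rw [e]; rfl
  have e10 : (jE K).1 1 0 = b := by rw [e]; rfl
  have e11 : (jE K).1 1 1 = -a := by rw [e]; rfl
  have hdet := det_eq g
  have ent : ∀ {p q : SpecialLinearGroup (Fin 2) K}, p = q → ∀ i k, p.1 i k = q.1 i k := fun h _ _ => by rw [h]
  have hab0 : a ≠ 0 ∨ b ≠ 0 := by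
    by_contra hn; push Not at hn; rw [hn.1, hn.2] at hab; simp at hab
  have ab_zero : ∀ y : K, y * a = 0 → y * b = 0 → y = 0 := fun y h1 h2 => by
    rcases hab0 with h | h
    · exact (mul_eq_zero.1 h1).resolve_right h
    · exact (mul_eq_zero.1 h2).resolve_right h
  have half : ∀ y : K, (2 : K) * y = 0 → y = 0 := fun y h => (mul_eq_zero.1 h).resolve_left two_ne_zero'
  rcases commute_proj_iff.1 hw with h1 | h1 <;> rcases commute_proj_iff.1 hj with h2 | h2
  · -- scalar
    have p00 := ent h1 0 0; have p01 := ent h1 0 1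
    have q00 := ent h2 0 0; have q01 := ent h2 0 1
    simp only [coe_neg_apply, mul00, mul01, mul10, mul11] at p00 p01 q00 q01
    simp [wE, e00, e01, e10, e11] at p00 p01 q00 q01
    have hy : g.1 0 1 = 0 := ab_zero _ (half _ (by linear_combination -q01 + b * p01))
      (half _ (by linear_combination q00 - b * p00))
    refine Or.inl (proj_eq_one_iff.2 (eq_one_or_neg_one_of_scalar g hy ?_ ?_))
    · linear_combination -hy - p00
    · linear_combination p01
  · have p00 := ent h1 0 0; have p01 := ent h1 0 1
    have q00 := ent h2 0 0; have q01 := ent h2 0 1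
    simp only [coe_neg_apply, mul00, mul01, mul10, mul11] at p00 p01 q00 q01
    simp [wE, e00, e01, e10, e11] at p00 p01 q00 q01
    have hx : g.1 0 0 = 0 := ab_zero _ (half _ (by linear_combination q00 + b * p00))
      (half _ (by linear_combination q01 + b * p01))
    have hd : g.1 1 1 = 0 := by linear_combination hx - p01
    have hc : g.1 1 0 = -g.1 0 1 := by linear_combination -p00
    rw [hx, hd, hc] at hdet
    refine Or.inr (Or.inl (proj_eq_iff.2 ?_))
    rcases mul_self_eq_one_iff.1 (show g.1 0 1 * g.1 0 1 = 1 by linear_combination hdet) with h | h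
    · left; apply ext2 <;> simp [wE, hx, hd, hc, h]
    · right; apply ext2 <;> simp only [coe_neg_apply] <;> simp [wE, hx, hd, hc, h]
  · have p00 := ent h1 0 0; have p01 := ent h1 0 1
    have q00 := ent h2 0 0; have q01 := ent h2 0 1
    simp only [coe_neg_apply, mul00, mul01, mul10, mul11] at p00 p01 q00 q01
    simp [wE, e00, e01, e10, e11] at p00 p01 q00 q01
    have hd : g.1 1 1 = -g.1 0 0 := by linear_combination p01
    have hc : g.1 1 0 = g.1 0 1 := by linear_combination -p00
    have hk : g.1 0 0 * b = g.1 0 1 * a := by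
      have := half (g.1 0 0 * b - g.1 0 1 * a) (by linear_combination q01 + b * hd)
      linear_combination this
    rw [hd, hc] at hdet
    obtain ⟨r, hr0, hr1⟩ : ∃ r : K, g.1 0 0 = r * a ∧ g.1 0 1 = r * b := by
      rcases hab0 with ha | hb
      · exact ⟨g.1 0 0 / a, (div_mul_cancel₀ _ ha).symm, by field_simp; linear_combination -hk⟩
      · exact ⟨g.1 0 1 / b, by field_simp; linear_combination hk, (div_mul_cancel₀ _ hb).symm⟩
    rw [hr0, hr1] at hdet
    refine Or.inr (Or.inr (Or.inl (proj_eq_iff.2 ?_)))
    rcases mul_self_eq_one_iff.1 (show r * r = 1 by linear_combination hdet + r * r * hab) with h | h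
    · left; apply ext2 <;> simp [hd, hc, hr0, hr1, h, e00, e01, e10, e11]
    · right; apply ext2 <;> simp only [coe_neg_apply] <;> simp [hd, hc, hr0, hr1, h, e00, e01, e10, e11]
  · have p00 := ent h1 0 0; have p01 := ent h1 0 1
    have q00 := ent h2 0 0; have q01 := ent h2 0 1
    simp only [coe_neg_apply, mul00, mul01, mul10, mul11] at p00 p01 q00 q01
    simp [wE, e00, e01, e10, e11] at p00 p01 q00 q01
    have hd : g.1 1 1 = -g.1 0 0 := by linear_combination p01
    have hc : g.1 1 0 = g.1 0 1 := by linear_combination -p00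
    have hk : g.1 0 0 * a = -(g.1 0 1 * b) := by
      have := half (g.1 0 0 * a + g.1 0 1 * b) (by linear_combination q00 - b * hc)
      linear_combination this
    rw [hd, hc] at hdet
    obtain ⟨r, hr0, hr1⟩ : ∃ r : K, g.1 0 0 = r * b ∧ g.1 0 1 = -(r * a) := by
      rcases hab0 with ha | hb
      · exact ⟨-g.1 0 1 / a, by field_simp; linear_combination hk, by field_simp⟩
      · exact ⟨g.1 0 0 / b, (div_mul_cancel₀ _ hb).symm, by field_simp; linear_combination hk⟩
    rw [hr0, hr1] at hdet
    refine Or.inr (Or.inr (Or.inr ?_))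
    rw [wP, jP, ← map_mul, proj_eq_iff]
    rcases mul_self_eq_one_iff.1 (show r * r = 1 by linear_combination hdet + r * r * hab) with h | h
    · left; apply ext2 <;> simp only [mul00, mul01, mul10, mul11] <;> simp [wE, hd, hc, hr0, hr1, h, e00, e01, e10, e11]
    · right; apply ext2 <;> simp only [coe_neg_apply, mul00, mul01, mul10, mul11] <;> simp [wE, hd, hc, hr0, hr1, h, e00, e01, e10, e11]

end CfsgLib.Chev.Ree
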