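import Cfsg.Agent.Chev.Ree.Twist

/-!
# The small Ree group inside the fixed elements: generators, monomial element, torus
-/

set_option autoImplicit false
set_option maxRecDepth 20000
set_option linter.style.haveILetI false
set_option linter.unusedSectionVars false

namespace CfsgLib.Chev.Ree

open Cfsg.Lie CfsgLib.Chev Matrix

universe u

variable {K : Type u} [Field K] [Finite K] [CharP K 3] (m : ℕ)

local notation "θ" => (3 ^ m : ℕ)

variable (K) in
/-- The monomial element `n_{a+b} n_{3a+b}`. -/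
noncomputable def nJ : GL chevG2.Idx K :=
  SG.xU 8 1 * SG.xU 3 (-1) * SG.xU 8 1 * (SG.xU 10 1 * SG.xU 1 (-1) * SG.xU 10 1)

variable (K) in
/-- The torus element `h_{a+b}(-1)`. -/
noncomputable def hm : GL chevG2.Idx K := SG.hU 8 (-1)

theorem nJ_mem_group : nJ K ∈ chevG2.group K := by
  have h := fun i t => SG.xU_mem_group (F := K) i t
  exact mul_mem (mul_mem (mul_mem (h _ _) (h _ _)) (h _ _)) (mul_mem (mul_mem (h _ _) (h _ _)) (h _ _))

theorem wU_nJPoly (a b : K) : SG.wU (wordVal a b nJPoly) = nJ K := by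
  simp [nJPoly, Sys.wU, wordVal, pev, vc, nJ, mul_assoc]

theorem pair_comm (a b c d e f : K) : Commute (SG.xU 8 a * SG.xU 3 b * SG.xU 8 c)
    (SG.xU 10 d * SG.xU 1 e * SG.xU 10 f) := by
  have h1 : ∀ x : K, Commute (SG.xU 8 x) (SG.xU 10 d * SG.xU 1 e * SG.xU 10 f) := fun x =>
    ((commute_of_pair (by decide) x d).mul_right (commute_of_pair (by decide) x e)).mul_right
      (commute_of_pair (by decide) x f)
  have h2 : Commute (SG.xU 3 b) (SG.xU 10 d * SG.xU 1 e * SG.xU 10 f) :=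
    ((commute_of_pair (by decide) b d).mul_right (commute_of_pair (by decide) b e)).mul_right
      (commute_of_pair (by decide) b f)
  exact ((h1 a).mul_left h2).mul_left (h1 c)

theorem neg_one_pow_theta : (-1 : K) ^ θ = -1 := Odd.neg_one_pow (Odd.pow (by decide))

theorem neg_one_pow_theta3 : (-1 : K) ^ (3 * θ) = -1 :=
  Odd.neg_one_pow (Odd.mul (by decide) (Odd.pow (by decide)))

theorem nJ_fixed : nJ K ∈ (twist K m).fixed := by
  refine ⟨nJ_mem_group, ?_⟩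
  have h := fun i t => SG.xU_mem_group (F := K) i t
  rw [nJ, (twist K m).ap_mul (mul_mem (mul_mem (h _ _) (h _ _)) (h _ _))
      (mul_mem (mul_mem (h _ _) (h _ _)) (h _ _)), (twist K m).ap_mul (mul_mem (h _ _) (h _ _)) (h _ _),
    (twist K m).ap_mul (mul_mem (h _ _) (h _ _)) (h _ _), (twist K m).ap_mul (h _ _) (h _ _),
    (twist K m).ap_mul (h _ _) (h _ _), ap8, ap3, ap10, ap1, one_pow, one_pow, neg_one_pow_theta,
    neg_one_pow_theta3]
  exact (pair_comm 1 (-1) 1 1 (-1) 1).eq.symm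

theorem nJ_conj {r : ℕ} (hr : r < 12) (c : K) :
    nJ K * SG.xU r c * (nJ K)⁻¹ = SG.xU (11 - r) (-c) := by
  have h := List.all_eq_true.1 nJ_check r (List.mem_range.2 hr)
  have e := wU_eq_of_sameWordMod (F := K) (p := 3) DataG2.valid c 0 h
  rw [mul_inv_eq_iff_eq_mul]
  simpa [wordVal, pev, va, vc, Sys.wU, nJPoly, nJ, mul_assoc] using e

theorem negG2 {r : ℕ} (hr : r < 12) : chevG2.negIdx.getD r 0 = 11 - r :=
  Tbl.negd DataG2.valid.linked (r := r) hr

theorem neg8 : chevG2.neg 8 = 3 := negG2 (r := 8) (by omega)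

theorem neg10 : chevG2.neg 10 = 1 := negG2 (r := 10) (by omega)

theorem coe_nJ_conj_wU (L : List (ℕ × K)) (hL : ∀ x ∈ L, x.1 < 12) :
    nJ K * SG.wU L * (nJ K)⁻¹ = SG.wU (chevG2.negWord L) := by
  induction L with
  | nil => simp [Sys.wU, ChevalleyDatum.negWord]
  | cons x L ih =>
    obtain ⟨r, c⟩ := x
    have hr : r < 12 := hL _ (List.mem_cons_self ..)
    rw [SG.wU_cons, show nJ K * (SG.xU r c * SG.wU L) * (nJ K)⁻¹ =
      (nJ K * SG.xU r c * (nJ K)⁻¹) * (nJ K * SG.wU L * (nJ K)⁻¹) by group,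
      ih fun y hy => hL y (List.mem_cons_of_mem _ hy), nJ_conj hr]
    show _ = SG.wU ((chevG2.negIdx.getD r 0, -c) :: chevG2.negWord L)
    rw [negG2 hr, SG.wU_cons]

/-- The negative fixed words are the conjugates of the positive ones. -/
theorem coe_conj_WR (t u v : K) :
    ((nJ K * WR m t u v * (nJ K)⁻¹ : GL chevG2.Idx K) : Matrix chevG2.Idx chevG2.Idx K) =
      chevG2.wordMat K (reeWordV θ t u v) := by
  have h : WR m t u v = SG.wU (reeWordU θ t u v) := Units.ext (by rw [coe_WR, Sys.coe_wU])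
  have hb : ∀ x ∈ reeWordU θ t u v, x.1 < 12 := by
    simp [reeWordU, g2a, g2b, g2ab, g2aab, g2aaab, g2aaabb]
  rw [h, coe_nJ_conj_wU _ hb, Sys.coe_wU, reeWordV]

local notation "G¹" => twistedG2 K (3 ^ m : ℕ)

theorem WR_mem (t u v : K) : WR m t u v ∈ twistedG2 K θ :=
  Subgroup.subset_closure ⟨_, ⟨t, u, v, Or.inl rfl⟩, coe_WR m t u v⟩

theorem conj_WR_mem (t u v : K) : nJ K * WR m t u v * (nJ K)⁻¹ ∈ twistedG2 K θ :=
  Subgroup.subset_closure ⟨_, ⟨t, u, v, Or.inr rfl⟩, coe_conj_WR m t u v⟩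

theorem theta_ne_zero : θ ≠ 0 := pow_ne_zero _ (by norm_num)

theorem WR_pair (u : K) : WR m 0 u 0 = SG.xU 8 (u ^ θ) * SG.xU 10 u := by
  simp [WR, W, X, zero_pow (theta_ne_zero m), Sys.xU_zero]

theorem conj_WR_pair (u : K) :
    nJ K * WR m 0 u 0 * (nJ K)⁻¹ = SG.xU 3 (-(u ^ θ)) * SG.xU 1 (-u) := by
  rw [WR_pair, show nJ K * (SG.xU 8 (u ^ θ) * SG.xU 10 u) * (nJ K)⁻¹ =
    (nJ K * SG.xU 8 (u ^ θ) * (nJ K)⁻¹) * (nJ K * SG.xU 10 u * (nJ K)⁻¹) by group,
    nJ_conj (by omega), nJ_conj (by omega)]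

/-- The monomial element of the pair of roots `a+b`, `3a+b` with parameter `u`. -/
theorem pair_n (u : Kˣ) : SG.nU 8 ((u : K) ^ θ) * SG.nU 10 (u : K) =
    WR m 0 (u : K) 0 * (nJ K * WR m 0 ((u⁻¹ : Kˣ) : K) 0 * (nJ K)⁻¹) * WR m 0 (u : K) 0 := by
  rw [conj_WR_pair, WR_pair, SG.nU_eq, SG.nU_eq, neg8, neg10, Units.val_inv_eq_inv_val, inv_pow]
  set a := SG.xU (F := K) 8 ((u : K) ^ θ)
  set b := SG.xU (F := K) 10 (u : K)
  set c := SG.xU (F := K) 3 (-((u : K) ^ θ)⁻¹)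
  set d := SG.xU (F := K) 1 (-(u : K)⁻¹)
  have hac : Commute a b := commute_of_pair (by decide) _ _
  have hcb : Commute c b := commute_of_pair (by decide) _ _
  have had : Commute a d := commute_of_pair (by decide) _ _
  calc a * c * a * (b * d * b) = a * c * ((a * b) * d) * b := by group
    _ = a * c * ((b * a) * d) * b := by rw [hac.eq]
    _ = a * (c * b) * (a * d) * b := by group
    _ = a * (b * c) * (d * a) * b := by rw [hcb.eq, had.eq]
    _ = a * b * (c * d) * (a * b) := by group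

theorem pair_n_mem (u : Kˣ) : SG.nU 8 ((u : K) ^ θ) * SG.nU 10 (u : K) ∈ twistedG2 K θ := by
  rw [pair_n]; exact mul_mem (mul_mem (WR_mem m _ _ _) (conj_WR_mem m _ _ _)) (WR_mem m _ _ _)

theorem nJ_eq_pair : nJ K = SG.nU 8 (((1 : Kˣ) : K) ^ θ) * SG.nU 10 ((1 : Kˣ) : K) := by
  rw [SG.nU_eq, SG.nU_eq, neg8, neg10]
  simp [nJ]

theorem nJ_mem : nJ K ∈ twistedG2 K θ := nJ_eq_pair (K := K) m ▸ pair_n_mem m 1

theorem rank_rule : WR m (0 : K) 1 1 * hm K * nJ K * WR m 1 1 2 = nJ K * WR m 0 1 1 * (nJ K)⁻¹ := by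
  have e := wU_eq_of_sameWordMod (F := K) (p := 3) DataG2.valid 0 0 rank_check
  have h3 : (3 : K) = 0 := by exact_mod_cast CharP.cast_eq_zero K 3
  have h2 : (2 : K) ^ θ = 2 := by
    rw [show (2 : K) = -1 by linear_combination h3, neg_one_pow_theta]
  have hR : nJ K * WR m (0 : K) 1 1 * (nJ K)⁻¹ =
      SG.wU [(4, (0 : K)), (5, 0), (3, -1), (2, -1), (1, -1), (0, -1)] := by
    have h : WR m (0 : K) 1 1 = SG.wU [(7, (0 : K)), (6, 0), (8, 1), (9, 1), (10, 1), (11, 1)] := by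
      simp [WR, W, X, Sys.wU, zero_pow (theta_ne_zero m), mul_assoc]
    rw [h, coe_nJ_conj_wU _ (by simp)]
    show SG.wU ([(chevG2.negIdx.getD 7 0, -(0 : K)), (chevG2.negIdx.getD 6 0, -0), (chevG2.negIdx.getD 8 0, -1),
      (chevG2.negIdx.getD 9 0, -1), (chevG2.negIdx.getD 10 0, -1), (chevG2.negIdx.getD 11 0, -1)]) = _
    rw [negG2 (by omega), negG2 (by omega), negG2 (by omega), negG2 (by omega), negG2 (by omega), negG2 (by omega)]
    simp
  rw [hR]
  have h0 : (1 : K) + 2 ^ θ = 3 := by rw [h2]; norm_num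
  simp [wordVal, pev, vc, Sys.wU, hmPoly, nJPoly, mul_assoc] at e
  simp [WR, W, X, Sys.wU, hm, Sys.hU, ChevalleyDatum.hWord, ChevalleyDatum.nWord, nJ, zero_pow (theta_ne_zero m),
    neg8, h0, mul_assoc, one_add_one_eq_two]
  exact e

theorem hm_mem : hm K ∈ twistedG2 K θ := by
  have h : hm K = (WR m (0 : K) 1 1)⁻¹ * (nJ K * WR m 0 1 1 * (nJ K)⁻¹) * (WR m 1 1 2)⁻¹ * (nJ K)⁻¹ := by
    rw [← rank_rule]; group
  rw [h]
  exact mul_mem (mul_mem (mul_mem (inv_mem (WR_mem m _ _ _)) (conj_WR_mem m _ _ _))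
    (inv_mem (WR_mem m _ _ _))) (inv_mem (nJ_mem m))

variable (hK : Nat.card K = 3 ^ (2 * m + 1))

include hK in
theorem twisted_le_fixed : twistedG2 K θ ≤ (twist K m).fixed := by
  rw [twistedG2, ChevalleyDatum.genSubgroup, Subgroup.closure_le]
  rintro g ⟨w, ⟨t, u, v, rfl | rfl⟩, hg⟩
  · rw [show g = WR m t u v from Units.ext (hg.trans (coe_WR m t u v).symm)]
    exact WR_fixed m hK t u v
  · rw [show g = nJ K * WR m t u v * (nJ K)⁻¹ from Units.ext (hg.trans (coe_conj_WR m t u v).symm)]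
    exact mul_mem (mul_mem (nJ_fixed m) (WR_fixed m hK t u v)) (inv_mem (nJ_fixed m))

/-- The first coordinate of a torus element. -/
theorem dg_conj_W (z : ℕ → Kˣ) (p q r s u v : K) :
    SG.dg z * W p q r s u v * (SG.dg z)⁻¹ =
      W ((SG.chi z 7 : K) * p) ((SG.chi z 6 : K) * q) ((SG.chi z 8 : K) * r) ((SG.chi z 9 : K) * s)
        ((SG.chi z 10 : K) * u) ((SG.chi z 11 : K) * v) := by
  have h : ∀ (i : ℕ) (t : K), i < 12 →
      SG.dg z * SG.xU i t * (SG.dg z)⁻¹ = SG.xU i ((SG.chi z i : K) * t) :=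
    fun i t hi => SG.dg_conj_xU z (r := i) hi t
  simp only [W, X]
  rw [show SG.dg z * (SG.xU 7 p * SG.xU 6 q * (SG.xU 8 r * SG.xU 9 s * SG.xU 10 u * SG.xU 11 v)) * (SG.dg z)⁻¹ =
    (SG.dg z * SG.xU 7 p * (SG.dg z)⁻¹) * (SG.dg z * SG.xU 6 q * (SG.dg z)⁻¹) *
    ((SG.dg z * SG.xU 8 r * (SG.dg z)⁻¹) * (SG.dg z * SG.xU 9 s * (SG.dg z)⁻¹) *
      (SG.dg z * SG.xU 10 u * (SG.dg z)⁻¹) * (SG.dg z * SG.xU 11 v * (SG.dg z)⁻¹)) by group,
    h 7 p (by omega), h 6 q (by omega), h 8 r (by omega), h 9 s (by omega), h 10 u (by omega),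
    h 11 v (by omega)]

theorem chi7 (z : ℕ → Kˣ) : SG.chi z 7 = z 0 := SG.chi_simple z (i := 0) (by decide)

theorem chi6 (z : ℕ → Kˣ) : SG.chi z 6 = z 1 := SG.chi_simple z (i := 1) (by decide)

variable (K) in
/-- The torus of the group. -/
noncomputable def H1 : Subgroup (GL chevG2.Idx K) := chevG2.diagonalSubgroup K ⊓ (twist K m).fixed

include hK in
/-- A fixed torus element is determined by its first coordinate. -/
theorem coord_eq {z : ℕ → Kˣ} (h : SG.dg z ∈ H1 K m) : (z 1 : K) = (z 0 : K) ^ (3 * θ) := by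
  obtain ⟨hd, hG, hfix⟩ := h
  have e := congrArg (twist K m).ap (SG.dg_conj_xU z (r := 7) (by decide) (1 : K))
  rw [(twist K m).ap_conj hG (SG.xU_mem_group _ _), hfix, ap7, ap7, one_pow, mul_one, chi7,
    SG.dg_conj_xU z (r := 6) (by decide), mul_one, chi6] at e
  exact SG.coef_eq (r := 6) (by decide) e

theorem cr_values : cr chevG2 8 0 = -1 ∧ cr chevG2 10 0 = 1 := by
  refine ⟨?_, ?_⟩ <;> decide +kernel

theorem hm_mem_diag : hm K ∈ chevG2.diagonalSubgroup K :=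
  SG.hU_mem_diag (r := 8) (by decide) (neg_ne_zero.2 one_ne_zero)

theorem hm_coord : ∃ z : ℕ → Kˣ, hm K = SG.dg z ∧ (z 0 : K) = -1 := by
  refine ⟨hz chevG2 8 (-1 : Kˣ), ?_, ?_⟩
  · rw [hm, ← SG.hU_eq_dg (r := 8) (by decide)]; simp
  · simp [hz, cr_values.1]

theorem pair_h_mem (u : Kˣ) :
    SG.hU 8 ((u : K) ^ θ) * SG.hU 10 (u : K) ∈ twistedG2 K θ := by
  have h1 := pair_n_mem m u
  have h2 := pair_n_mem m (-1 : Kˣ)
  rw [Units.val_neg, Units.val_one, neg_one_pow_theta] at h2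
  have e : SG.hU 8 ((u : K) ^ θ) * SG.hU 10 (u : K) =
      (SG.nU 8 ((u : K) ^ θ) * SG.nU 10 (u : K)) * (SG.nU 8 (-1) * SG.nU 10 (-1)) := by
    have hc : Commute (SG.nU (F := K) 8 (-1)) (SG.nU 10 (u : K)) := by
      rw [SG.nU_eq, SG.nU_eq, neg8, neg10]
      exact pair_comm _ _ _ _ _ _
    rw [SG.hU_eq, SG.hU_eq]
    calc SG.nU 8 ((u : K) ^ θ) * SG.nU 8 (-1) * (SG.nU 10 (u : K) * SG.nU 10 (-1))
        = SG.nU 8 ((u : K) ^ θ) * (SG.nU 8 (-1) * SG.nU 10 (u : K)) * SG.nU 10 (-1) := by group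
      _ = _ := by rw [hc.eq]; group
  rw [e]; exact mul_mem h1 h2

include hK in
theorem sq_or_neg_sq (c : Kˣ) : ∃ y : Kˣ, c = y * y ∨ c = -(y * y) := by
  haveI := Fintype.ofFinite K
  have h3 : ringChar K ≠ 2 := by rw [ringChar.eq K 3]; norm_num
  by_cases hc : IsSquare (c : K)
  · obtain ⟨y, hy⟩ := hc
    have hy0 : y ≠ 0 := fun h => c.ne_zero (by rw [hy, h, mul_zero])
    exact ⟨Units.mk0 y hy0, Or.inl (Units.ext hy)⟩
  · have hn : ¬ IsSquare (-1 : K) := by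
      rw [FiniteField.isSquare_neg_one_iff, not_not, ← Nat.card_eq_fintype_card, hK, pow_succ, pow_mul]
      norm_num [Nat.mul_mod, Nat.pow_mod]
    have hc' := FiniteField.isSquare_iff h3 c.ne_zero
    have hn' := FiniteField.isSquare_iff h3 (neg_ne_zero.2 (one_ne_zero (α := K)))
    have hcd := FiniteField.pow_dichotomy h3 c.ne_zero
    have hnd := FiniteField.pow_dichotomy h3 (neg_ne_zero.2 (one_ne_zero (α := K)))
    have hsq : IsSquare (-(c : K)) := by
      rw [FiniteField.isSquare_iff h3 (neg_ne_zero.2 c.ne_zero), neg_pow,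
        hcd.resolve_left (fun h => hc (hc'.2 h)), hnd.resolve_left (fun h => hn (hn'.2 h))]
      ring
    obtain ⟨y, hy⟩ := hsq
    have hy0 : y ≠ 0 := fun h => c.ne_zero (neg_eq_zero.1 (by rw [hy, h, mul_zero]))
    refine ⟨Units.mk0 y hy0, Or.inr (Units.ext ?_)⟩
    show (c : K) = -(y * y)
    rw [← hy, neg_neg]

include hK in
/-- Every value occurs as the first coordinate of a torus element of the group. -/
theorem exists_coord (c : Kˣ) :
    ∃ z : ℕ → Kˣ, z 0 = c ∧ SG.dg z ∈ H1 K m ∧ SG.dg z ∈ twistedG2 K θ := by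
  have hfix := twisted_le_fixed m hK
  obtain ⟨z₁, hz₁, hz₁0⟩ := hm_coord (K := K)
  have key : ∀ y : Kˣ, ∃ z : ℕ → Kˣ, z 0 = y * y ∧ SG.dg z ∈ H1 K m ∧ SG.dg z ∈ twistedG2 K θ := by
    intro y
    set u := y ^ (3 * θ + 3) with hu
    have e : SG.hU 8 ((u : K) ^ θ) * SG.hU 10 (u : K) = SG.dg (hz chevG2 8 (u ^ θ) * hz chevG2 10 u) := by
      rw [Sys.dg_mul, ← SG.hU_eq_dg (r := 8) (by decide), ← SG.hU_eq_dg (r := 10) (by decide)]
      simp only [Units.val_pow_eq_pow_val, hu]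
    refine ⟨hz chevG2 8 (u ^ θ) * hz chevG2 10 u, ?_, ?_, e ▸ pair_h_mem m u⟩
    · have hy : (y ^ θ) ^ (3 * θ) = y := Units.ext (by simpa using pow_theta m hK (y : K))
      have h2 : u ^ θ * (y * y) = u := by
        have h3 : (y ^ θ) ^ 3 = y ^ (3 * θ) := by rw [← pow_mul, mul_comm]
        rw [hu, ← pow_mul, show (3 * θ + 3) * θ = θ * (3 * θ) + θ * 3 by ring, pow_add, pow_mul, hy,
          pow_mul, h3, pow_add, pow_succ y 2, pow_two]
        group
      show hz chevG2 8 (u ^ θ) 0 * hz chevG2 10 u 0 = y * y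
      simp only [hz, cr_values.1, cr_values.2, _root_.zpow_neg, _root_.zpow_one]
      rw [inv_mul_eq_iff_eq_mul, h2]
    · refine Subgroup.mem_inf.2 ⟨?_, hfix (e ▸ pair_h_mem m u)⟩
      rw [← e]
      exact mul_mem (SG.hU_mem_diag (r := 8) (by decide) (pow_ne_zero _ u.ne_zero))
        (SG.hU_mem_diag (r := 10) (by decide) u.ne_zero)
  obtain ⟨y, rfl | rfl⟩ := sq_or_neg_sq m hK c
  · exact key y
  · obtain ⟨z, hz0, hzH, hzG⟩ := key y
    refine ⟨z₁ * z, ?_, ?_, ?_⟩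
    · refine Units.ext ?_
      rw [Pi.mul_apply, Units.val_mul, hz₁0, hz0, neg_one_mul, Units.val_neg]
    · rw [Sys.dg_mul, ← hz₁]
      exact mul_mem (Subgroup.mem_inf.2 ⟨hm_mem_diag, hfix (hm_mem m)⟩) hzH
    · rw [Sys.dg_mul, ← hz₁]; exact mul_mem (hm_mem m) hzG

include hK in
theorem dg_eq_of_coord {z z' : ℕ → Kˣ} (h : SG.dg z ∈ H1 K m) (h' : SG.dg z' ∈ H1 K m)
    (e : z 0 = z' 0) : SG.dg z = SG.dg z' := by
  refine SG.dg_congr fun i hi => ?_
  have hi2 : i < 2 := hi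
  interval_cases i
  · exact e
  · exact Units.ext (by rw [coord_eq m hK h, coord_eq m hK h', e])

include hK in
theorem H1_le : H1 K m ≤ twistedG2 K θ := by
  intro g hg
  obtain ⟨z, rfl⟩ := SG.exists_dg (Subgroup.mem_inf.1 hg).1
  obtain ⟨z', h0, hH, hG⟩ := exists_coord m hK (z 0)
  rwa [dg_eq_of_coord m hK hg hH h0.symm]

variable (K) in
/-- The torus element with the given first coordinate. -/
noncomputable def torus (hK : Nat.card K = 3 ^ (2 * m + 1)) : Kˣ ≃* H1 K m :=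
  (MulEquiv.ofBijective (MonoidHom.mk'
    (fun c : Kˣ => (⟨SG.dg (exists_coord m hK c).choose, (exists_coord m hK c).choose_spec.2.1⟩ : H1 K m))
    (fun a b => Subtype.ext (by
      rw [Subgroup.coe_mul, ← Sys.dg_mul]
      refine dg_eq_of_coord m hK (exists_coord m hK _).choose_spec.2.1 ?_ ?_
      · rw [Sys.dg_mul]
        exact mul_mem (exists_coord m hK a).choose_spec.2.1 (exists_coord m hK b).choose_spec.2.1
      · rw [Pi.mul_apply, (exists_coord m hK a).choose_spec.1, (exists_coord m hK b).choose_spec.1,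
          (exists_coord m hK (a * b)).choose_spec.1]))) ⟨fun a b e => by
    have e' : SG.dg (exists_coord m hK a).choose = SG.dg (exists_coord m hK b).choose :=
      congrArg Subtype.val e
    have := SG.dg_inj e' (i := 0) (by decide)
    rwa [(exists_coord m hK a).choose_spec.1, (exists_coord m hK b).choose_spec.1] at this,
  fun g => by
    obtain ⟨z, hz⟩ := SG.exists_dg (Subgroup.mem_inf.1 g.2).1
    refine ⟨z 0, Subtype.ext ?_⟩
    rw [hz]
    exact dg_eq_of_coord m hK (exists_coord m hK (z 0)).choose_spec.2.1 (hz ▸ g.2)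
      (exists_coord m hK (z 0)).choose_spec.1⟩)

theorem exists_torus (g : H1 K m) : ∃ z : ℕ → Kˣ, (g : GL chevG2.Idx K) = SG.dg z :=
  SG.exists_dg (Subgroup.mem_inf.1 g.2).1

end CfsgLib.Chev.Ree
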