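import Cfsg.Agent.Chev.Ree.GroupLemmas

/-! Further facts about finite groups used for the small Ree groups. -/

set_option autoImplicit false

namespace CfsgLib.Chev.Ree.GL0

variable {G : Type*} [Group G]

/-- A `p`-element is conjugate into a subgroup containing a Sylow `p`-subgroup. -/
theorem conj_into [Finite G] (A : Subgroup G) {p r n : ℕ} [Fact p.Prime]
    (hcard : Nat.card G = Nat.card ↥A * r) (hr : ¬ p ∣ r) {x : G} (hx : x ^ p ^ n = 1) :
    ∃ g : G, g * x * g⁻¹ ∈ A := by
  obtain ⟨Q⟩ := (inferInstance : Nonempty (Sylow p ↥A))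
  have hr0 : r ≠ 0 := fun h => hr (by rw [h]; exact dvd_zero p)
  let P : Sylow p G := Sylow.ofCard ((Q : Subgroup ↥A).map A.subtype) (by
    rw [Nat.card_congr (Subgroup.equivMapOfInjective _ _ Subtype.val_injective).symm.toEquiv,
      Sylow.card_eq_multiplicity, hcard, Nat.factorization_mul (Nat.card_pos).ne' hr0]
    simp [Nat.factorization_eq_zero_of_not_dvd hr])
  have hz : IsPGroup p ↥(Subgroup.zpowers x) := by
    rintro ⟨y, i, rfl⟩
    refine ⟨n, Subtype.ext ?_⟩
    show (x ^ i) ^ p ^ n = 1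
    rw [← zpow_natCast, ← zpow_mul, mul_comm, zpow_mul, zpow_natCast, hx, one_zpow]
  obtain ⟨S, hS⟩ := hz.exists_le_sylow
  obtain ⟨g, hg⟩ := MulAction.exists_smul_eq G S P
  refine ⟨g, ?_⟩
  have h : g * x * g⁻¹ ∈ (P : Subgroup G) := by
    rw [← hg, Sylow.coe_subgroup_smul, Subgroup.mem_pointwise_smul_iff_inv_smul_mem, ← map_inv,
      MulAut.smul_def, MulAut.conj_apply, inv_inv, show g⁻¹ * (g * x * g⁻¹) * g = x by group]
    exact hS (Subgroup.mem_zpowers x)
  obtain ⟨y, -, hy⟩ := Subgroup.mem_map.1 (show g * x * g⁻¹ ∈ (Q : Subgroup ↥A).map A.subtype from h)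
  exact hy ▸ y.2

/-- A subgroup of a finite cyclic subgroup is determined by its order. -/
theorem eq_of_card_eq [Finite G] {A H J : Subgroup G} [hA : IsCyclic ↥A] (hH : H ≤ A) (hJ : J ≤ A)
    (h : Nat.card ↥H = Nat.card ↥J) : H = J := by
  classical
  haveI := Fintype.ofFinite G
  have key : ∀ L : Subgroup G, L ≤ A → Nat.card ↥L = Nat.card ↥H → ∀ a : ↥A,
      ((a : G) ∈ L ↔ a ^ Nat.card ↥H = 1) := by
    intro L hL hc
    have hsub : ∀ a : ↥A, (a : G) ∈ L → a ^ Nat.card ↥H = 1 := fun a ha => by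
      have := pow_card_eq_one' (x := (⟨(a : G), ha⟩ : ↥L))
      rw [hc] at this
      exact Subtype.ext (by simpa using congrArg Subtype.val this)
    have e : (Finset.univ.filter fun a : ↥A => (a : G) ∈ L) =
        Finset.univ.filter fun a : ↥A => a ^ Nat.card ↥H = 1 := by
      refine Finset.eq_of_subset_of_card_le (fun a ha => ?_) ?_
      · simp only [Finset.mem_filter, Finset.mem_univ, true_and] at ha ⊢
        exact hsub a ha
      · refine le_trans (IsCyclic.card_pow_eq_one_le Nat.card_pos) (le_of_eq ?_)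
        rw [← hc, ← Nat.card_congr (Subgroup.subgroupOfEquivOfLe hL).toEquiv, Nat.card_eq_fintype_card,
          Fintype.card_subtype]
        simp [Subgroup.mem_subgroupOf]
    intro a
    refine ⟨hsub a, fun ha => ?_⟩
    have : a ∈ (Finset.univ.filter fun a : ↥A => (a : G) ∈ L) := by
      rw [e]; exact Finset.mem_filter.2 ⟨Finset.mem_univ _, ha⟩
    exact (Finset.mem_filter.1 this).2
  ext x
  constructor
  · intro hx
    exact (key J hJ h.symm ⟨x, hH hx⟩).2 ((key H hH rfl ⟨x, hH hx⟩).1 hx)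
  · intro hx
    exact (key H hH rfl ⟨x, hJ hx⟩).2 ((key J hJ h.symm ⟨x, hJ hx⟩).1 hx)

theorem normalizer_le_of_cyclic [Finite G] {A A₀ : Subgroup G} [IsCyclic ↥A] (h : A₀ ≤ A) :
    Subgroup.normalizer (A : Set G) ≤ Subgroup.normalizer (A₀ : Set G) := by
  intro g hg
  refine mem_normalizer_of_conj_le fun x hx => ?_
  have e : A₀.map (MulAut.conj g).toMonoidHom = A₀ := by
    refine eq_of_card_eq (A := A) ?_ h
      (Nat.card_congr (Subgroup.equivMapOfInjective A₀ _ (MulEquiv.injective (MulAut.conj g))).toEquiv).symm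
    rintro _ ⟨y, hy, rfl⟩
    exact (Subgroup.mem_normalizer_iff.1 hg y).1 (h hy)
  rw [← e]
  exact ⟨x, hx, rfl⟩

/-- A subgroup generated by two pointwise commuting subgroups. -/
theorem mem_sup_of_comm {V A : Subgroup G} (h : ∀ v ∈ V, ∀ a ∈ A, v * a = a * v) {x : G} (hx : x ∈ V ⊔ A) :
    ∃ v ∈ V, ∃ a ∈ A, x = v * a := by
  let S : Subgroup G :=
    { carrier := {x | ∃ v ∈ V, ∃ a ∈ A, x = v * a}
      mul_mem' := by
        rintro x y ⟨v, hv, a, ha, rfl⟩ ⟨v', hv', a', ha', rfl⟩
        refine ⟨v * v', mul_mem hv hv', a * a', mul_mem ha ha', ?_⟩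
        rw [mul_assoc, ← mul_assoc a, ← h v' hv' a ha]; group
      one_mem' := ⟨1, one_mem _, 1, one_mem _, (mul_one 1).symm⟩
      inv_mem' := by
        rintro x ⟨v, hv, a, ha, rfl⟩
        exact ⟨v⁻¹, inv_mem hv, a⁻¹, inv_mem ha, by
          rw [_root_.mul_inv_rev, h v⁻¹ (inv_mem hv) a⁻¹ (inv_mem ha)]⟩ }
  exact (sup_le (fun v hv => ⟨v, hv, 1, one_mem _, (mul_one v).symm⟩)
    (fun a ha => ⟨1, one_mem _, a, ha, (one_mul a).symm⟩) : V ⊔ A ≤ S) hx

theorem mem_of_pow_mem [Finite G] {H : Subgroup G} {g : G} {k : ℕ} (hk : Nat.Coprime (orderOf g) k)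
    (h : g ^ k ∈ H) : g ∈ H := by
  obtain ⟨j, hj⟩ := exists_pow_eq_self_of_coprime hk.symm
  rw [← hj]
  exact pow_mem h j

theorem exists_sqrt {M : Subgroup G} (hodd : Odd (Nat.card ↥M)) {d : G} (hd : d ∈ M) :
    ∃ k : ℕ, (d ^ k) ^ 2 = d := by
  obtain ⟨l, hl⟩ := hodd
  refine ⟨l + 1, ?_⟩
  have hM : d ^ Nat.card ↥M = 1 := congrArg Subtype.val (pow_card_eq_one' (x := (⟨d, hd⟩ : ↥M)))
  rw [← pow_mul, show (l + 1) * 2 = Nat.card ↥M + 1 by omega, pow_succ, hM, one_mul]

theorem eq_one_of_sq {M : Subgroup G} (hodd : Odd (Nat.card ↥M)) {d : G} (hd : d ∈ M) (h : d * d = 1) :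
    d = 1 := by
  obtain ⟨k, hk⟩ := exists_sqrt hodd hd
  rw [← hk, ← pow_mul, mul_comm, pow_mul, pow_two, h, one_pow]

/-- An element of `M` splits as a fixed one times an inverted one. -/
theorem exists_split {M : Subgroup G} (hodd : Odd (Nat.card ↥M)) {i : G} (hi : i * i = 1)
    (hM : ∀ g ∈ M, i * g * i ∈ M) {b : G} (hb : b ∈ M) :
    ∃ a ∈ M, ∃ c ∈ M, b = a * c ∧ i * a * i = a ∧ i * c * i = c⁻¹ := by
  have hii : i⁻¹ = i := inv_eq_of_mul_eq_one_right hi
  set d := (i * b * i)⁻¹ * b with hd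
  have hdM : d ∈ M := mul_mem (inv_mem (hM b hb)) hb
  have hid : i * d * i = d⁻¹ := by
    calc i * d * i = b⁻¹ * (i⁻¹ * b * i) * (i * i)⁻¹ * (i * i) := by rw [hd, hii]; group; simp [hii]
      _ = d⁻¹ := by rw [hi, hii, hd]; group
  obtain ⟨k, hk⟩ := exists_sqrt hodd hdM
  set c := d ^ k with hc
  have hic : i * c * i = c⁻¹ := by
    have := conj_pow (a := i) (b := d) (i := k)
    rw [hii, hid] at this
    rw [hc, ← inv_pow, ← this]
  refine ⟨b * c⁻¹, mul_mem hb (inv_mem (pow_mem hdM k)), c, pow_mem hdM k, by group, ?_, hic⟩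
  have e : i * b * i = b * d⁻¹ := by rw [hd]; group
  have hic' : i * c⁻¹ * i = c := by
    have := congrArg (·⁻¹) hic
    simpa [_root_.mul_inv_rev, hii, mul_assoc] using this
  calc i * (b * c⁻¹) * i = i * b * (i * i) * c⁻¹ * i := by rw [hi]; group
    _ = (i * b * i) * (i * c⁻¹ * i) := by group
    _ = b * d⁻¹ * c := by rw [e, hic']
    _ = b * c⁻¹ := by rw [← hk]; group

/-- Three commuting involutions with the same fixed points in a group of odd order centralise it. -/
theorem fixed_of_three {M : Subgroup G} (hodd : Odd (Nat.card ↥M)) {i j : G} (hi : i * i = 1) (hj : j * j = 1)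
    (hij : i * j = j * i) (hiM : ∀ g ∈ M, i * g * i ∈ M) (hjM : ∀ g ∈ M, j * g * j ∈ M)
    (h1 : ∀ g ∈ M, j * g * j = g → i * g * i = g) (h2 : ∀ g ∈ M, (i * j) * g * (i * j) = g → i * g * i = g)
    {g : G} (hg : g ∈ M) : i * g * i = g := by
  have key : ∀ b ∈ M, i * b * i = b⁻¹ → b = 1 := by
    intro b hb hib
    obtain ⟨a, ha, c, hc, hbac, hja, hjc⟩ := exists_split hodd hj hjM hb
    have hia := h1 a ha hja
    have hic : i * c * i = a⁻¹ * c⁻¹ * a⁻¹ := by
      have : (i * a * i) * (i * c * i) = b⁻¹ := by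
        rw [← hib, hbac, show i * a * i * (i * c * i) = i * a * (i * i) * c * i by group, hi]; group
      rw [hia, hbac, _root_.mul_inv_rev] at this
      rw [eq_inv_mul_of_mul_eq this]; group
    have hjb : j * b * j = a * c⁻¹ := by
      rw [hbac, show j * (a * c) * j = (j * a) * (1 * c) * j by group, ← hj,
        show j * a * (j * j * c) * j = (j * a * j) * (j * c * j) by group, hja, hjc]
    have hijb : i * (j * b * j) * i = (j * b * j)⁻¹ := by
      rw [show i * (j * b * j) * i = (i * j) * b * (j * i) by group, hij, ← hij,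
        show i * j * b * (i * j) = i * j * b * (i * j) from rfl]
      rw [show i * j * b * (i * j) = (j * i) * b * (i * j) by rw [hij],
        show j * i * b * (i * j) = j * (i * b * i) * j by group, hib, _root_.mul_inv_rev,
        _root_.mul_inv_rev, inv_eq_of_mul_eq_one_right hj]
      group
    rw [hjb, show i * (a * c⁻¹) * i = (i * a) * (1 * c⁻¹) * i by group, ← hi,
      show i * a * (i * i * c⁻¹) * i = (i * a * i) * (i * c⁻¹ * i) by group, hia,
      show i * c⁻¹ * i = (i⁻¹ * c * i⁻¹)⁻¹ by group, inv_eq_of_mul_eq_one_right hi, hic] at hijb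
    simp only [_root_.mul_inv_rev, inv_inv] at hijb
    -- `a * (a * (c * a)) = c * a⁻¹`
    have hca : c * (a * a) = (a * a)⁻¹ * c := by
      calc c * (a * a) = (a * a)⁻¹ * (a * (a * (c * a))) * a := by group
        _ = (a * a)⁻¹ * c := by rw [hijb]; group
    obtain ⟨k, hk⟩ := exists_sqrt hodd (mul_mem hc hc)
    have hcc : (c * c) * (a * a) = (a * a) * (c * c) := by
      have hca' : c * (a * a)⁻¹ = (a * a) * c := by
        calc c * (a * a)⁻¹ = (a * a) * ((a * a)⁻¹ * c) * (a * a)⁻¹ := by group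
          _ = (a * a) * (c * (a * a)) * (a * a)⁻¹ := by rw [hca]
          _ = _ := by group
      calc (c * c) * (a * a) = c * (c * (a * a)) := mul_assoc _ _ _
        _ = c * ((a * a)⁻¹ * c) := by rw [hca]
        _ = c * (a * a)⁻¹ * c := (mul_assoc _ _ _).symm
        _ = (a * a) * c * c := by rw [hca']
        _ = _ := mul_assoc _ _ _
    have hcc' : (c * c) ^ k * (a * a) = (a * a) * (c * c) ^ k :=
      ((show Commute (c * c) (a * a) from hcc).pow_left k).eq
    have hck : (c * c) ^ k = c := by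
      have h0 : c * c = c ^ 2 := (pow_two c).symm
      have hkk : ((c * c) ^ k) ^ 2 = c * c := hk
      have hcomm : Commute ((c * c) ^ k) c⁻¹ :=
        (((Commute.refl c).mul_left (Commute.refl c)).pow_left k).inv_right
      have : (c * c) ^ k * c⁻¹ = 1 := eq_one_of_sq hodd (mul_mem (pow_mem (mul_mem hc hc) k) (inv_mem hc))
        (by rw [← pow_two, hcomm.mul_pow, hkk, pow_two]; group)
      rwa [mul_inv_eq_one] at this
    rw [hck] at hcc'
    rw [hca] at hcc'
    have hA : (a * a) * (a * a) = 1 := by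
      have := mul_right_cancel hcc'
      rw [inv_eq_iff_mul_eq_one] at this
      exact this
    have ha1 : a = 1 := eq_one_of_sq hodd ha (eq_one_of_sq hodd (mul_mem ha ha) hA)
    rw [ha1, one_mul] at hbac
    subst hbac
    have hfix : i * j * b * (i * j) = b := by
      calc i * j * b * (i * j) = i * j * b * (j * i) := congrArg _ hij
        _ = i * (j * b * j) * i := by group
        _ = b := by
          rw [hjc, show i * b⁻¹ * i = (i⁻¹ * b * i⁻¹)⁻¹ by group, inv_eq_of_mul_eq_one_right hi, hib, inv_inv]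
    exact eq_one_of_sq hodd hb (mul_eq_one_iff_eq_inv.2 ((h2 b hb hfix).symm.trans hib))
  obtain ⟨a, ha, c, hc, rfl, hia, hic⟩ := exists_split hodd hi hiM hg
  rw [key c hc hic, mul_one, hia]

end CfsgLib.Chev.Ree.GL0
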