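import Cfsg.Agent.Chev.Ree.Tori

/-! The Hall tori of a small Ree group: normalisers, conjugacy and element orders. -/

set_option autoImplicit false
set_option maxRecDepth 100000
set_option linter.style.haveILetI false
set_option linter.unusedSectionVars false

namespace CfsgLib.Chev.Ree

open Cfsg.Lie CfsgLib.Chev Matrix CfsgLib.SL2

universe u

namespace GL0

variable {G : Type*} [Group G]

theorem isCyclic_of_conj_le {P A : Subgroup G} [IsCyclic ↥A] (g : G) (h : ∀ x ∈ P, g * x * g⁻¹ ∈ A) :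
    IsCyclic ↥P :=
  isCyclic_of_injective (((MulAut.conj g).toMonoidHom.comp P.subtype).codRestrict A fun x => h x x.2)
    ((MonoidHom.injective_codRestrict _ A _).2 fun a b e => Subtype.ext (MulEquiv.injective (MulAut.conj g) e))

theorem exists_orderOf_dvd [Finite G] {g : G} {d : ℕ} (h : d ∣ orderOf g) : ∃ x : G, orderOf x = d := by
  refine ⟨g ^ (orderOf g / d), ?_⟩
  exact orderOf_pow_orderOf_div (orderOf_pos g).ne' h

theorem conj_of_le_cyclic [Finite G] {A H J : Subgroup G} [IsCyclic ↥A] {g h : G}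
    (hH : H.map (MulAut.conj g).toMonoidHom ≤ A) (hJ : J.map (MulAut.conj h).toMonoidHom ≤ A)
    (hc : Nat.card ↥H = Nat.card ↥J) : ∃ a : G, J = H.map (MulAut.conj a).toMonoidHom := by
  have hcard : ∀ (L : Subgroup G) (a : G), Nat.card ↥(L.map (MulAut.conj a).toMonoidHom) = Nat.card ↥L :=
    fun L a => (Nat.card_congr (Subgroup.equivMapOfInjective L _ (MulEquiv.injective (MulAut.conj a))).toEquiv).symm
  have e := eq_of_card_eq hH hJ (by rw [hcard, hcard, hc])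
  refine ⟨h⁻¹ * g, ?_⟩
  have key : ∀ (L : Subgroup G) (a b : G),
      (L.map (MulAut.conj a).toMonoidHom).map (MulAut.conj b).toMonoidHom = L.map (MulAut.conj (b * a)).toMonoidHom := by
    intro L a b
    rw [Subgroup.map_map, map_mul]
    rfl
  rw [← key, e, key, inv_mul_cancel, map_one]
  exact (Subgroup.map_id J).symm

end GL0

variable {K : Type u} [Field K] [Finite K] [CharP K 3] (m : ℕ)

local notation "G¹" => twistedG2 K (3 ^ m)
local notation "k₁" => ((3 ^ (2 * m + 1) - 1) / 2)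
local notation "k₂" => ((3 ^ (2 * m + 1) + 1) / 4)
local notation "qq" => (3 ^ (2 * m + 1) : ℕ)

variable (hK : Nat.card K = 3 ^ (2 * m + 1))

include hK in
theorem normalizer_torus (hm : 1 ≤ m) {x : ↥G¹} (hx : IsTorusElt m x) {A₀ : Subgroup ↥G¹}
    (h : A₀ ≤ Subgroup.centralizer {x}) (h1 : A₀ ≠ ⊥) :
    Subgroup.normalizer (A₀ : Set ↥G¹) =
      Subgroup.normalizer ((Subgroup.centralizer {x} : Subgroup ↥G¹) : Set ↥G¹) := by
  haveI := isCyclic_torus_elt m hK hm hx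
  refine le_antisymm ?_ (GL0.normalizer_le_of_cyclic h)
  obtain ⟨⟨a, ha⟩, ha1⟩ := Subgroup.ne_bot_iff_exists_ne_one.1 h1
  have ha1' : a ≠ 1 := fun e => ha1 (Subtype.ext e)
  intro g hg
  refine GL0.mem_normalizer_of_conj_le fun y hy => ?_
  rw [← centralizer_torus_elt m hK hm hx (h ha) ha1', Subgroup.mem_centralizer_singleton_iff]
  have hb : g⁻¹ * a * g ∈ Subgroup.centralizer {x} := h ((Subgroup.mem_normalizer_iff''.1 hg a).1 ha)
  have := torus_comm m hK hx hy hb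
  calc g * y * g⁻¹ * a = g * (y * (g⁻¹ * a * g)) * g⁻¹ := by group
    _ = g * (g⁻¹ * a * g * y) * g⁻¹ := by rw [this]
    _ = a * (g * y * g⁻¹) := by group

include hK in
theorem isCyclic_sylow (hm : 1 ≤ m) {p : ℕ} [Fact p.Prime] (hp3 : 3 < p) (P : Sylow p ↥G¹) :
    IsCyclic ↥(P : Subgroup ↥G¹) := by
  have hp : p.Prime := Fact.out
  rcases subsingleton_or_nontrivial ↥(P : Subgroup ↥G¹) with h | h
  · exact isCyclic_of_subsingleton
  haveI := P.isPGroup'.center_nontrivial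
  haveI : Finite ↥(Subgroup.center ↥(P : Subgroup ↥G¹)) := inferInstance
  obtain ⟨⟨⟨w, hwP⟩, hwc⟩, hw1⟩ := exists_ne (1 : ↥(Subgroup.center ↥(P : Subgroup ↥G¹)))
  have hw1' : w ≠ 1 := fun e => hw1 (Subtype.ext (Subtype.ext e))
  obtain ⟨n, hn⟩ := P.isPGroup' ⟨w, hwP⟩
  have hn' : w ^ p ^ n = 1 := congrArg Subtype.val hn
  obtain ⟨i, hi, ho⟩ := (Nat.dvd_prime_pow hp).1 (orderOf_dvd_of_pow_eq_one hn')
  have hi0 : i ≠ 0 := fun e => hw1' (orderOf_eq_one_iff.1 (by rw [ho, e, pow_zero]))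
  set z := w ^ (orderOf w / p) with hz
  have hzo : orderOf z = p := orderOf_pow_orderOf_div (orderOf_pos w).ne' (ho ▸ dvd_pow_self p hi0)
  have hz1 : z ≠ 1 := fun e => hp.one_lt.ne (by rw [← hzo, e, orderOf_one])
  have hPz : ∀ a ∈ (P : Subgroup ↥G¹), a * z = z * a := fun a ha =>
    ((show Commute a w from congrArg Subtype.val (Subgroup.mem_center_iff.1 hwc ⟨a, ha⟩)).pow_right _).eq
  have hzp : z ^ p ^ 1 = 1 := by rw [pow_one, ← hzo, pow_orderOf_eq_one]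
  have hd := hzo ▸ orderOf_dvd_natCard z
  rw [card_group_Nq m hK] at hd
  have hp2 : p ≠ 2 := by omega
  have hconj : ∀ g a : ↥G¹, a * z = z * a → g * a * g⁻¹ * (g * z * g⁻¹) = g * z * g⁻¹ * (g * a * g⁻¹) :=
    fun g a e => by
      calc g * a * g⁻¹ * (g * z * g⁻¹) = g * (a * z) * g⁻¹ := by group
        _ = g * (z * a) * g⁻¹ := by rw [e]
        _ = _ := by group
  rcases hp.dvd_mul.1 hd with hd | hd
  · rcases hp.dvd_mul.1 hd with hd | hd
    · rcases hp.dvd_mul.1 hd with hd | hd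
      · have := (Nat.prime_dvd_prime_iff_eq hp Nat.prime_three).1 (hp.dvd_of_dvd_pow (hp.dvd_of_dvd_pow hd))
        omega
      · rw [← (k1_facts (K := K) m hK).1] at hd
        have h1 := (hp.dvd_mul.1 hd).resolve_left fun e => hp2 ((Nat.prime_dvd_prime_iff_eq hp Nat.prime_two).1 e)
        obtain ⟨g, hg⟩ := conj_into_A1 m hK hp h1 hzp
        haveI := isCyclic_TG (K := K) m hK
        refine GL0.isCyclic_of_conj_le (A := TG K m) g fun a ha => ?_
        rw [← centralizer_TG m hK (A1_le m hg) (A1_sq_ne m hK hg fun e => hz1 (conj_eq_one_iff.1 e)),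
          Subgroup.mem_centralizer_singleton_iff]
        exact hconj g a (hPz a ha)
    · rw [← (k2_facts (K := K) m hK).1] at hd
      have h1 := (hp.dvd_mul.1 hd).resolve_left fun e =>
        hp2 ((Nat.prime_dvd_prime_iff_eq hp Nat.prime_two).1 (hp.dvd_of_dvd_pow (show p ∣ 2 ^ 2 from e)))
      obtain ⟨g, hg⟩ := conj_into_A2 m hK hp h1 hzp
      haveI := isCyclic_A2 (K := K) m hK
      refine GL0.isCyclic_of_conj_le (A := A2 K m hK) g fun a ha => ?_
      have hmem : g * a * g⁻¹ ∈ DQ K m hK := by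
        rw [← centralizer_A2_elem m hK hg fun e => hz1 (conj_eq_one_iff.1 e),
          Subgroup.mem_centralizer_singleton_iff]
        exact hconj g a (hPz a ha)
      refine mem_A2_of_pow m hK hmem (orderOf_dvd_iff_pow_eq_one.1 ?_)
      obtain ⟨l, hl⟩ := P.isPGroup' ⟨a, ha⟩
      have hl' : a ^ p ^ l = 1 := congrArg Subtype.val hl
      have h1 : orderOf (g * a * g⁻¹) ∣ p ^ l := orderOf_dvd_of_pow_eq_one (by rw [conj_pow, hl']; group)
      have h2 : orderOf (g * a * g⁻¹) ∣ 4 * k₂ := by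
        rw [(k2_facts (K := K) m hK).1, ← card_DQ m hK hm, ← Subgroup.orderOf_mk _ hmem]
        exact orderOf_dvd_natCard _
      exact (Nat.Coprime.coprime_dvd_left h1 (Nat.Coprime.pow_left l
        (show Nat.Coprime p (2 ^ 2) from Nat.Coprime.pow_right 2 ((Nat.coprime_primes hp Nat.prime_two).2 hp2)))).dvd_of_dvd_mul_left h2
  · have hx : IsTorusElt m z := ⟨hzo.symm ▸ hp, hzo.symm ▸ hd⟩
    haveI := isCyclic_torus_elt m hK hm hx
    exact GL0.isCyclic_of_conj_le (A := Subgroup.centralizer {z}) 1 fun a ha => by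
      simpa [Subgroup.mem_centralizer_singleton_iff] using hPz a ha

include hK in
/-- The four cyclic Hall subgroups. -/
theorem hall_subgroups (hm : 1 ≤ m) :
    ∀ kn ∈ ({(k₁, 2 * (qq - 1)), (k₂, 6 * (qq + 1)),
        (qq - 3 ^ (m + 1) + 1, 6 * (qq - 3 ^ (m + 1) + 1)),
        (qq + 3 ^ (m + 1) + 1, 6 * (qq + 3 ^ (m + 1) + 1))} : Set (ℕ × ℕ)),
      ∃ A : Subgroup ↥G¹, IsCyclic A ∧ Nat.card A = kn.1 ∧
        Nat.card (Subgroup.normalizer (A : Set ↥G¹)) = kn.2 ∧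
        ∀ A₀ : Subgroup ↥G¹, A₀ ≤ A → A₀ ≠ ⊥ →
          Subgroup.normalizer (A₀ : Set ↥G¹) = Subgroup.normalizer (A : Set ↥G¹) := by
  have h27 : 27 ≤ qq := le_trans (by norm_num) (Nat.pow_le_pow_right (by norm_num) (show 3 ≤ 2 * m + 1 by omega))
  have hne : ∀ A : Subgroup ↥G¹, 1 < Nat.card ↥A → A ≠ ⊥ := fun A h e => by
    rw [e, Subgroup.card_bot] at h; exact absurd h (by norm_num)
  intro kn hkn
  simp only [Set.mem_insert_iff, Set.mem_singleton_iff] at hkn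
  obtain ⟨x₁, x₂, hx₁, hx₂, hc₁, hc₂, hn₁, hn₂, -, -⟩ := exists_tori (K := K) m hK hm
  rcases hkn with rfl | rfl | rfl | rfl
  · have hA := hne (A1 K m) (by rw [card_A1 m hK]; omega)
    refine ⟨A1 K m, isCyclic_A1 m hK, card_A1 m hK, ?_, fun A₀ h h1 => ?_⟩
    · rw [normalizer_A1 m hK le_rfl hA, card_normalizer_TG m hK hm]
    · rw [normalizer_A1 m hK h h1, normalizer_A1 m hK le_rfl hA]
  · have hA := hne (A2 K m hK) (by rw [card_A2 m hK]; omega)
    refine ⟨A2 K m hK, isCyclic_A2 m hK, card_A2 m hK, ?_, fun A₀ h h1 => ?_⟩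
    · rw [normalizer_A2 m hK le_rfl hA, card_normalizer_VG m hK]
    · rw [normalizer_A2 m hK h h1, normalizer_A2 m hK le_rfl hA]
  · exact ⟨_, isCyclic_torus_elt m hK hm hx₁, hc₁, by rw [hn₁, hc₁], fun A₀ h h1 => normalizer_torus m hK hm hx₁ h h1⟩
  · exact ⟨_, isCyclic_torus_elt m hK hm hx₂, hc₂, by rw [hn₂, hc₂], fun A₀ h h1 => normalizer_torus m hK hm hx₂ h h1⟩

include hK in
theorem cyclic_conj_torus (hm : 1 ≤ m) {x x' : ↥G¹} (hx : IsTorusElt m x) (hx' : IsTorusElt m x')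
    (hcop : Nat.Coprime (Nat.card ↥(Subgroup.centralizer {x})) (Nat.card ↥(Subgroup.centralizer {x'})))
    (hall : ∀ y : ↥G¹, y ≠ 1 → y ^ Nq m = 1 →
      (∃ g : ↥G¹, g * y * g⁻¹ ∈ Subgroup.centralizer {x}) ∨ ∃ g : ↥G¹, g * y * g⁻¹ ∈ Subgroup.centralizer {x'})
    {H : Subgroup ↥G¹} [IsCyclic ↥H] (hd : Nat.card ↥H ∣ Nat.card ↥(Subgroup.centralizer {x})) :
    ∃ g : ↥G¹, H.map (MulAut.conj g).toMonoidHom ≤ Subgroup.centralizer {x} := by
  rcases eq_or_ne H ⊥ with rfl | hH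
  · exact ⟨1, by simp⟩
  obtain ⟨⟨a, ha⟩, ha1⟩ := Subgroup.ne_bot_iff_exists_ne_one.1 hH
  have ha1' : a ≠ 1 := fun e => ha1 (Subtype.ext e)
  have had : orderOf a ∣ Nat.card ↥(Subgroup.centralizer {x}) :=
    (Subgroup.orderOf_mk a ha ▸ orderOf_dvd_natCard (⟨a, ha⟩ : ↥H)).trans hd
  obtain ⟨g, hg⟩ : ∃ g : ↥G¹, g * a * g⁻¹ ∈ Subgroup.centralizer {x} := by
    refine (hall a ha1' (orderOf_dvd_iff_pow_eq_one.1 (had.trans (card_torus_dvd m hK hm hx)))).resolve_right ?_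
    rintro ⟨g, hg⟩
    refine ha1' (orderOf_eq_one_iff.1 (Nat.eq_one_of_dvd_one (hcop.gcd_eq_one ▸ Nat.dvd_gcd had ?_)))
    rw [← MulEquiv.orderOf_eq (MulAut.conj g) a, MulAut.conj_apply, ← Subgroup.orderOf_mk _ hg]
    exact orderOf_dvd_natCard _
  refine ⟨g, ?_⟩
  rintro _ ⟨h, hh, rfl⟩
  show g * h * g⁻¹ ∈ _
  rw [← centralizer_torus_elt m hK hm hx hg (fun e => ha1' (conj_eq_one_iff.1 e)),
    Subgroup.mem_centralizer_singleton_iff]
  have := congrArg Subtype.val ((IsCyclic.commGroup (α := ↥H)).mul_comm ⟨h, hh⟩ ⟨a, ha⟩)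
  calc g * h * g⁻¹ * (g * a * g⁻¹) = g * (h * a) * g⁻¹ := by group
    _ = g * (a * h) * g⁻¹ := by rw [show h * a = a * h from this]
    _ = _ := by group

include hK in
theorem cyclic_subgroups_conj (hm : 1 ≤ m) (d : ℕ)
    (hd : d ∣ k₁ ∨ d ∣ k₂ ∨ d ∣ qq - 3 ^ (m + 1) + 1 ∨ d ∣ qq + 3 ^ (m + 1) + 1)
    (A B : Subgroup ↥G¹) [IsCyclic ↥A] [IsCyclic ↥B] (hAd : Nat.card A = d) (hBd : Nat.card B = d) :
    ∃ g : ↥G¹, B = A.map (MulAut.conj g).toMonoidHom := by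
  obtain ⟨x₁, x₂, hx₁, hx₂, hc₁, hc₂, -, -, hcop, hall⟩ := exists_tori (K := K) m hK hm
  have e : Nat.card A = Nat.card B := hAd.trans hBd.symm
  rcases hd with h | h | h | h
  · haveI := isCyclic_A1 (K := K) m hK
    obtain ⟨a, ha⟩ := cyclic_conj_A1 m hK (H := A) (hAd ▸ h)
    obtain ⟨b, hb⟩ := cyclic_conj_A1 m hK (H := B) (hBd ▸ h)
    exact GL0.conj_of_le_cyclic ha hb e
  · haveI := isCyclic_A2 (K := K) m hK
    obtain ⟨a, ha⟩ := cyclic_conj_A2 m hK (H := A) (hAd ▸ h)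
    obtain ⟨b, hb⟩ := cyclic_conj_A2 m hK (H := B) (hBd ▸ h)
    exact GL0.conj_of_le_cyclic ha hb e
  · haveI := isCyclic_torus_elt m hK hm hx₁
    obtain ⟨a, ha⟩ := cyclic_conj_torus m hK hm hx₁ hx₂ hcop hall (H := A) (by rw [hAd, hc₁]; exact h)
    obtain ⟨b, hb⟩ := cyclic_conj_torus m hK hm hx₁ hx₂ hcop hall (H := B) (by rw [hBd, hc₁]; exact h)
    exact GL0.conj_of_le_cyclic ha hb e
  · haveI := isCyclic_torus_elt m hK hm hx₂
    obtain ⟨a, ha⟩ := cyclic_conj_torus m hK hm hx₂ hx₁ hcop.symm (fun y h1 h2 => (hall y h1 h2).symm) (H := A)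
      (by rw [hAd, hc₂]; exact h)
    obtain ⟨b, hb⟩ := cyclic_conj_torus m hK hm hx₂ hx₁ hcop.symm (fun y h1 h2 => (hall y h1 h2).symm) (H := B)
      (by rw [hBd, hc₂]; exact h)
    exact GL0.conj_of_le_cyclic ha hb e

end CfsgLib.Chev.Ree
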