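import Cfsg.Agent.Chev.Ree.Rep7

/-! The cyclic Hall subgroups of the small Ree groups attached to `q² - q + 1`. -/

set_option autoImplicit false
set_option maxRecDepth 100000
set_option linter.style.haveILetI false
set_option linter.unusedSectionVars false

namespace CfsgLib.Chev.Ree

open Cfsg.Lie CfsgLib.Chev Matrix

universe u

/-- `q² - q + 1` for `q = 3^(2m+1)`. -/
def Nq (m : ℕ) : ℕ := 3 ^ (2 * m + 1) * (3 ^ (2 * m + 1) - 1) + 1

theorem Nq_spec (m : ℕ) : (Nq m : ℤ) = ((3 : ℤ) ^ (2 * m + 1)) ^ 2 - 3 ^ (2 * m + 1) + 1 := by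
  rw [Nq, Nat.cast_add, Nat.cast_mul, Nat.cast_sub (Nat.one_le_pow _ _ (by norm_num))]
  push_cast; ring

variable {K : Type u} [Field K] [Finite K] [CharP K 3] (m : ℕ)

local notation "G¹" => twistedG2 K (3 ^ m)

variable (hK : Nat.card K = 3 ^ (2 * m + 1))

include hK in
theorem card_group_Nq : Nat.card ↥G¹ =
    (3 ^ (2 * m + 1)) ^ 3 * (3 ^ (2 * m + 1) - 1) * (3 ^ (2 * m + 1) + 1) * Nq m := by
  obtain ⟨N, hN, hG⟩ := card_group_factor (K := K) m hK
  have h := congrArg (fun n : ℕ => (n : ℤ)) hN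
  push_cast at h
  have e : (N : ℤ) = (Nq m : ℤ) := by rw [Nq_spec]; linear_combination h
  rw [hG, Nat.cast_injective e]

/-- Properties of a prime divisor of `q² - q + 1`. -/
theorem prime_dvd_Nq {p : ℕ} (hp : p.Prime) (hd : p ∣ Nq m) :
    p ≠ 2 ∧ p ≠ 3 ∧ ¬ p ∣ 3 ^ (2 * m + 1) - 1 ∧ ¬ p ∣ 3 ^ (2 * m + 1) + 1 ∧
      (3 ^ (2 * m + 1)) ^ 6 % p = 1 ∧ ∀ i, 0 < i → i < 6 → (3 ^ (2 * m + 1)) ^ i % p ≠ 1 := by
  haveI : Fact p.Prime := ⟨hp⟩
  set Q : ℕ := 3 ^ (2 * m + 1) with hQ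
  have hq : 1 ≤ Q := Nat.one_le_pow _ _ (by norm_num)
  have h3q : (3 : ℕ) ∣ Q := dvd_pow_self 3 (by omega)
  have hNz : ((Q : ℕ) : ZMod p) ^ 2 - (Q : ZMod p) + 1 = 0 := by
    have h0 : ((Nq m : ℤ) : ZMod p) = 0 := by
      rw [Int.cast_natCast, ZMod.natCast_eq_zero_iff]; exact hd
    rw [Nq_spec] at h0
    push_cast at h0
    rw [hQ]; push_cast
    exact h0
  have hp2 : p ≠ 2 := by
    rintro rfl
    have he : Even (Q * (Q - 1)) := Nat.even_mul_pred_self Q
    rw [Nq, ← hQ, ← even_iff_two_dvd, Nat.even_add_one] at hd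
    exact hd he
  have hp3 : p ≠ 3 := by
    rintro rfl
    rw [Nq, ← hQ] at hd
    have := Nat.dvd_sub hd (h3q.mul_right (Q - 1))
    rw [Nat.add_sub_cancel_left] at this
    norm_num at this
  have h3 : (3 : ZMod p) ≠ 0 := by
    intro e
    have : ((3 : ℕ) : ZMod p) = 0 := by exact_mod_cast e
    rw [ZMod.natCast_eq_zero_iff] at this
    exact hp3 ((Nat.prime_dvd_prime_iff_eq hp Nat.prime_three).1 this)
  have h2 : (2 : ZMod p) ≠ 0 := by
    intro e
    have : ((2 : ℕ) : ZMod p) = 0 := by exact_mod_cast e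
    rw [ZMod.natCast_eq_zero_iff] at this
    exact hp2 ((Nat.prime_dvd_prime_iff_eq hp Nat.prime_two).1 this)
  generalize hz : (Q : ZMod p) = z at hNz
  have z1 : z ≠ 1 := by rintro rfl; exact one_ne_zero (α := ZMod p) (by linear_combination hNz)
  have zm1 : z + 1 ≠ 0 := fun e => h3 (by linear_combination hNz - (z - 2) * e)
  have z3 : z ^ 3 = -1 := by linear_combination (z + 1) * hNz
  have z6 : z ^ 6 = 1 := by linear_combination (z ^ 3 - 1) * z3
  have zne : ∀ i, 0 < i → i < 6 → z ^ i ≠ 1 := by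
    intro i h0 h6 e
    interval_cases i
    · rw [pow_one] at e; exact z1 e
    · exact z1 (mul_left_cancel₀ zm1 (by
        have hz2 : z = 2 := by linear_combination e - hNz
        subst hz2
        exact absurd (by linear_combination e : (3 : ZMod p) = 0) h3))
    · rw [z3] at e; exact h2 (by linear_combination -e)
    · have hz : z = -1 := by linear_combination -e + z * z3
      exact zm1 (by rw [hz]; ring)
    · have hz : z ^ 2 = -1 := by linear_combination -e + z ^ 2 * z3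
      have : z = 0 := by linear_combination hz - hNz
      rw [this] at z3
      exact one_ne_zero (α := ZMod p) (by linear_combination z3)
  refine ⟨hp2, hp3, fun h => z1 ?_, fun h => zm1 ?_, ?_, fun i h0 h6 e => zne i h0 h6 ?_⟩
  · rw [← ZMod.natCast_eq_zero_iff, Nat.cast_sub hq, sub_eq_zero, hz, Nat.cast_one] at h
    exact h
  · rw [← ZMod.natCast_eq_zero_iff] at h; push_cast at h; rw [hz] at h; exact h
  · rw [← hz, ← Nat.cast_pow, ← Nat.cast_one, ZMod.natCast_eq_natCast_iff', Nat.mod_eq_of_lt hp.one_lt] at z6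
    exact z6
  · rw [← hz, ← Nat.cast_pow, ← Nat.cast_one, ZMod.natCast_eq_natCast_iff', Nat.mod_eq_of_lt hp.one_lt]
    exact e

/-- The hypothesis on an element. -/
def IsTorusElt (x : ↥(twistedG2 K (3 ^ m))) : Prop := (orderOf x).Prime ∧ orderOf x ∣ Nq m

variable {x : ↥(twistedG2 K (3 ^ m))}

include hK in
theorem setup (hx : IsTorusElt m x) : Eig.Setup (3 ^ (2 * m + 1)) (orderOf x) (rho K m hK x) := by
  obtain ⟨-, h3, -, -, h6, hmin⟩ := prime_dvd_Nq m hx.1 hx.2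
  refine ⟨hK, ⟨_, rfl⟩, card_I7, hx.1, h3, h6, hmin, by rw [← map_pow, pow_orderOf_eq_one, map_one], fun e => ?_⟩
  rw [← map_one (rho K m hK)] at e
  have := rho_injective m hK e
  exact hx.1.one_lt.ne' (by rw [this, orderOf_one])

include hK in
theorem torus_coprime (hm : 1 ≤ m) (hx : IsTorusElt m x) {r : ℕ} (hr : r.Prime)
    (hd : r ∣ Nat.card ↥(Subgroup.centralizer {x})) :
    ¬ r ∣ (3 ^ (2 * m + 1)) ^ 3 * (3 ^ (2 * m + 1) - 1) * (3 ^ (2 * m + 1) + 1) := by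
  haveI : Fact r.Prime := ⟨hr⟩
  obtain ⟨hp2, hp3, hpm, hpp, -, -⟩ := prime_dvd_Nq m hx.1 hx.2
  have hx1 : x ≠ 1 := fun h => hx.1.one_lt.ne' (by rw [h, orderOf_one])
  have hpq : ¬ orderOf x ∣ (3 ^ (2 * m + 1)) := fun h =>
    hp3 ((Nat.prime_dvd_prime_iff_eq hx.1 Nat.prime_three).1 (hx.1.dvd_of_dvd_pow h))
  obtain ⟨⟨z, hzC⟩, hzo⟩ := exists_prime_orderOf_dvd_card' r hd
  rw [Subgroup.orderOf_mk] at hzo
  have hz1 : z ≠ 1 := fun h => hr.one_lt.ne (by rw [← hzo, h, orderOf_one])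
  have hcomm : ∀ d : ↥G¹, d * x * d⁻¹ ∈ Subgroup.centralizer {d * z * d⁻¹} := fun d => by
    rw [Subgroup.mem_centralizer_singleton_iff,
      show ∀ a b : ↥G¹, d * a * d⁻¹ * (d * b * d⁻¹) = d * (a * b) * d⁻¹ from fun a b => by group,
      show ∀ a b : ↥G¹, d * a * d⁻¹ * (d * b * d⁻¹) = d * (a * b) * d⁻¹ from fun a b => by group,
      Subgroup.mem_centralizer_singleton_iff.1 hzC]
  have hdvd : ∀ (H : Subgroup ↥G¹) (d : ↥G¹), d * x * d⁻¹ ∈ H → orderOf x ∣ Nat.card ↥H := fun H d h => by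
    rw [← MulEquiv.orderOf_eq (MulAut.conj d) x, MulAut.conj_apply, ← Subgroup.orderOf_mk _ h]
    exact orderOf_dvd_natCard _
  intro hrd
  have hr3 : r ≠ 3 := by
    rintro rfl
    refine three_not_dvd_centralizer m hK hx1 (pow_orderOf_eq_one x) ?_ hd
    rw [hx.1.coprime_iff_not_dvd, hx.1.dvd_mul]
    rintro (h | h)
    · exact hpq (hx.1.dvd_of_dvd_pow h)
    · exact hpm h
  have hr2 : r ≠ 2 := by
    rintro rfl
    have hz2 : z * z = 1 := by rw [← pow_two, ← hzo, pow_orderOf_eq_one]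
    obtain ⟨d, hd⟩ := isConj_iff.1 (isConj_hm m hK hz2 hz1)
    have h := hdvd _ d (hd ▸ hcomm d)
    rw [show Subgroup.centralizer {hmG K m} = Ch K m from rfl, card_Ch m hK,
      show (3 ^ (2 * m + 1)) ^ 2 - 1 = (3 ^ (2 * m + 1) + 1) * (3 ^ (2 * m + 1) - 1) by
        rw [show (1 : ℕ) = 1 ^ 2 from rfl, Nat.sq_sub_sq]; simp] at h
    rcases hx.1.dvd_mul.1 h with h | h
    · exact hpq h
    · rcases hx.1.dvd_mul.1 h with h | h
      · exact hpp h
      · exact hpm h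
  have hrz : z ^ r ^ 1 = 1 := by rw [pow_one, ← hzo, pow_orderOf_eq_one]
  rcases hr.dvd_mul.1 hrd with h | h
  · rcases hr.dvd_mul.1 h with h | h
    · exact hr3 ((Nat.prime_dvd_prime_iff_eq hr Nat.prime_three).1 (hr.dvd_of_dvd_pow (hr.dvd_of_dvd_pow h)))
    · rw [← (k1_facts (K := K) m hK).1] at h
      have h1 := (hr.dvd_mul.1 h).resolve_left fun e => hr2 ((Nat.prime_dvd_prime_iff_eq hr Nat.prime_two).1 e)
      obtain ⟨d, hd⟩ := conj_into_A1 m hK hr h1 hrz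
      have hne : d * z * d⁻¹ ≠ 1 := fun e => hz1 (conj_eq_one_iff.1 e)
      have := hdvd _ d (hcomm d)
      rw [centralizer_TG m hK (A1_le m hd) (A1_sq_ne m hK hd hne), card_TG m hK] at this
      exact hpm this
  · rw [← (k2_facts (K := K) m hK).1] at h
    have h1 := (hr.dvd_mul.1 h).resolve_left fun e =>
      hr2 ((Nat.prime_dvd_prime_iff_eq hr Nat.prime_two).1 (hr.dvd_of_dvd_pow (show r ∣ 2 ^ 2 from e)))
    obtain ⟨d, hd⟩ := conj_into_A2 m hK hr h1 hrz
    have hne : d * z * d⁻¹ ≠ 1 := fun e => hz1 (conj_eq_one_iff.1 e)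
    have := hdvd _ d (hcomm d)
    rw [centralizer_A2_elem m hK hd hne, card_DQ m hK hm] at this
    exact hpp this

include hK in
theorem card_torus_dvd (hm : 1 ≤ m) (hx : IsTorusElt m x) :
    Nat.card ↥(Subgroup.centralizer {x}) ∣ Nq m := by
  refine Nat.Coprime.dvd_of_dvd_mul_left ?_ (card_group_Nq (K := K) m hK ▸
    Subgroup.card_subgroup_dvd_card (Subgroup.centralizer {x}))
  exact Nat.coprime_of_dvd fun r hr h1 h2 => torus_coprime m hK hm hx hr h1 h2

include hK in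
theorem coprime_q_sub_one (hm : 1 ≤ m) (hx : IsTorusElt m x) :
    Nat.Coprime (Nat.card ↥(Subgroup.centralizer {x})) (3 ^ (2 * m + 1) - 1) :=
  Nat.coprime_of_dvd fun _ hr h1 h2 =>
    torus_coprime m hK hm hx hr h1 ((h2.mul_left _).mul_right _)

theorem rho_comm {g : ↥G¹} (hg : g ∈ Subgroup.centralizer {x}) :
    rho K m hK g * rho K m hK x = rho K m hK x * rho K m hK g := by
  rw [← map_mul, ← map_mul, Subgroup.mem_centralizer_singleton_iff.1 hg]

include hK in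
theorem torus_comm (hx : IsTorusElt m x) {g h : ↥G¹} (hg : g ∈ Subgroup.centralizer {x})
    (hh : h ∈ Subgroup.centralizer {x}) : g * h = h * g := by
  obtain ⟨Fr⟩ := Eig.exists_frame (setup m hK hx)
  refine rho_injective m hK ?_
  rw [map_mul, map_mul]
  exact Eig.commute_of_comm Fr (setup m hK hx) (rho_comm m hK hg) (rho_comm m hK hh)

include hK in
theorem isCyclic_torus_elt (hm : 1 ≤ m) (hx : IsTorusElt m x) :
    IsCyclic ↥(Subgroup.centralizer {x}) := by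
  have hs := setup m hK hx
  obtain ⟨Fr⟩ := Eig.exists_frame hs
  let f : ↥(Subgroup.centralizer {x}) →* AlgebraicClosure K :=
    { toFun := fun g => Eig.chi Fr hs (rho K m hK g) (rho_comm m hK g.2)
      map_one' := Eig.chi_eq Fr hs _ (by simp [Eig.up_one])
      map_mul' := fun g h => by
        simp only [Subgroup.coe_mul, map_mul]
        exact Eig.chi_mul Fr hs _ _ _ }
  refine isCyclic_of_injective_ringHom f ((injective_iff_map_eq_one f).2 fun g hg => ?_)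
  have h1 : rho K m hK (g : ↥G¹) = 1 := Eig.eq_one_of_chi Fr hs (rho_comm m hK g.2) hg
    (n := Nat.card ↥(Subgroup.centralizer {x}))
    (by rw [← map_pow, ← Subgroup.coe_pow, pow_card_eq_one', Subgroup.coe_one, map_one])
    (coprime_q_sub_one m hK hm hx)
  rw [← map_one (rho K m hK)] at h1
  exact Subtype.ext (rho_injective m hK h1)

include hK in
theorem centralizer_torus_elt (hm : 1 ≤ m) (hx : IsTorusElt m x) {y : ↥G¹}
    (hy : y ∈ Subgroup.centralizer {x}) (hy1 : y ≠ 1) :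
    Subgroup.centralizer {y} = Subgroup.centralizer {x} := by
  refine le_antisymm ?_ (fun g hg => Subgroup.mem_centralizer_singleton_iff.2 (torus_comm m hK hx hg hy))
  obtain ⟨p, hp, hpd⟩ := Nat.exists_prime_and_dvd (fun h => hy1 (orderOf_eq_one_iff.1 h))
  set z := y ^ (orderOf y / p) with hz
  have hzo : orderOf z = p := orderOf_pow_orderOf_div (orderOf_pos y).ne' hpd
  have hzT : IsTorusElt m z := ⟨hzo ▸ hp, hzo ▸ hpd.trans ((Subgroup.orderOf_mk y hy ▸ orderOf_dvd_natCard _).trans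
    (card_torus_dvd m hK hm hx))⟩
  have hxz : x ∈ Subgroup.centralizer {z} := by
    rw [Subgroup.mem_centralizer_singleton_iff]
    exact ((show Commute x y from (Subgroup.mem_centralizer_singleton_iff.1 hy).symm).pow_right _).eq
  intro g hg
  have hgz : g ∈ Subgroup.centralizer {z} := by
    rw [Subgroup.mem_centralizer_singleton_iff]
    exact ((show Commute g y from Subgroup.mem_centralizer_singleton_iff.1 hg).pow_right _).eq
  rw [Subgroup.mem_centralizer_singleton_iff]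
  exact torus_comm m hK hzT hgz hxz

include hK in
theorem torus_hall (hm : 1 ≤ m) (hx : IsTorusElt m x) : ∃ s : ℕ,
    Nat.card ↥G¹ = Nat.card ↥(Subgroup.centralizer {x}) * s ∧
      ∀ r : ℕ, r.Prime → r ∣ Nat.card ↥(Subgroup.centralizer {x}) → ¬ r ∣ s := by
  obtain ⟨s, hs⟩ := Subgroup.card_subgroup_dvd_card (Subgroup.centralizer ({x} : Set ↥G¹))
  refine ⟨s, hs, fun r hr hd hrs => ?_⟩
  haveI : Fact r.Prime := ⟨hr⟩
  obtain ⟨⟨z, hzC⟩, hzo⟩ := exists_prime_orderOf_dvd_card' r hd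
  rw [Subgroup.orderOf_mk] at hzo
  have hzP : IsPGroup r ↥(Subgroup.zpowers z) :=
    IsPGroup.of_card (n := 1) (by rw [Nat.card_zpowers, pow_one, hzo])
  obtain ⟨P, hP⟩ := hzP.exists_le_sylow
  have hzmem : z ∈ (P : Subgroup ↥G¹) := hP (Subgroup.mem_zpowers z)
  have hz1 : z ≠ 1 := fun h => hr.one_lt.ne (by rw [← hzo, h, orderOf_one])
  haveI : Nontrivial ↥(P : Subgroup ↥G¹) := ⟨⟨z, hzmem⟩, 1, fun h => hz1 (congrArg Subtype.val h)⟩
  haveI := P.isPGroup'.center_nontrivial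
  obtain ⟨⟨⟨w, hwP⟩, hwc⟩, hw1⟩ := exists_ne (1 : ↥(Subgroup.center ↥(P : Subgroup ↥G¹)))
  have hw1' : w ≠ 1 := fun h => hw1 (Subtype.ext (Subtype.ext h))
  have hPw : ∀ g ∈ (P : Subgroup ↥G¹), g * w = w * g := fun g hg =>
    congrArg Subtype.val (Subgroup.mem_center_iff.1 hwc ⟨g, hg⟩)
  have hTz : Subgroup.centralizer {z} = Subgroup.centralizer {x} := centralizer_torus_elt m hK hm hx hzC hz1
  have hwT : w ∈ Subgroup.centralizer {x} :=
    hTz ▸ Subgroup.mem_centralizer_singleton_iff.2 (hPw z hzmem).symm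
  have hle : (P : Subgroup ↥G¹) ≤ Subgroup.centralizer {x} := fun g hg => by
    rw [← centralizer_torus_elt m hK hm hx hwT hw1']
    exact Subgroup.mem_centralizer_singleton_iff.2 (hPw g hg)
  have h1 := Subgroup.card_dvd_of_le hle
  rw [show Nat.card ↥(P : Subgroup ↥G¹) = Nat.card P from rfl, Sylow.card_eq_multiplicity] at h1
  have hc0 : Nat.card ↥(Subgroup.centralizer {x}) ≠ 0 := Nat.card_pos.ne'
  have hs0 : s ≠ 0 := fun h => (Nat.card_pos (α := ↥G¹)).ne' (by rw [hs, h, mul_zero])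
  rw [hs, Nat.Prime.pow_dvd_iff_le_factorization hr hc0, Nat.factorization_mul hc0 hs0, Finsupp.add_apply] at h1
  have := hr.factorization_pos_of_dvd hs0 hrs
  omega

theorem closed_card_ne_five : ∀ s : Finset (Fin 6), (∀ a ∈ s, ∀ b ∈ s, a + b ∈ s) → s.card ≠ 5 := by
  decide +kernel

theorem mem_zpowers_of_conj {H : Subgroup ↥G¹} [IsCyclic ↥H] (hxH : x ∈ H) {g : ↥G¹} (hg : g * x * g⁻¹ ∈ H) :
    g * x * g⁻¹ ∈ Subgroup.zpowers x := by
  have e : Subgroup.zpowers (g * x * g⁻¹) = Subgroup.zpowers x := GL0.eq_of_card_eq (A := H)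
    (Subgroup.zpowers_le.2 hg) (Subgroup.zpowers_le.2 hxH)
    (by rw [Nat.card_zpowers, Nat.card_zpowers, ← MulAut.conj_apply, MulEquiv.orderOf_eq])
  exact e ▸ Subgroup.mem_zpowers _

include hK in
theorem card_normalizer_torus (hm : 1 ≤ m) (hx : IsTorusElt m x) : ∃ n : ℕ,
    (n = 1 ∨ n = 2 ∨ n = 3 ∨ n = 4 ∨ n = 6) ∧
      Nat.card ↥(Subgroup.normalizer ((Subgroup.centralizer {x} : Subgroup ↥G¹) : Set ↥G¹)) =
        n * Nat.card ↥(Subgroup.centralizer {x}) := by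
  classical
  have hs := setup m hK hx
  obtain ⟨Fr⟩ := Eig.exists_frame hs
  haveI := isCyclic_torus_elt m hK hm hx
  set T := Subgroup.centralizer ({x} : Set ↥G¹) with hT
  set N := Subgroup.normalizer ((T : Subgroup ↥G¹) : Set ↥G¹) with hN
  have hxT : x ∈ T := Subgroup.mem_centralizer_singleton_iff.2 rfl
  have hTN : N ⊓ Subgroup.centralizer {x} = T := inf_eq_right.2 Subgroup.le_normalizer
  have hpw : ∀ g ∈ N, ∃ i : Fin 6, g * x * g⁻¹ = x ^ (3 ^ (2 * m + 1)) ^ (i : ℕ) := by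
    intro g hg
    obtain ⟨k, hk⟩ := (isOfFinOrder_of_finite x).mem_powers_iff_mem_zpowers.2
      (mem_zpowers_of_conj m hxT ((Subgroup.mem_normalizer_iff.1 hg x).1 hxT))
    replace hk : g * x * g⁻¹ = x ^ k := hk.symm
    obtain ⟨i, hi, e⟩ := Eig.conj_pow Fr hs (A := rho K m hK g) (A' := rho K m hK g⁻¹)
      (by rw [← map_mul, inv_mul_cancel, map_one]) (k := k)
      (by rw [← map_pow, ← map_mul, ← map_mul, ← hk, inv_mul_cancel_right])
    refine ⟨⟨i, hi⟩, ?_⟩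
    rw [hk]
    exact rho_injective m hK (by rw [map_pow, map_pow, e])
  have hinj : Function.Injective fun i : Fin 6 => x ^ (3 ^ (2 * m + 1)) ^ (i : ℕ) := by
    intro a b e
    refine Fin.ext (Eig.sig_inj hs Fr.lam_ne (Eig.eig_pow_p hs Fr.v_ne Fr.v_eig) a.2 b.2 ?_)
    have h := pow_eq_pow_iff_modEq.1 e
    rw [← Eig.orderOf_lam hs Fr.lam_ne (Eig.eig_pow_p hs Fr.v_ne Fr.v_eig)] at h
    exact (isOfFinOrder_iff_pow_eq_one.2
      ⟨orderOf x, hx.1.pos, Eig.eig_pow_p hs Fr.v_ne Fr.v_eig⟩).pow_eq_pow_iff_modEq.2 h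
  let s : Finset (Fin 6) := Finset.univ.filter fun i =>
    ∃ g ∈ N, g * x * g⁻¹ = x ^ (3 ^ (2 * m + 1)) ^ (i : ℕ)
  have e : {y : ↥G¹ | ∃ g ∈ N, g * x * g⁻¹ = y} = (s.image fun i : Fin 6 => x ^ (3 ^ (2 * m + 1)) ^ (i : ℕ) : Finset ↥G¹) := by
    ext y
    simp only [Set.mem_setOf_eq, Finset.coe_image, Set.mem_image, SetLike.mem_coe, s, Finset.mem_filter,
      Finset.mem_univ, true_and]
    constructor
    · rintro ⟨g, hg, rfl⟩
      obtain ⟨i, hi⟩ := hpw g hg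
      exact ⟨i, ⟨g, hg, hi⟩, hi.symm⟩
    · rintro ⟨i, ⟨g, hg, hi⟩, rfl⟩
      exact ⟨g, hg, hi⟩
  have h6 : ∀ j, x ^ (3 ^ (2 * m + 1)) ^ j = x ^ (3 ^ (2 * m + 1)) ^ (j % 6) := fun j => by
    refine pow_eq_pow_iff_modEq.2 ?_
    have h := hs.ord6
    conv_lhs => rw [← Nat.mod_add_div j 6, pow_add, pow_mul]
    have h1 : ((3 ^ (2 * m + 1)) ^ 6) ^ (j / 6) ≡ 1 [MOD orderOf x] := by
      have : (3 ^ (2 * m + 1)) ^ 6 ≡ 1 [MOD orderOf x] := h.trans (Nat.mod_eq_of_lt hx.1.one_lt).symm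
      simpa using this.pow (j / 6)
    simpa using h1.mul_left _
  have hclosed : ∀ a ∈ s, ∀ b ∈ s, a + b ∈ s := by
    intro a ha b hb
    simp only [s, Finset.mem_filter, Finset.mem_univ, true_and] at ha hb ⊢
    obtain ⟨g, hg, hga⟩ := ha
    obtain ⟨h, hh, hhb⟩ := hb
    refine ⟨g * h, mul_mem hg hh, ?_⟩
    rw [show g * h * x * (g * h)⁻¹ = g * (h * x * h⁻¹) * g⁻¹ by group, hhb, ← conj_pow, hga, ← pow_mul,
      ← pow_add, Fin.val_add, h6]
  refine ⟨s.card, ?_, ?_⟩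
  · have h5 := closed_card_ne_five s hclosed
    have h6' : s.card ≤ 6 := (Finset.card_le_univ s).trans (by simp)
    have h0 : 0 < s.card := Finset.card_pos.2 ⟨0, by
      simp only [s, Finset.mem_filter, Finset.mem_univ, true_and]
      exact ⟨1, one_mem _, by simp⟩⟩
    omega
  · rw [GL0.card_eq_conj N x, hTN,
      show Nat.card {y : ↥G¹ // ∃ g ∈ N, g * x * g⁻¹ = y} = Set.ncard {y : ↥G¹ | ∃ g ∈ N, g * x * g⁻¹ = y} from rfl,
      e, Set.ncard_coe_finset, Finset.card_image_of_injective _ hinj]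

end CfsgLib.Chev.Ree
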