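import Cfsg.Agent.Chev.Special.ModCheck
import Cfsg.Agent.Chev.ValidG2

/-! Identities between root elements of `G₂` in characteristic three, checked by the kernel. -/

set_option autoImplicit false
set_option maxRecDepth 100000

namespace CfsgLib.Chev.Ree

open Cfsg.Lie CfsgLib.Chev

/-- The variable `t`. -/
def va : Poly := [(1, 1, 0)]

/-- The variable `u`. -/
def vb : Poly := [(1, 0, 1)]

/-- A constant. -/
def vc (c : ℤ) : Poly := [(c, 0, 0)]

/-- The word of the monomial element `n_{a+b} n_{3a+b}`. -/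
def nJPoly : List (ℕ × Poly) :=
  [(8, vc 1), (3, vc (-1)), (8, vc 1), (10, vc 1), (1, vc (-1)), (10, vc 1)]

/-- The word of the torus element `h_{a+b}(-1)`. -/
def hmPoly : List (ℕ × Poly) :=
  [(8, vc (-1)), (3, vc 1), (8, vc (-1)), (8, vc (-1)), (3, vc 1), (8, vc (-1))]

/-- The pairs of commuting roots used. -/
def commPairs : List (ℕ × ℕ) :=
  [(8, 9), (8, 10), (8, 11), (9, 10), (9, 11), (10, 11), (8, 1), (3, 10), (3, 1)]

theorem ab_check : sameWordMod 3 DataG2.tbl [(6, vb), (7, va)]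
    [(7, va), (6, vb), (8, [(1, 1, 1)]), (9, [(1, 2, 1)]), (10, [(-1, 3, 1)]), (11, [(-1, 3, 2)])] = true := by
  decide +kernel

theorem comm_check : (commPairs.all fun x =>
    sameWordMod 3 DataG2.tbl [(x.1, va), (x.2, vb)] [(x.2, vb), (x.1, va)]) = true := by
  decide +kernel

theorem nJ_check : ((List.range 12).all fun r =>
    sameWordMod 3 DataG2.tbl (nJPoly ++ [(r, va)]) ((11 - r, [(-1, 1, 0)]) :: nJPoly)) = true := by
  decide +kernel

/-- Over the prime field: `W(0,1,1) h n W(1,1,2) = V(0,1,1)`. -/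
theorem rank_check : sameWordMod 3 DataG2.tbl
    ([(7, vc 0), (6, vc 0), (8, vc 1), (9, vc 1), (10, vc 1), (11, vc 1)] ++ hmPoly ++ nJPoly ++
      [(7, vc 1), (6, vc 1), (8, vc 2), (9, vc 3), (10, vc 1), (11, vc 2)])
    [(4, vc 0), (5, vc 0), (3, vc (-1)), (2, vc (-1)), (1, vc (-1)), (0, vc (-1))] = true := by
  decide +kernel

end CfsgLib.Chev.Ree
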