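import Cfsg.Agent.Chev.Ree.PSL
import Cfsg.Agent.SL2.Involutions

/-! Involutions and Sylow 2-subgroups of the small Ree groups. -/

set_option autoImplicit false
set_option maxRecDepth 100000
set_option linter.style.haveILetI false
set_option linter.unusedSectionVars false

namespace CfsgLib.Chev.Ree

open Cfsg.Lie CfsgLib.Chev Matrix CfsgLib.SL2

universe u

/-- `hn` fixes the coset of `W(1,0,2)n`: `h n W(1,0,2) n = W(1,0,2) n h W(0,0,1)`. -/
theorem hn_check : sameWordMod 3 DataG2.tbl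
    (hmPoly ++ nJPoly ++ [(7, vc 1), (6, vc 1), (8, vc 1), (9, vc 3), (10, vc 0), (11, vc 2)] ++ nJPoly)
    ([(7, vc 1), (6, vc 1), (8, vc 1), (9, vc 3), (10, vc 0), (11, vc 2)] ++ nJPoly ++ hmPoly ++
      [(7, vc 0), (6, vc 0), (8, vc 0), (9, vc 1), (10, vc 0), (11, vc 1)]) = true := by
  decide +kernel

variable {K : Type u} [Field K] [Finite K] [CharP K 3] (m : ℕ)

local notation "θ" => (3 ^ m : ℕ)
local notation "G¹" => twistedG2 K (3 ^ m)

variable (hK : Nat.card K = 3 ^ (2 * m + 1))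

theorem three_eq_zero : (3 : K) = 0 := by exact_mod_cast CharP.cast_eq_zero K 3

theorem wU_hmPoly (a b : K) : SG.wU (wordVal a b hmPoly) = hm K := by
  simp [hmPoly, Sys.wU, wordVal, pev, vc, hm, Sys.hU, ChevalleyDatum.hWord, ChevalleyDatum.nWord, neg8, mul_assoc]

theorem hn_rule : hm K * nJ K * WR m (1 : K) 0 2 * nJ K = WR m 1 0 2 * nJ K * hm K * WR m 0 0 1 := by
  have e := wU_eq_of_sameWordMod (F := K) (p := 3) DataG2.valid 0 0 hn_check
  have h2 : (2 : K) ^ θ = 2 := by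
    rw [show (2 : K) = -1 by linear_combination three_eq_zero (K := K), neg_one_pow_theta]
  have hA : SG.wU (wordVal (0 : K) 0 [(7, vc 1), (6, vc 1), (8, vc 1), (9, vc 3), (10, vc 0), (11, vc 2)]) =
      WR m (1 : K) 0 2 := by
    simp [Sys.wU, wordVal, pev, vc, WR, W, X, h2, zero_pow (theta_ne_zero m), mul_assoc]
    norm_num
  have hB : SG.wU (wordVal (0 : K) 0 [(7, vc 0), (6, vc 0), (8, vc 0), (9, vc 1), (10, vc 0), (11, vc 1)]) =
      WR m (0 : K) 0 1 := by
    simp [Sys.wU, wordVal, pev, vc, WR, W, X, zero_pow (theta_ne_zero m), mul_assoc]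
  simp only [wordVal_append, Sys.wU_append, wU_hmPoly, wU_nJPoly, hA, hB] at e
  exact e

theorem WR_mem_borel (t u v : K) : WR m t u v ∈ chevG2.borelSubgroup K :=
  Subgroup.mem_sup_left (W_mem _ _ _ _ _ _)

include hK in
theorem pos_diag {g : GL chevG2.Idx K} (hg : g ∈ chevG2.posUnipotent K) (hH : g ∈ H1 K m) : g = 1 := by
  refine eq_one_of_conj_borel m hK hg ?_
  have h := nJ_conj_torus m hK hH
  rw [nJ_inv m hK] at h ⊢
  rw [h]
  exact inv_mem (Subgroup.mem_sup_right (Subgroup.mem_inf.1 hH).1)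

variable (K) in
/-- The element `n` in the group. -/
noncomputable def nG : ↥G¹ := ⟨nJ K, nJ_mem m⟩

include hK in
theorem nG_eq_psl : nG K m = psl K m hK (proj wE) := Subtype.ext (coe_psi_w m hK).symm

include hK in
/-- An involution of the Borel subgroup is conjugate to `hm`. -/
theorem borel_involution_conj {y : ↥G¹} (hy : (y : GL chevG2.Idx K) ∈ chevG2.borelSubgroup K)
    (h2 : y * y = 1) (h1 : y ≠ 1) :
    ∃ b : ↥G¹, (b : GL chevG2.Idx K) ∈ chevG2.borelSubgroup K ∧ b * y * b⁻¹ = hmG K m := by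
  obtain ⟨u, hu, h, hh, e⟩ := (show (y : GL chevG2.Idx K) ∈ (gdata K m hK).B1 by
    rw [← borel_inf_eq m hK]; exact Subgroup.mem_inf.2 ⟨hy, y.2⟩)
  have huU : u ∈ chevG2.posUnipotent K := (Subgroup.mem_inf.1 hu).1
  have hu' : u ∈ chevG2.posUnipotent K ⊓ G¹ := by
    rw [pos_inf_eq m hK]; exact hu
  have hsq : u * h * (u * h) = 1 := by rw [← e]; exact congrArg Subtype.val h2
  have hcU : h * u * h⁻¹ ∈ chevG2.posUnipotent K :=
    borel_conj_pos (Subgroup.mem_sup_right (Subgroup.mem_inf.1 hh).1) huU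
  have hh2 : h * h = 1 := by
    refine pos_diag m hK ?_ (mul_mem hh hh)
    rw [show h * h = (u * (h * u * h⁻¹))⁻¹ * (u * h * (u * h)) by group, hsq, mul_one]
    exact inv_mem (mul_mem huU hcU)
  have hcu : u * (h * u * h⁻¹) = 1 := by
    rw [show u * (h * u * h⁻¹) = u * h * (u * h) * (h * h)⁻¹ by group, hsq, hh2]; group
  have hcard : Odd (Nat.card ↥(chevG2.posUnipotent K ⊓ G¹)) := by
    rw [card_pos_inf m hK]; exact Odd.pow (Odd.pow (by decide))
  have hun : ∃ v ∈ chevG2.posUnipotent K ⊓ G¹, v * v = u ∧ ∃ k : ℕ, v = u ^ k := by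
    obtain ⟨k, hk⟩ := hcard
    refine ⟨u ^ (k + 1), pow_mem hu' _, ?_, k + 1, rfl⟩
    have : u ^ Nat.card ↥(chevG2.posUnipotent K ⊓ G¹) = 1 :=
      congrArg Subtype.val (pow_card_eq_one' (x := (⟨u, hu'⟩ : ↥(chevG2.posUnipotent K ⊓ G¹))))
    rw [← pow_add, show k + 1 + (k + 1) = Nat.card ↥(chevG2.posUnipotent K ⊓ G¹) + 1 by omega,
      pow_succ, this, one_mul]
  rcases H1_involution m hK hh hh2 with rfl | rfl
  · exfalso
    rw [mul_one] at e
    obtain ⟨v, -, -, k, -⟩ := hun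
    obtain ⟨j, hj⟩ := hcard
    have h3 : u ^ Nat.card ↥(chevG2.posUnipotent K ⊓ G¹) = 1 :=
      congrArg Subtype.val (pow_card_eq_one' (x := (⟨u, hu'⟩ : ↥(chevG2.posUnipotent K ⊓ G¹))))
    simp only [mul_one, one_mul, inv_one] at hcu
    rw [hj, pow_succ, pow_mul, pow_two, hcu, one_pow, one_mul] at h3
    exact h1 (Subtype.ext (e.trans h3))
  · obtain ⟨v, hv, hvv, k, hvk⟩ := hun
    have hcv : hm K * v * (hm K)⁻¹ = v⁻¹ := by
      rw [hvk, ← conj_pow, eq_inv_of_mul_eq_one_right hcu, inv_pow]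
    suffices h : (⟨v, (Subgroup.mem_inf.1 hv).2⟩ : ↥G¹) * hmG K m * (⟨v, (Subgroup.mem_inf.1 hv).2⟩ : ↥G¹)⁻¹ = y by
      exact ⟨(⟨v, (Subgroup.mem_inf.1 hv).2⟩ : ↥G¹)⁻¹,
        inv_mem (Subgroup.mem_sup_left (Subgroup.mem_inf.1 hv).1), by rw [← h]; group⟩
    refine Subtype.ext ?_
    show v * hm K * v⁻¹ = (y : GL chevG2.Idx K)
    rw [e, ← hvv, show v * hm K * v⁻¹ = v * (hm K * v⁻¹ * (hm K)⁻¹) * hm K by group,
      show hm K * v⁻¹ * (hm K)⁻¹ = (hm K * v * (hm K)⁻¹)⁻¹ by group, hcv, inv_inv, mul_assoc]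

include hK in
/-- An involution of the Borel subgroup is conjugate to `hm`. -/
theorem isConj_of_mem_borel {y : ↥G¹} (hy : (y : GL chevG2.Idx K) ∈ chevG2.borelSubgroup K)
    (h2 : y * y = 1) (h1 : y ≠ 1) : IsConj y (hmG K m) :=
  let ⟨b, _, e⟩ := borel_involution_conj m hK hy h2 h1
  isConj_iff.2 ⟨b, e⟩

include hK in
theorem nG_isConj : IsConj (nG K m) (hmG K m) := by
  set w : GL chevG2.Idx K := WR m (1 : K) 1 2
  set g : ↥G¹ := ⟨WR m (0 : K) 1 1 * nJ K, mul_mem (WR_mem m _ _ _) (nJ_mem m)⟩ with hg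
  set y := g⁻¹ * nG K m * g with hy
  have hyv : (y : GL chevG2.Idx K) = hm K * w := by
    show (WR m (0 : K) 1 1 * nJ K)⁻¹ * nJ K * (WR m (0 : K) 1 1 * nJ K) = hm K * w
    have e := rank_rule (K := K) m
    rw [nJ_inv m hK] at e
    rw [show (WR m (0 : K) 1 1 * nJ K)⁻¹ * nJ K * (WR m (0 : K) 1 1 * nJ K) =
      (nJ K)⁻¹ * (WR m (0 : K) 1 1)⁻¹ * (nJ K * WR m (0 : K) 1 1 * nJ K) by group, ← e, nJ_inv m hK,
      show nJ K * (WR m (0 : K) 1 1)⁻¹ * (WR m (0 : K) 1 1 * hm K * nJ K * w) = nJ K * hm K * nJ K * w by group,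
      nJ_hm m hK, mul_assoc (hm K), nJ_mul_nJ m hK, mul_one]
  have hconj : IsConj (nG K m) y := isConj_iff.2 ⟨g⁻¹, by rw [inv_inv]⟩
  have hn2 : nG K m * nG K m = 1 := Subtype.ext (nJ_mul_nJ m hK)
  have hn1 : nG K m ≠ 1 := fun h => nJ_not_mem_borel m hK (by
    rw [show nJ K = 1 from congrArg Subtype.val h]; exact one_mem _)
  refine hconj.trans (isConj_of_mem_borel m hK (hyv ▸ mul_mem (Subgroup.mem_sup_right hm_mem_diag)
    (WR_mem_borel m _ _ _)) ?_ ?_)
  · rw [hy, show g⁻¹ * nG K m * g * (g⁻¹ * nG K m * g) = g⁻¹ * (nG K m * nG K m) * g by group, hn2]; group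
  · rw [hy]; intro h
    exact hn1 (by rw [show nG K m = g * (g⁻¹ * nG K m * g) * g⁻¹ by group, h]; group)

include hK in
theorem hm_nG_isConj : IsConj (hmG K m * nG K m) (hmG K m) := by
  set g : ↥G¹ := ⟨WR m (1 : K) 0 2 * nJ K, mul_mem (WR_mem m _ _ _) (nJ_mem m)⟩ with hg
  set z := hmG K m * nG K m with hz
  set y := g⁻¹ * z * g with hy
  have hyv : (y : GL chevG2.Idx K) = hm K * WR m (0 : K) 0 1 := by
    show (WR m (1 : K) 0 2 * nJ K)⁻¹ * (hm K * nJ K) * (WR m (1 : K) 0 2 * nJ K) = _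
    rw [show (WR m (1 : K) 0 2 * nJ K)⁻¹ * (hm K * nJ K) * (WR m (1 : K) 0 2 * nJ K) =
      (nJ K)⁻¹ * (WR m (1 : K) 0 2)⁻¹ * (hm K * nJ K * WR m (1 : K) 0 2 * nJ K) by group, hn_rule m]
    group
  have hconj : IsConj z y := isConj_iff.2 ⟨g⁻¹, by rw [inv_inv]⟩
  have hz2 : z * z = 1 := by
    refine Subtype.ext ?_
    show hm K * nJ K * (hm K * nJ K) = 1
    rw [← mul_assoc, mul_assoc (hm K) (nJ K), nJ_hm m hK, ← mul_assoc, hm_mul_hm m hK, one_mul, nJ_mul_nJ m hK]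
  have hz1 : z ≠ 1 := fun h => nJ_not_mem_borel m hK (by
    have h' : hm K * nJ K = 1 := congrArg Subtype.val h
    rw [eq_inv_of_mul_eq_one_right h']
    exact inv_mem (Subgroup.mem_sup_right hm_mem_diag))
  refine hconj.trans (isConj_of_mem_borel m hK (hyv ▸ mul_mem (Subgroup.mem_sup_right hm_mem_diag)
    (WR_mem_borel m _ _ _)) ?_ ?_)
  · rw [hy, show g⁻¹ * z * g * (g⁻¹ * z * g) = g⁻¹ * (z * z) * g by group, hz2]; group
  · rw [hy]; intro h
    exact hz1 (by rw [show z = g * (g⁻¹ * z * g) * g⁻¹ by group, h]; group)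

/-! ### The centraliser of an involution -/

include hK in
theorem q_mod_eight : 3 ^ (2 * m + 1) % 8 = 3 := by
  rw [pow_succ, pow_mul, Nat.mul_mod, Nat.pow_mod]; norm_num

include hK in
theorem card_two_part : ∃ r : ℕ, Odd r ∧ Nat.card ↥G¹ = 8 * r := by
  have h8 := q_mod_eight (K := K) m hK
  have h3 : ((3 ^ (2 * m + 1)) ^ 3) % 8 = 3 := by rw [Nat.pow_mod, h8]
  rw [card_group m hK]
  generalize 3 ^ (2 * m + 1) = q at h8 h3 ⊢
  generalize hc : q ^ 3 = c at h3 ⊢
  obtain ⟨k, hk⟩ : 2 ∣ q - 1 := by omega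
  obtain ⟨l, hl⟩ : 4 ∣ c + 1 := by omega
  refine ⟨c * k * l, (Odd.mul (Nat.odd_iff.2 (by omega)) (Nat.odd_iff.2 (by omega))).mul
    (Nat.odd_iff.2 (by omega)), ?_⟩
  rw [hk, hl]; ring

variable (K) in
/-- The centraliser of the torus involution. -/
abbrev Ch : Subgroup ↥G¹ := Subgroup.centralizer {hmG K m}

theorem mem_Ch {g : ↥G¹} : g ∈ Ch K m ↔ hmG K m * g = g * hmG K m := by
  rw [Subgroup.mem_centralizer_singleton_iff, eq_comm]

variable (K) in
/-- `Z₂ × PSL₂(q)` onto the centraliser. -/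
noncomputable def centralizerHom (hK : Nat.card K = 3 ^ (2 * m + 1)) :
    Multiplicative (ZMod 2) × ProjectiveSpecialLinearGroup (Fin 2) K →* ↥(Ch K m) :=
  MonoidHom.mk' (fun p => ⟨(if p.1 = 1 then 1 else hmG K m) * psl K m hK p.2, mul_mem (by
      split_ifs
      · exact one_mem _
      · exact (mem_Ch m).2 rfl) ((mem_Ch m).2 (hm_comm_psl m hK _))⟩)
    fun p p' => Subtype.ext (by
      have hc := hm_comm_psl m hK p.2
      show (if p.1 * p'.1 = 1 then 1 else hmG K m) * psl K m hK (p.2 * p'.2) =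
        (if p.1 = 1 then 1 else hmG K m) * psl K m hK p.2 * ((if p'.1 = 1 then 1 else hmG K m) * psl K m hK p'.2)
      rw [map_mul, show ∀ a b c d : ↥G¹, a * b * (c * d) = a * (b * c) * d from fun a b c d => by group,
        show psl K m hK p.2 * (if p'.1 = 1 then 1 else hmG K m) =
          (if p'.1 = 1 then 1 else hmG K m) * psl K m hK p.2 by split_ifs <;> simp [hc],
        show ∀ a b c d : ↥G¹, a * (b * c) * d = (a * b) * (c * d) from fun a b c d => by group]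
      congr 1
      have h2 : ∀ i : Multiplicative (ZMod 2), i = 1 ∨ i = Multiplicative.ofAdd 1 := by decide
      have h3 : (Multiplicative.ofAdd (1 : ZMod 2)) ≠ 1 := by decide
      have h4 : Multiplicative.ofAdd (1 : ZMod 2) * Multiplicative.ofAdd 1 = 1 := by decide
      rcases h2 p.1 with e | e <;> rcases h2 p'.1 with e' | e' <;>
        simp [e, e', h3, h4, hmG_mul_self m hK])

theorem centralizerHom_bijective : Function.Bijective (centralizerHom K m hK) := by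
  refine ⟨(injective_iff_map_eq_one _).2 fun p hp => ?_, fun g => ?_⟩
  · have h : (if p.1 = 1 then 1 else hmG K m) * psl K m hK p.2 = 1 := congrArg Subtype.val hp
    split_ifs at h with h1
    · rw [one_mul] at h
      exact Prod.ext h1 (psl_injective m hK (h.trans (map_one _).symm))
    · refine absurd ?_ (psl_ne_hm m hK p.2)
      rw [eq_inv_of_mul_eq_one_right h, inv_eq_of_mul_eq_one_right (hmG_mul_self m hK)]
  · obtain ⟨x, hx | hx⟩ := mem_centralizer_hm m hK ((mem_Ch m).1 g.2)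
    · refine ⟨(1, x), Subtype.ext ?_⟩
      show (if (1 : Multiplicative (ZMod 2)) = 1 then 1 else hmG K m) * psl K m hK x = g
      rw [if_pos rfl, one_mul, hx]
    · refine ⟨(Multiplicative.ofAdd 1, x), Subtype.ext ?_⟩
      show (if Multiplicative.ofAdd (1 : ZMod 2) = 1 then 1 else hmG K m) * psl K m hK x = g
      rw [if_neg (by decide), hx]

variable (K) in
/-- `C(hm) ≅ Z₂ × PSL₂(q)`. -/
noncomputable def centralizerEquiv (hK : Nat.card K = 3 ^ (2 * m + 1)) :
    Multiplicative (ZMod 2) × ProjectiveSpecialLinearGroup (Fin 2) K ≃* ↥(Ch K m) :=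
  MulEquiv.ofBijective _ (centralizerHom_bijective m hK)

include hK in
theorem two_mul_card_PSL : 2 * Nat.card (ProjectiveSpecialLinearGroup (Fin 2) K) =
    3 ^ (2 * m + 1) * ((3 ^ (2 * m + 1)) ^ 2 - 1) := by
  haveI := Fintype.ofFinite K
  have h := card_PSL_mul K
  rw [card_center, card_sq_eq_one_odd two_ne_zero', ← Nat.card_eq_fintype_card, hK] at h
  rw [mul_comm, h]

include hK in
theorem card_Ch : Nat.card ↥(Ch K m) = 3 ^ (2 * m + 1) * ((3 ^ (2 * m + 1)) ^ 2 - 1) := by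
  rw [← Nat.card_congr (centralizerEquiv K m hK).toEquiv, Nat.card_prod, ← two_mul_card_PSL m hK]
  simp

include hK in
/-- `PSL₂(q)` has no element of order four. -/
theorem psl_sq_eq_one {x : ProjectiveSpecialLinearGroup (Fin 2) K} {k : ℕ} (hx : x ^ 2 ^ k = 1) :
    x * x = 1 := by
  induction k generalizing x with
  | zero => simp_all
  | succ k ih =>
    have h4 : (x * x) * (x * x) = 1 := ih (by rwa [← pow_two, ← pow_mul, ← pow_succ'])
    obtain ⟨g, rfl⟩ := proj_surjective x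
    rw [← map_mul, ← map_mul, proj_eq_one_iff] at h4
    rw [← map_mul, proj_eq_one_iff]
    rcases h4 with h | h
    · exact (CfsgLib.SL2.mem_center_iff _).1 ((isCentral_sq two_ne_zero').1 h)
    · exfalso
      have h0 := tr_eq_zero_of_sq h
      rw [tr, mul00, mul11] at h0
      have hd := det_eq g
      refine not_isSquare_neg_one m hK ⟨g.1 0 0 + g.1 1 1, ?_⟩
      linear_combination -h0 - 2 * hd - three_eq_zero (K := K)

include hK in
theorem sq_eq_one_of_mem_Ch {g : ↥G¹} (hg : g ∈ Ch K m) {k : ℕ} (h : g ^ 2 ^ k = 1) : g * g = 1 := by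
  obtain ⟨p, hp⟩ := (centralizerEquiv K m hK).surjective ⟨g, hg⟩
  have hpk : p ^ 2 ^ k = 1 := (centralizerEquiv K m hK).injective
    (by rw [map_pow, map_one, hp]; exact Subtype.ext h)
  have h1 : p.1 * p.1 = 1 := by
    have h2 : ∀ i : Multiplicative (ZMod 2), i * i = 1 := by decide
    exact h2 _
  have := congrArg (centralizerEquiv K m hK)
    (show p * p = 1 from Prod.ext h1 (psl_sq_eq_one m hK (congrArg Prod.snd hpk)))
  rw [map_mul, map_one, hp] at this
  exact congrArg Subtype.val this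

include hK in
/-- Every Sylow 2-subgroup is conjugate to one centralising `hm`. -/
theorem sylow_conj (S : Sylow 2 ↥G¹) : Nat.card S = 8 ∧
    ∃ c : ↥G¹, ∀ x ∈ S, c * x * c⁻¹ ∈ Ch K m := by
  haveI : Fact (Nat.Prime 2) := ⟨Nat.prime_two⟩
  obtain ⟨r, hr, hG⟩ := card_two_part (K := K) m hK
  have h2r : ¬ 2 ∣ r := fun h => Nat.not_even_iff_odd.2 hr (even_iff_two_dvd.2 h)
  have hf : (Nat.card ↥G¹).factorization 2 = 3 := by
    rw [hG, Nat.factorization_mul (by norm_num) (fun h => h2r (by rw [h]; exact dvd_zero 2)),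
      show (8 : ℕ) = 2 ^ 3 by norm_num, Nat.factorization_pow]
    simp [Nat.prime_two.factorization_self, Nat.factorization_eq_zero_of_not_dvd h2r]
  have hS : Nat.card S = 8 := by rw [Sylow.card_eq_multiplicity, hf]; norm_num
  refine ⟨hS, ?_⟩
  have hd : 2 ^ 3 ∣ Nat.card ↥(Ch K m) := by
    rw [card_Ch m hK]
    refine Dvd.dvd.mul_left ?_ _
    have h8 := q_mod_eight (K := K) m hK
    generalize 3 ^ (2 * m + 1) = q at h8 ⊢
    have h9 : q ^ 2 % 8 = 1 := by rw [Nat.pow_mod, h8]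
    omega
  obtain ⟨Q, hQ⟩ := Sylow.exists_subgroup_card_pow_prime 2 hd
  let P : Sylow 2 ↥G¹ := Sylow.ofCard (Q.map (Ch K m).subtype) (by
    rw [Nat.card_congr (Q.equivMapOfInjective _ Subtype.val_injective).symm.toEquiv, hQ, hf])
  obtain ⟨c, hc⟩ := MulAction.exists_smul_eq ↥G¹ S P
  refine ⟨c, fun x hx => ?_⟩
  have h : c * x * c⁻¹ ∈ (P : Subgroup ↥G¹) := by
    rw [← hc, Sylow.coe_subgroup_smul, Subgroup.mem_pointwise_smul_iff_inv_smul_mem]
    rw [← map_inv, MulAut.smul_def, MulAut.conj_apply, inv_inv]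
    rw [show c⁻¹ * (c * x * c⁻¹) * c = x by group]
    exact hx
  obtain ⟨y, -, hy⟩ := Subgroup.mem_map.1 (show c * x * c⁻¹ ∈ Q.map (Ch K m).subtype from h)
  exact hy ▸ y.2

include hK in
theorem sylow_sq (S : Sylow 2 ↥G¹) {x : ↥G¹} (hx : x ∈ S) : x * x = 1 := by
  haveI : Fact (Nat.Prime 2) := ⟨Nat.prime_two⟩
  obtain ⟨-, c, hc⟩ := sylow_conj m hK S
  obtain ⟨k, hk⟩ := S.isPGroup' ⟨x, hx⟩
  have hk' : x ^ 2 ^ k = 1 := congrArg Subtype.val hk
  have h := sq_eq_one_of_mem_Ch m hK (hc x hx) (k := k) (by rw [conj_pow, hk', mul_one, mul_inv_cancel])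
  rw [show c * x * c⁻¹ * (c * x * c⁻¹) = c * (x * x) * c⁻¹ by group, conj_eq_one_iff] at h
  exact h

include hK in
/-- All involutions are conjugate. -/
theorem isConj_hm {y : ↥G¹} (h2 : y * y = 1) (h1 : y ≠ 1) : IsConj y (hmG K m) := by
  haveI : Fact (Nat.Prime 2) := ⟨Nat.prime_two⟩
  have hy : IsPGroup 2 ↥(Subgroup.zpowers y) := by
    refine IsPGroup.of_card (n := 1) ?_
    rw [Nat.card_zpowers, pow_one, orderOf_eq_prime (by rw [pow_two, h2]) h1]
  obtain ⟨S, hS⟩ := hy.exists_le_sylow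
  obtain ⟨-, c, hc⟩ := sylow_conj m hK S
  set z := c * y * c⁻¹
  have hz : IsConj y z := isConj_iff.2 ⟨c, rfl⟩
  refine hz.trans ?_
  have hz2 : z * z = 1 := by
    rw [show z * z = c * (y * y) * c⁻¹ by simp only [z]; group, h2, mul_one, mul_inv_cancel]
  have hz1 : z ≠ 1 := fun h => h1 (conj_eq_one_iff.1 h)
  have hconj : ∀ x : ProjectiveSpecialLinearGroup (Fin 2) K, x * x = 1 → x ≠ 1 →
      ∃ d : ↥G¹, d * psl K m hK x * d⁻¹ = nG K m ∧ d * hmG K m * d⁻¹ = hmG K m := by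
    intro x hx2 hx1
    obtain ⟨g, rfl⟩ := proj_surjective x
    have ho : orderOf (proj g) = 2 := orderOf_eq_prime (by rw [pow_two, hx2]) hx1
    have ht := (orderOf_proj_eq_two_iff two_ne_zero').1 ho
    obtain ⟨a, ha⟩ := isConj_iff.1 (isConj_of_tr_eq' (h := (wE : SpecialLinearGroup (Fin 2) K))
      (tr_zero_sq_ne_four two_ne_zero' ht) (by rw [ht]; simp [tr, wE]))
    refine ⟨psl K m hK (proj a), ?_, ?_⟩
    · rw [nG_eq_psl m hK, ← ha, map_mul, map_mul, map_inv, map_mul, map_mul, map_inv]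
    · rw [← hm_comm_psl m hK, mul_inv_cancel_right]
  have hsq : ∀ x, z = psl K m hK x ∨ z = hmG K m * psl K m hK x → x * x = 1 := by
    rintro x (e | e) <;> refine psl_injective m hK ?_ <;> rw [map_mul, map_one, ← hz2, e]
    rw [show ∀ a b : ↥G¹, a * b * (a * b) = a * (b * a) * b from fun a b => by group, ← hm_comm_psl m hK,
      ← mul_assoc, hmG_mul_self m hK, one_mul]
  obtain ⟨x, hx⟩ := mem_centralizer_hm m hK ((mem_Ch m).1 (hc y (hS (Subgroup.mem_zpowers y))))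
  change z = _ ∨ z = _ at hx
  rcases eq_or_ne x 1 with rfl | hx1
  · rw [map_one, mul_one] at hx
    rw [hx.resolve_left hz1]
  · obtain ⟨d, hd, hdh⟩ := hconj x (hsq x hx) hx1
    rcases hx with e | e <;> rw [e]
    · exact (isConj_iff.2 ⟨d, hd⟩).trans (nG_isConj m hK)
    · refine (isConj_iff.2 ⟨d, ?_⟩).trans (hm_nG_isConj m hK)
      rw [show d * (hmG K m * psl K m hK x) * d⁻¹ = (d * hmG K m * d⁻¹) * (d * psl K m hK x * d⁻¹) by group,
        hd, hdh]

end CfsgLib.Chev.Ree
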