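import Cfsg.Agent.Chev.Ree.HallApps
import Cfsg.Agent.SL2.PSLData

/-! The orders of the elements of a small Ree group. -/

set_option autoImplicit false
set_option maxRecDepth 100000
set_option linter.style.haveILetI false
set_option linter.unusedSectionVars false

namespace CfsgLib.Chev.Ree

open Cfsg.Lie CfsgLib.Chev Matrix CfsgLib.SL2

universe u

variable {K : Type u} [Field K] [Finite K] [CharP K 3] (m : ℕ)

local notation "G¹" => twistedG2 K (3 ^ m)
local notation "k₁" => ((3 ^ (2 * m + 1) - 1) / 2)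
local notation "k₂" => ((3 ^ (2 * m + 1) + 1) / 4)
local notation "qq" => (3 ^ (2 * m + 1) : ℕ)

variable (hK : Nat.card K = 3 ^ (2 * m + 1))

include hK in
theorem psl_odd_orders {z : ProjectiveSpecialLinearGroup (Fin 2) K} (hz : Odd (orderOf z)) :
    orderOf z ∣ 3 ∨ orderOf z ∣ k₁ ∨ orderOf z ∣ k₂ := by
  obtain ⟨g, rfl⟩ := proj_surjective z
  rcases SL2.type_cases (g := g) with h | ⟨ht, r, hr⟩ | ⟨-, he⟩
  · exact Or.inl (orderOf_dvd_of_pow_eq_one (proj_pow_char 3 h))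
  · refine Or.inr (Or.inl ((Nat.coprime_two_right.2 hz).dvd_of_dvd_mul_left ?_))
    rw [(k1_facts (K := K) m hK).1, ← hK]
    exact orderOf_dvd_of_pow_eq_one (by rw [← map_pow, pow_split ht hr, map_one])
  · refine Or.inr (Or.inr (((Nat.coprime_two_right.2 hz).pow_right 2).dvd_of_dvd_mul_left ?_))
    show orderOf (proj g) ∣ 2 ^ 2 * k₂
    rw [show (2 : ℕ) ^ 2 = 4 by norm_num, (k2_facts (K := K) m hK).1, ← hK]
    refine orderOf_dvd_of_pow_eq_one ?_
    rw [← map_pow, ← card_centralizer_elliptic he,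
      show g ^ Nat.card ↥(Subgroup.centralizer {g}) = 1 from congrArg Subtype.val (pow_card_eq_one'
        (x := (⟨g, Subgroup.mem_centralizer_singleton_iff.2 rfl⟩ : ↥(Subgroup.centralizer {g})))), map_one]

include hK in
theorem hm_psl_order {z : ProjectiveSpecialLinearGroup (Fin 2) K} (hz : Odd (orderOf z)) :
    orderOf (hmG K m * psl K m hK z) = 2 * orderOf z := by
  rw [(show Commute (hmG K m) (psl K m hK z) from hm_comm_psl m hK z).orderOf_mul_eq_mul_orderOf_of_coprime (by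
    rw [orderOf_hmG m hK, orderOf_injective (psl K m hK) (psl_injective m hK)]
    exact Nat.coprime_two_left.2 hz), orderOf_hmG m hK, orderOf_injective (psl K m hK) (psl_injective m hK)]

include hK in
theorem WR_pow_nine (t u v : K) : WR m t u v ^ 9 = 1 := by
  obtain ⟨u₁, v₁, e₁⟩ := coord_mul m hK t u v t u v
  obtain ⟨u₂, v₂, e₂⟩ := coord_mul m hK (t + t) u₁ v₁ t u v
  have h3 : WR m t u v ^ 3 = WR m (t + t + t) u₂ v₂ := by rw [pow_succ, pow_two, e₁, e₂]
  rw [show (9 : ℕ) = 3 * 3 from rfl, pow_mul, h3, cube_eq_one_iff m hK]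
  linear_combination t * (by exact_mod_cast CharP.cast_eq_zero K 3 : (3 : K) = 0)

include hK in
theorem pow_nine_of_three_element {y : ↥G¹} (hy : y ^ qq ^ 3 = 1) : y ^ 9 = 1 := by
  haveI : Fact (Nat.Prime 3) := ⟨Nat.prime_three⟩
  set U := (chevG2.posUnipotent K ⊓ G¹).subgroupOf G¹ with hUdef
  have hU : Nat.card ↥U = qq ^ 3 := by
    rw [hUdef, Nat.card_congr (Subgroup.subgroupOfEquivOfLe inf_le_right).toEquiv, card_pos_inf m hK]
  have hr : ¬ 3 ∣ (qq - 1) * (qq ^ 3 + 1) := fun h => by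
    have hq : 1 ≤ qq := Nat.one_le_pow _ _ (by norm_num)
    have hd : (3 : ℕ) ∣ qq := dvd_pow_self 3 (by omega)
    rcases Nat.prime_three.dvd_mul.1 h with h | h
    · omega
    · have := dvd_pow hd (show 3 ≠ 0 by norm_num); omega
  obtain ⟨g, hg⟩ := GL0.conj_into U (p := 3) (n := (2 * m + 1) * 3) (r := (qq - 1) * (qq ^ 3 + 1))
    (by rw [card_group m hK, hU, mul_assoc]) hr (x := y) (by rwa [pow_mul])
  obtain ⟨t, u, v, e⟩ := (mem_pos_inf m hK).1 (Subgroup.mem_subgroupOf.1 hg)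
  refine conj_eq_one_iff.1 (conj_pow.symm.trans (Subtype.ext ?_) : g * y ^ 9 * g⁻¹ = 1)
  rw [SubmonoidClass.coe_pow, e, WR_pow_nine m hK, OneMemClass.coe_one]

include hK in
/-- The element orders. -/
theorem element_orders (hm : 1 ≤ m) (d : ℕ) :
    (∃ g : ↥G¹, orderOf g = d) ↔
      (d ∣ 6 ∨ d ∣ 9 ∨ d ∣ qq - 1 ∨ d ∣ (qq + 1) / 2 ∨
        d ∣ qq - 3 ^ (m + 1) + 1 ∨ d ∣ qq + 3 ^ (m + 1) + 1) := by
  obtain ⟨x₁, x₂, hx₁, hx₂, hc₁, hc₂, -, -, -, hall⟩ := exists_tori (K := K) m hK hm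
  obtain ⟨hk1, hk1o⟩ := k1_facts (K := K) m hK
  obtain ⟨hk2, hk2o, -⟩ := k2_facts (K := K) m hK
  have hhalf : (qq + 1) / 2 = 2 * k₂ := by omega
  constructor
  · rintro ⟨g, rfl⟩
    rcases eq_or_ne g 1 with rfl | hg
    · exact Or.inl (by simp)
    rcases type_cases m hK hm hg with h | h | h | h | h
    · have hmem : g ∈ GL0.conjSet {y : ↥G¹ | ∃ z, Odd (orderOf z) ∧ y = hmG K m * psl K m hK z} := by
        rw [conjSet_W4 m hK]; exact h
      obtain ⟨a, z, hz, e⟩ := hmem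
      rw [← MulEquiv.orderOf_eq (MulAut.conj a) g, MulAut.conj_apply, e, hm_psl_order m hK hz]
      rcases psl_odd_orders m hK hz with h' | h' | h'
      · exact Or.inl (Nat.mul_dvd_mul_left 2 h')
      · exact Or.inr (Or.inr (Or.inl (hk1 ▸ Nat.mul_dvd_mul_left 2 h')))
      · exact Or.inr (Or.inr (Or.inr (Or.inl (hhalf ▸ Nat.mul_dvd_mul_left 2 h'))))
    · exact Or.inr (Or.inl (orderOf_dvd_of_pow_eq_one (pow_nine_of_three_element m hK h)))
    · exact Or.inr (Or.inr (Or.inl ((orderOf_dvd_of_pow_eq_one h).trans (Dvd.intro_left _ hk1))))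
    · exact Or.inr (Or.inr (Or.inr (Or.inl ((orderOf_dvd_of_pow_eq_one h).trans (Dvd.intro_left _ hhalf.symm)))))
    · refine Or.inr (Or.inr (Or.inr (Or.inr ?_)))
      rcases hall g hg h with ⟨a, ha⟩ | ⟨a, ha⟩
      · refine Or.inl (hc₁ ▸ ?_)
        rw [← MulEquiv.orderOf_eq (MulAut.conj a) g, MulAut.conj_apply, ← Subgroup.orderOf_mk _ ha]
        exact orderOf_dvd_natCard _
      · refine Or.inr (hc₂ ▸ ?_)
        rw [← MulEquiv.orderOf_eq (MulAut.conj a) g, MulAut.conj_apply, ← Subgroup.orderOf_mk _ ha]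
        exact orderOf_dvd_natCard _
  · have hcyc : ∀ (A : Subgroup ↥G¹) [IsCyclic ↥A], d ∣ Nat.card ↥A → ∃ g : ↥G¹, orderOf g = d := by
      intro A _ hd
      obtain ⟨a, ha⟩ := IsCyclic.exists_generator (α := ↥A)
      refine GL0.exists_orderOf_dvd (g := (a : ↥G¹)) ?_
      rwa [Subgroup.orderOf_coe, orderOf_eq_card_of_forall_mem_zpowers ha]
    haveI : Fact (Nat.Prime 3) := ⟨Nat.prime_three⟩
    rintro (h | h | h | h | h | h)
    · refine GL0.exists_orderOf_dvd (g := hmG K m * psl K m hK (proj (upperU (1 : K)))) ?_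
      rw [hm_psl_order m hK (by rw [orderOf_proj_upperU_one 3]; decide), orderOf_proj_upperU_one 3]
      exact h
    · refine GL0.exists_orderOf_dvd (g := (⟨WR m (1 : K) 0 0, WR_mem m 1 0 0⟩ : ↥G¹)) ?_
      rw [show orderOf (⟨WR m (1 : K) 0 0, WR_mem m 1 0 0⟩ : ↥G¹) = 3 ^ (1 + 1) from
        (Subgroup.orderOf_mk _ _).trans (orderOf_eq_prime_pow (n := 1)
          (by rw [pow_one, cube_eq_one_iff m hK]; exact one_ne_zero) (WR_pow_nine m hK 1 0 0))]
      exact h
    · haveI := isCyclic_TG (K := K) m hK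
      exact hcyc (TG K m) (card_TG (K := K) m hK ▸ h)
    · obtain ⟨c, hc, -⟩ := exists_c m hK (x := wP K) wP_mul_self wP_ne_one
      have ho : orderOf (c ^ 2) = k₂ := by
        rw [orderOf_pow' _ (by norm_num), hc, Nat.gcd_eq_right (dvd_mul_right 2 _),
          Nat.mul_div_cancel_left _ (by norm_num)]
      refine GL0.exists_orderOf_dvd (g := hmG K m * psl K m hK (c ^ 2)) ?_
      rw [hm_psl_order m hK (by rw [ho]; exact hk2o), ho, ← hhalf]
      exact h
    · haveI := isCyclic_torus_elt m hK hm hx₁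
      exact hcyc _ (hc₁ ▸ h)
    · haveI := isCyclic_torus_elt m hK hm hx₂
      exact hcyc _ (hc₂ ▸ h)

end CfsgLib.Chev.Ree
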