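import Cfsg.Agent.Chev.Ree.Torus
import Cfsg.Agent.SL2.PSL

/-! The subgroup `⟨h⟩ × PSL₂(q)` centralising the torus involution in a small Ree group. -/

set_option autoImplicit false
set_option maxRecDepth 100000
set_option linter.style.haveILetI false
set_option linter.unusedSectionVars false

namespace CfsgLib.Chev.Ree

open Cfsg.Lie CfsgLib.Chev Matrix CfsgLib.SL2

universe u

variable {K : Type u} [Field K] [Finite K] [CharP K 3] (m : ℕ)

local notation "θ" => (3 ^ m : ℕ)

variable (hK : Nat.card K = 3 ^ (2 * m + 1))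

open scoped Classical in
/-- The image of an element of `SL₂` given by its Bruhat decomposition. -/
noncomputable def psiFun (g : SpecialLinearGroup (Fin 2) K) : GL chevG2.Idx K :=
  if g.1 1 0 = 0 then hG m (g.1 0 0) * xG m (g.1 0 1 / g.1 0 0)
  else xG m (g.1 0 0 / g.1 1 0) * hG m (-(g.1 1 0)⁻¹) * nJ K * xG m (g.1 1 1 / g.1 1 0)

theorem psiFun_zero {g : SpecialLinearGroup (Fin 2) K} (h : g.1 1 0 = 0) :
    psiFun m g = hG m (g.1 0 0) * xG m (g.1 0 1 / g.1 0 0) := if_pos h

theorem psiFun_ne {g : SpecialLinearGroup (Fin 2) K} (h : g.1 1 0 ≠ 0) :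
    psiFun m g = xG m (g.1 0 0 / g.1 1 0) * hG m (-(g.1 1 0)⁻¹) * nJ K * xG m (g.1 1 1 / g.1 1 0) :=
  if_neg h

theorem diag_ne_zero {g : SpecialLinearGroup (Fin 2) K} (h : g.1 1 0 = 0) : g.1 0 0 ≠ 0 ∧ g.1 1 1 ≠ 0 := by
  have hd := det_eq g
  rw [h, mul_zero, sub_zero] at hd
  exact ⟨left_ne_zero_of_mul_eq_one hd, right_ne_zero_of_mul_eq_one hd⟩

/-- The Weyl element of `SL₂`. -/
def wE : SpecialLinearGroup (Fin 2) K := mk2 0 1 (-1) 0 (by ring)

include hK in
theorem psiFun_upper_mul (t : K) (g : SpecialLinearGroup (Fin 2) K) :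
    psiFun m (upperU t * g) = xG m t * psiFun m g := by
  have e10 : (upperU t * g).1 1 0 = g.1 1 0 := by simp [mul10]
  have e00 : (upperU t * g).1 0 0 = g.1 0 0 + t * g.1 1 0 := by simp [mul00]
  have e01 : (upperU t * g).1 0 1 = g.1 0 1 + t * g.1 1 1 := by simp [mul01]
  have e11 : (upperU t * g).1 1 1 = g.1 1 1 := by simp [mul11]
  by_cases hc : g.1 1 0 = 0
  · obtain ⟨ha, hd⟩ := diag_ne_zero hc
    have hdet := det_eq g
    rw [psiFun_zero m (by rw [e10, hc]), psiFun_zero m hc, e00, e01, hc, mul_zero, add_zero]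
    rw [← mul_assoc, ← hG_mul_x m hK ha, mul_assoc, xG_add]
    congr 2
    field_simp
    linear_combination t * hdet + t * g.1 0 1 * hc
  · rw [psiFun_ne m (by rwa [e10]), psiFun_ne m hc, e00, e10, e11]
    simp only [← mul_assoc, xG_add]
    congr 4
    field_simp
    ring
where
  hG_mul_x {s : K} (m : ℕ) (hK : Nat.card K = 3 ^ (2 * m + 1)) (hs : s ≠ 0) {t : K} :
      hG m s * xG m (t / s ^ 2) = xG m t * hG m s := by
    rw [hG_x m hK hs, mul_div_cancel₀ _ (pow_ne_zero 2 hs)]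

include hK in
theorem psiFun_diag_mul (u : Kˣ) (g : SpecialLinearGroup (Fin 2) K) :
    psiFun m (diagT u * g) = hG m (u : K) * psiFun m g := by
  have hu := u.ne_zero
  have e10 : (diagT u * g).1 1 0 = (u : K)⁻¹ * g.1 1 0 := by simp [mul10]
  have e00 : (diagT u * g).1 0 0 = u * g.1 0 0 := by simp [mul00]
  have e01 : (diagT u * g).1 0 1 = u * g.1 0 1 := by simp [mul01]
  have e11 : (diagT u * g).1 1 1 = (u : K)⁻¹ * g.1 1 1 := by simp [mul11]
  by_cases hc : g.1 1 0 = 0
  · obtain ⟨ha, hd⟩ := diag_ne_zero hc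
    rw [psiFun_zero m (by rw [e10, hc, mul_zero]), psiFun_zero m hc, e00, e01, ← mul_assoc,
      hG_mul m hK hu ha, mul_div_mul_left _ _ hu]
  · rw [psiFun_ne m (by rw [e10]; exact mul_ne_zero (inv_ne_zero hu) hc), psiFun_ne m hc, e00, e10, e11,
      mul_div_mul_left _ _ (inv_ne_zero hu)]
    simp only [← mul_assoc]
    rw [hG_x m hK hu, mul_assoc _ (hG m (u : K)), hG_mul m hK hu (neg_ne_zero.2 (inv_ne_zero hc))]
    congr 4
    · field_simp
    · field_simp

include hK in
theorem psiFun_w_mul (g : SpecialLinearGroup (Fin 2) K) :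
    psiFun m (wE * g) = nJ K * psiFun m g := by
  have e10 : (wE * g).1 1 0 = -g.1 0 0 := by simp [wE, mul10]
  have e00 : (wE * g).1 0 0 = g.1 1 0 := by simp [wE, mul00]
  have e01 : (wE * g).1 0 1 = g.1 1 1 := by simp [wE, mul01]
  have e11 : (wE * g).1 1 1 = -g.1 0 1 := by simp [wE, mul11]
  by_cases hc : g.1 1 0 = 0
  · obtain ⟨ha, hd⟩ := diag_ne_zero hc
    rw [psiFun_ne m (by rw [e10]; exact neg_ne_zero.2 ha), psiFun_zero m hc, e00, e10, e11, hc, zero_div,
      xG_zero, one_mul, inv_neg, neg_neg, ← mul_assoc, nJ_hG m hK ha, neg_div_neg_eq]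
  · by_cases ha : g.1 0 0 = 0
    · rw [psiFun_zero m (by rw [e10, ha, neg_zero]), psiFun_ne m hc, e00, e01, ha, zero_div, xG_zero,
        one_mul, ← mul_assoc, ← mul_assoc, nJ_hG m hK (neg_ne_zero.2 (inv_ne_zero hc)), mul_assoc _ (nJ K) (nJ K),
        nJ_mul_nJ m hK, mul_one, inv_neg, inv_inv, hG_neg m hK hc]
    · have hdet := det_eq g
      rw [psiFun_ne m (by rw [e10]; exact neg_ne_zero.2 ha), psiFun_ne m hc, e00, e10, e11]
      have hs := neg_ne_zero.2 (inv_ne_zero hc)
      have hσ : hG m (-(g.1 1 0)⁻¹) * nJ K = nJ K * hG m (g.1 1 0) := by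
        rw [nJ_hG m hK hc, hG_neg m hK (inv_ne_zero hc)]
      rw [show ∀ a b c d : GL chevG2.Idx K, nJ K * (a * b * c * d) = nJ K * a * (b * c) * d from
        fun a b c d => by group, hσ, ← mul_assoc (nJ K * _) (nJ K),
        nJ_x_nJ m hK (div_ne_zero ha hc)]
      rw [show ∀ x y z w v t : GL chevG2.Idx K, x * y * z * w * v * t = x * y * z * (w * v) * t from
        fun x y z w v t => by group, show ∀ w : K, xG m w * hG m (g.1 1 0) =
          hG m (g.1 1 0) * xG m (w / g.1 1 0 ^ 2) from fun w => by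
        rw [hG_x m hK hc, mul_div_cancel₀ _ (pow_ne_zero 2 hc)],
        show ∀ x y z w v t : GL chevG2.Idx K, x * y * z * (w * v) * t = x * y * (z * w) * (v * t) from
        fun x y z w v t => by group, nJ_hG m hK hc, xG_add,
        show ∀ x y z w v : GL chevG2.Idx K, x * y * (z * w) * v = x * (y * z) * w * v from
        fun x y z w v => by group, hG_mul m hK (inv_ne_zero (div_ne_zero ha hc)) (inv_ne_zero hc)]
      have hinv : -(-g.1 0 0)⁻¹ = (g.1 0 0 / g.1 1 0)⁻¹ * (g.1 1 0)⁻¹ := by field_simp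
      rw [hinv]
      congr 4
      · field_simp
      · field_simp
        linear_combination -hdet

include hK in
theorem psiFun_one : psiFun m (1 : SpecialLinearGroup (Fin 2) K) = 1 := by
  rw [psiFun_zero m (by simp)]
  simp [hG_one m hK, xG_zero]

include hK in
theorem psiFun_mul (g h : SpecialLinearGroup (Fin 2) K) : psiFun m (g * h) = psiFun m g * psiFun m h := by
  by_cases hc : g.1 1 0 = 0
  · obtain ⟨ha, hd⟩ := diag_ne_zero hc
    have hdet := det_eq g
    have e : g = diagT (Units.mk0 _ ha) * upperU (g.1 0 1 / g.1 0 0) := by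
      apply ext2 <;> simp [mul00, mul01, mul10, mul11]
      · field_simp
      · exact hc
      · field_simp; linear_combination hdet + g.1 0 1 * hc
    conv_lhs => rw [e, mul_assoc, psiFun_diag_mul m hK, psiFun_upper_mul m hK]
    rw [psiFun_zero m hc, mul_assoc, Units.val_mk0]
  · have hdet := det_eq g
    have e : g = upperU (g.1 0 0 / g.1 1 0) * diagT (Units.mk0 _ (neg_ne_zero.2 (inv_ne_zero hc))) * wE *
        upperU (g.1 1 1 / g.1 1 0) := by
      apply ext2 <;> simp [wE, mul00, mul01, mul10, mul11] <;> field_simp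
      linear_combination -hdet
    conv_lhs => rw [e, mul_assoc, mul_assoc, mul_assoc, psiFun_upper_mul m hK, psiFun_diag_mul m hK,
      psiFun_w_mul m hK, psiFun_upper_mul m hK]
    rw [psiFun_ne m hc, Units.val_mk0]
    simp only [mul_assoc]

theorem xG_mem (t : K) : xG m t ∈ twistedG2 K θ := WR_mem m 0 t 0

include hK in
theorem psiFun_mem (g : SpecialLinearGroup (Fin 2) K) : psiFun m g ∈ twistedG2 K θ := by
  by_cases hc : g.1 1 0 = 0
  · rw [psiFun_zero m hc]
    exact mul_mem (hG_mem m (diag_ne_zero hc).1) (xG_mem m _)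
  · rw [psiFun_ne m hc]
    exact mul_mem (mul_mem (mul_mem (xG_mem m _) (hG_mem m (neg_ne_zero.2 (inv_ne_zero hc)))) (nJ_mem m)) (xG_mem m _)

variable (K) in
/-- `SL₂(q)` maps to the small Ree group. -/
noncomputable def psi (hK : Nat.card K = 3 ^ (2 * m + 1)) :
    SpecialLinearGroup (Fin 2) K →* ↥(twistedG2 K θ) :=
  MonoidHom.mk' (fun g => ⟨psiFun m g, psiFun_mem m hK g⟩) fun g h => Subtype.ext (psiFun_mul m hK g h)

theorem coe_psi (g : SpecialLinearGroup (Fin 2) K) : (psi K m hK g : GL chevG2.Idx K) = psiFun m g := rfl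

theorem coe_psi_upper (t : K) : (psi K m hK (upperU t) : GL chevG2.Idx K) = xG m t := by
  rw [coe_psi, psiFun_zero m (by simp)]
  simp [hG_one m hK]

theorem coe_psi_diag (u : Kˣ) : (psi K m hK (diagT u) : GL chevG2.Idx K) = hG m (u : K) := by
  rw [coe_psi, psiFun_zero m (by simp)]
  simp [xG_zero]

theorem coe_psi_w : (psi K m hK wE : GL chevG2.Idx K) = nJ K := by
  rw [coe_psi, psiFun_ne m (by simp [wE])]
  simp [wE, xG_zero, hG_one m hK]

include hK in
theorem nJ_not_mem_borel : nJ K ∉ chevG2.borelSubgroup K := by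
  intro h
  have hx : WR m (0 : K) 1 0 ∈ chevG2.posUnipotent K := W_mem _ _ _ _ _ _
  have := eq_one_of_conj_borel m hK hx (mul_mem (mul_mem (inv_mem h) (Subgroup.mem_sup_left hx)) h)
  exact one_ne_zero (WR_inj m (this.trans (WR_zero m).symm)).2.1

theorem xG_mem_borel (t : K) : xG m t ∈ chevG2.borelSubgroup K := Subgroup.mem_sup_left (W_mem _ _ _ _ _ _)

include hK in
theorem hG_mem_borel {s : K} (hs : s ≠ 0) : hG m s ∈ chevG2.borelSubgroup K :=
  Subgroup.mem_sup_right (Subgroup.mem_inf.1 (hG_mem_H1 m hK hs)).1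

theorem psi_not_borel {g : SpecialLinearGroup (Fin 2) K} (hc : g.1 1 0 ≠ 0) :
    (psi K m hK g : GL chevG2.Idx K) ∉ chevG2.borelSubgroup K := by
  intro h
  rw [coe_psi, psiFun_ne m hc] at h
  refine nJ_not_mem_borel m hK ?_
  have h1 := mul_mem (xG_mem_borel m (g.1 0 0 / g.1 1 0)) (hG_mem_borel m hK (neg_ne_zero.2 (inv_ne_zero hc)))
  have h2 := mul_mem (mul_mem (inv_mem h1) h) (inv_mem (xG_mem_borel m (g.1 1 1 / g.1 1 0)))
  rwa [_root_.mul_inv_rev, show ∀ a b c d : GL chevG2.Idx K, b⁻¹ * a⁻¹ * (a * b * c * d) * d⁻¹ = c from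
    fun a b c d => by group] at h2

theorem psi_eq_one_iff {g : SpecialLinearGroup (Fin 2) K} : psi K m hK g = 1 ↔ g = 1 ∨ g = -1 := by
  constructor
  · intro h
    have h' : (psi K m hK g : GL chevG2.Idx K) = 1 := by rw [h]; rfl
    have hc : g.1 1 0 = 0 := by
      by_contra hc
      exact psi_not_borel m hK hc (h' ▸ one_mem _)
    obtain ⟨ha, hd⟩ := diag_ne_zero hc
    rw [coe_psi, psiFun_zero m hc] at h'
    set r := g.1 0 1 / g.1 0 0 with hr
    have hH : hG m (g.1 0 0) = xG m (-r) := by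
      rw [eq_mul_inv_of_mul_eq h', one_mul]
      refine inv_eq_of_mul_eq_one_right ?_
      rw [xG_add, add_neg_cancel, xG_zero]
    have h1 : hG m (g.1 0 0) = 1 := by
      have h2 := eq_one_of_conj_borel m hK (x := xG m (-r)) (W_mem _ _ _ _ _ _) (by
        rw [← hH, nJ_inv m hK]
        have := nJ_conj_torus m hK (hG_mem_H1 m hK ha)
        rw [nJ_inv m hK] at this
        rw [this]
        exact inv_mem (hG_mem_borel m hK ha))
      rw [hH, h2]
    rw [h1] at hH
    have hr0 : g.1 0 1 = 0 := by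
      have := (WR_inj m ((hH.symm.trans (WR_zero m).symm) : WR m 0 (-r) 0 = WR m 0 0 0)).2.1
      simpa [hr, ha] using this
    have h2 := hG_conj_x m hK ha (1 : K)
    rw [h1, one_mul, inv_one, mul_one, mul_one] at h2
    have h3 := (WR_inj m h2).2.1
    have hdet := det_eq g
    rw [hc, mul_zero, sub_zero] at hdet
    have hd' : g.1 1 1 = g.1 0 0 := by linear_combination g.1 0 0 * hdet + g.1 1 1 * h3
    exact eq_one_or_neg_one_of_scalar g hr0 hc hd'.symm
  · rintro (rfl | rfl)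
    · exact map_one _
    · refine Subtype.ext ?_
      rw [coe_psi, psiFun_zero m (by simp)]
      simp [hG_neg_one m hK, xG_zero]

theorem ker_psi : (psi K m hK).ker = Subgroup.center (SpecialLinearGroup (Fin 2) K) := by
  ext g
  rw [MonoidHom.mem_ker, psi_eq_one_iff, CfsgLib.SL2.mem_center_iff]

variable (K) in
/-- `PSL₂(q)` inside the small Ree group. -/
noncomputable def psl (hK : Nat.card K = 3 ^ (2 * m + 1)) :
    ProjectiveSpecialLinearGroup (Fin 2) K →* ↥(twistedG2 K θ) :=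
  QuotientGroup.lift _ (psi K m hK) (ker_psi m hK).ge

theorem psl_proj (g : SpecialLinearGroup (Fin 2) K) : psl K m hK (proj g) = psi K m hK g := rfl

theorem psl_injective : Function.Injective (psl K m hK) := by
  rw [injective_iff_map_eq_one]
  intro x hx
  obtain ⟨g, rfl⟩ := proj_surjective x
  rw [psl_proj, psi_eq_one_iff] at hx
  exact proj_eq_one_iff.2 hx

variable (K) in
/-- The torus involution in the group. -/
noncomputable def hmG : ↥(twistedG2 K θ) := ⟨hm K, hm_mem m⟩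

theorem coe_hmG : (hmG K m : GL chevG2.Idx K) = hm K := rfl

include hK in
theorem hmG_mul_self : hmG K m * hmG K m = 1 := Subtype.ext (hm_mul_hm m hK)

include hK in
theorem hmG_ne_one : hmG K m ≠ 1 := fun h => hm_ne_one m hK (congrArg Subtype.val h)

include hK in
theorem orderOf_hmG : orderOf (hmG K m) = 2 :=
  orderOf_eq_prime (by rw [pow_two, hmG_mul_self m hK]) (hmG_ne_one m hK)

include hK in
theorem hm_conj_WR (t u v : K) : hm K * WR m t u v * (hm K)⁻¹ = WR m (-t) u (-v) := by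
  obtain ⟨z, hz, hz0⟩ := hm_coord (K := K)
  have hzH : SG.dg z ∈ H1 K m := hz ▸ hm_mem_H1 m hK
  have hz1 : (z 1 : K) = -1 := by rw [coord_eq m hK hzH, hz0, neg_one_pow_theta3]
  rw [hz, torus_conj_WR m hK hzH, chi6, chi10, chi11]
  simp only [Units.val_mul, Units.val_pow_eq_pow_val, hz0, hz1]
  norm_num

include hK in
theorem hm_comm_x (t : K) : hm K * xG m t = xG m t * hm K := by
  have := hm_conj_WR m hK 0 t 0
  rw [neg_zero, mul_inv_eq_iff_eq_mul] at this
  exact this

theorem hm_comm_psi (g : SpecialLinearGroup (Fin 2) K) :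
    hmG K m * psi K m hK g = psi K m hK g * hmG K m := by
  refine Subtype.ext ?_
  show hm K * psiFun m g = psiFun m g * hm K
  by_cases hc : g.1 1 0 = 0
  · rw [psiFun_zero m hc]
    exact (Commute.mul_right (H1_comm m hK (hm_mem_H1 m hK) (hG_mem_H1 m hK (diag_ne_zero hc).1))
      (hm_comm_x m hK _)).eq
  · rw [psiFun_ne m hc]
    exact (((Commute.mul_right (hm_comm_x m hK _)
      (H1_comm m hK (hm_mem_H1 m hK) (hG_mem_H1 m hK (neg_ne_zero.2 (inv_ne_zero hc))))).mul_right
      ((nJ_hm m hK).symm)).mul_right (hm_comm_x m hK _)).eq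

theorem hm_comm_psl (x : ProjectiveSpecialLinearGroup (Fin 2) K) :
    hmG K m * psl K m hK x = psl K m hK x * hmG K m := by
  obtain ⟨g, rfl⟩ := proj_surjective x
  exact hm_comm_psi m hK g

theorem psl_ne_hm (x : ProjectiveSpecialLinearGroup (Fin 2) K) : psl K m hK x ≠ hmG K m := by
  obtain ⟨g, rfl⟩ := proj_surjective x
  rw [psl_proj]
  intro h
  have h' : (psi K m hK g : GL chevG2.Idx K) = hm K := by rw [h]; rfl
  have hc : g.1 1 0 = 0 := by
    by_contra hc
    exact psi_not_borel m hK hc (h' ▸ Subgroup.mem_sup_right hm_mem_diag)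
  obtain ⟨ha, -⟩ := diag_ne_zero hc
  rw [coe_psi, psiFun_zero m hc] at h'
  set r := g.1 0 1 / g.1 0 0
  have hx : xG m r = (hG m (g.1 0 0))⁻¹ * hm K := eq_inv_mul_of_mul_eq h'
  have hH : (hG m (g.1 0 0))⁻¹ * hm K ∈ H1 K m := mul_mem (inv_mem (hG_mem_H1 m hK ha)) (hm_mem_H1 m hK)
  have h1 := eq_one_of_conj_borel m hK (x := xG m r) (W_mem _ _ _ _ _ _) (by
    rw [hx, nJ_inv m hK]
    have := nJ_conj_torus m hK hH
    rw [nJ_inv m hK] at this
    rw [this]
    exact inv_mem (Subgroup.mem_sup_right (Subgroup.mem_inf.1 hH).1))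
  rw [h1, mul_one] at h'
  exact hm_ne_hG m hK ha h'.symm

include hK in
/-- A fixed element of the Borel subgroup. -/
theorem borel_fixed_hm {g : GL chevG2.Idx K} (hg : g ∈ (gdata K m hK).B1) (hc : hm K * g = g * hm K) :
    ∃ t s : K, s ≠ 0 ∧ (g = xG m t * hG m s ∨ g = hm K * (xG m t * hG m s)) := by
  obtain ⟨u, hu, h, hh, rfl⟩ := hg
  obtain ⟨t, v, w, rfl⟩ := exists_WR m hK (Subgroup.mem_inf.1 hu).1 (Subgroup.mem_inf.1 hu).2
  have hh' := H1_comm m hK (hm_mem_H1 m hK) hh
  have e : hm K * WR m t v w * (hm K)⁻¹ = WR m t v w := by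
    rw [mul_inv_eq_iff_eq_mul]
    refine mul_right_cancel (b := h) ?_
    rw [mul_assoc _ _ h, hc, mul_assoc _ h, ← hh', ← mul_assoc]
  rw [hm_conj_WR m hK] at e
  obtain ⟨e1, -, e3⟩ := WR_inj m e
  have hneg : ∀ x : K, -x = x → x = 0 := fun x hx => by
    have : (2 : K) * x = 0 := by linear_combination -hx
    exact (mul_eq_zero.1 this).resolve_left two_ne_zero'
  rw [hneg t e1, hneg w e3]
  obtain ⟨s, hs, rfl | rfl⟩ := torus_split m hK hh
  · exact ⟨v, s, hs, Or.inl rfl⟩
  · refine ⟨v, s, hs, Or.inr ?_⟩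
    rw [← mul_assoc, ← mul_assoc, hm_comm_x m hK]
    rfl

/-- The centraliser of the torus involution is generated by it and the image of `PSL₂(q)`. -/
theorem mem_centralizer_hm {g : ↥(twistedG2 K θ)} (hc : hmG K m * g = g * hmG K m) :
    ∃ x, g = psl K m hK x ∨ g = hmG K m * psl K m hK x := by
  have hc' : hm K * (g : GL chevG2.Idx K) = g * hm K := congrArg Subtype.val hc
  have fin : ∀ x : SpecialLinearGroup (Fin 2) K, ((g : GL chevG2.Idx K) = psiFun m x ∨
      (g : GL chevG2.Idx K) = hm K * psiFun m x) → ∃ x, g = psl K m hK x ∨ g = hmG K m * psl K m hK x :=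
    fun x hx => ⟨proj x, hx.imp (fun h => Subtype.ext h) (fun h => Subtype.ext h)⟩
  by_cases hB : (g : GL chevG2.Idx K) ∈ chevG2.borelSubgroup K
  · obtain ⟨t, s, hs, h⟩ := borel_fixed_hm m hK
      (by rw [← borel_inf_eq m hK]; exact Subgroup.mem_inf.2 ⟨hB, g.2⟩) hc'
    refine fin (upperU t * diagT (Units.mk0 s hs)) ?_
    rw [psiFun_mul m hK, ← coe_psi m hK, coe_psi_upper, ← coe_psi m hK, coe_psi_diag, Units.val_mk0]
    exact h
  · obtain ⟨u, hu, b, hb, e⟩ := exists_unb m hK g.2 hB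
    set c := hm K
    have huU := (Subgroup.mem_inf.1 hu).1
    have hcB : c ∈ chevG2.borelSubgroup K := Subgroup.mem_sup_right hm_mem_diag
    have hcuU : c * u * c⁻¹ ∈ chevG2.posUnipotent K := borel_conj_pos hcB huU
    have e2 : (c * u * c⁻¹) * nJ K * (c * b * c⁻¹) = u * nJ K * b := by
      rw [show (c * u * c⁻¹) * nJ K * (c * b * c⁻¹) = c * u * c⁻¹ * (nJ K * c) * b * c⁻¹ by group,
        nJ_hm m hK, show c * u * c⁻¹ * (c * nJ K) * b * c⁻¹ = c * (u * nJ K * b) * c⁻¹ by group, ← e, hc',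
        mul_inv_cancel_right]
    have h1 : u⁻¹ * (c * u * c⁻¹) = 1 := by
      refine eq_one_of_conj_borel m hK (mul_mem (inv_mem huU) hcuU) ?_
      rw [show (nJ K)⁻¹ * (u⁻¹ * (c * u * c⁻¹)) * nJ K =
        b * (c * b * c⁻¹)⁻¹ by
          rw [eq_mul_inv_iff_mul_eq, show (nJ K)⁻¹ * (u⁻¹ * (c * u * c⁻¹)) * nJ K * (c * b * c⁻¹) =
            (nJ K)⁻¹ * u⁻¹ * ((c * u * c⁻¹) * nJ K * (c * b * c⁻¹)) by group, e2]
          group]
      have hbB := (Subgroup.mem_inf.1 hb).1
      exact mul_mem hbB (inv_mem (mul_mem (mul_mem hcB hbB) (inv_mem hcB)))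
    have hu' : c * u * c⁻¹ = u := (inv_mul_eq_one.1 h1).symm
    rw [hu'] at e2
    replace e2 : c * b * c⁻¹ = b := mul_left_cancel e2
    obtain ⟨t, v, w, rfl⟩ := (mem_pos_inf m hK).1 hu
    rw [hm_conj_WR m hK] at hu'
    obtain ⟨e1, -, e3⟩ := WR_inj m hu'
    have hneg : ∀ x : K, -x = x → x = 0 := fun x hx => by
      have : (2 : K) * x = 0 := by linear_combination -hx
      exact (mul_eq_zero.1 this).resolve_left two_ne_zero'
    rw [hneg t e1, hneg w e3] at e
    rw [borel_inf_eq m hK] at hb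
    obtain ⟨r, s, hs, h⟩ := borel_fixed_hm m hK hb (mul_inv_eq_iff_eq_mul.1 e2)
    refine fin (upperU v * (wE * (upperU r * diagT (Units.mk0 s hs)))) ?_
    rw [psiFun_mul m hK, psiFun_mul m hK, psiFun_mul m hK, ← coe_psi m hK, coe_psi_upper, ← coe_psi m hK,
      coe_psi_w, ← coe_psi m hK, coe_psi_upper, ← coe_psi m hK, coe_psi_diag, Units.val_mk0, e]
    rcases h with rfl | rfl
    · exact Or.inl (by rw [xG, mul_assoc]; rfl)
    · refine Or.inr ?_
      show WR m 0 v 0 * nJ K * (c * (xG m r * hG m s)) = c * (xG m v * (nJ K * (xG m r * hG m s)))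
      rw [show WR m 0 v 0 * nJ K * (c * (xG m r * hG m s)) = xG m v * (nJ K * c) * (xG m r * hG m s) by
        rw [show xG m v = WR m 0 v 0 from rfl]; group, nJ_hm m hK, ← mul_assoc, ← mul_assoc c, hm_comm_x m hK]
      group

end CfsgLib.Chev.Ree
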