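import Cfsg.Agent.Chev.Ree.TorusCentralizer

/-! Elliptic elements of `PSL₂(q)`, `q = 3^(2m+1)`. -/

set_option autoImplicit false
set_option maxRecDepth 100000
set_option linter.style.haveILetI false
set_option linter.unusedSectionVars false

namespace CfsgLib.Chev.Ree

open Cfsg.Lie CfsgLib.Chev Matrix CfsgLib.SL2

universe u

variable {K : Type u} [Field K] [Finite K] [CharP K 3] (m : ℕ)

variable (hK : Nat.card K = 3 ^ (2 * m + 1))

include hK in
theorem k2_facts : 4 * ((3 ^ (2 * m + 1) + 1) / 4) = 3 ^ (2 * m + 1) + 1 ∧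
    Odd ((3 ^ (2 * m + 1) + 1) / 4) ∧ ¬ 3 ∣ (3 ^ (2 * m + 1) + 1) / 4 := by
  have h8 := q_mod_eight (K := K) m hK
  have h3 : 3 ∣ 3 ^ (2 * m + 1) := dvd_pow_self 3 (by omega)
  exact ⟨by omega, Nat.odd_iff.2 (by omega), by omega⟩

include hK in
theorem card_centralizer_mul {x : ProjectiveSpecialLinearGroup (Fin 2) K}
    {i : ℕ} (hi : (Subgroup.centralizer ({x} : Set _)).index = i) :
    2 * (Nat.card ↥(Subgroup.centralizer ({x} : Set (ProjectiveSpecialLinearGroup (Fin 2) K))) * i) =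
      3 ^ (2 * m + 1) * ((3 ^ (2 * m + 1)) ^ 2 - 1) := by
  rw [← hi, Subgroup.card_mul_index, two_mul_card_PSL m hK]

include hK in
theorem index_elliptic {g : SpecialLinearGroup (Fin 2) K} (h : IsElliptic g) :
    (Subgroup.centralizer ({g} : Set _)).index = 3 ^ (2 * m + 1) * (3 ^ (2 * m + 1) - 1) := by
  have := index_centralizer_mul g
  rw [card_centralizer_elliptic h, hK] at this
  generalize 3 ^ (2 * m + 1) = q at this ⊢
  refine Nat.eq_of_mul_eq_mul_right (Nat.succ_pos q) (this.trans ?_)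
  rcases q with _ | q
  · simp
  · rw [show (q + 1) ^ 2 - 1 = q * (q + 2) by rw [Nat.sub_eq_iff_eq_add (Nat.one_le_pow _ _ (by omega))]; ring,
      Nat.add_sub_cancel, Nat.succ_eq_add_one]
    ring

include hK in
/-- The centraliser of an element of odd order dividing `q + 1`. -/
theorem card_centralizer_elliptic_proj {y : ProjectiveSpecialLinearGroup (Fin 2) K}
    (hy : y ^ ((3 ^ (2 * m + 1) + 1) / 4) = 1) (hy1 : y ≠ 1) :
    2 * Nat.card ↥(Subgroup.centralizer ({y} : Set (ProjectiveSpecialLinearGroup (Fin 2) K))) =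
      3 ^ (2 * m + 1) + 1 := by
  obtain ⟨g, rfl⟩ := proj_surjective y
  obtain ⟨hk, hodd, h3⟩ := k2_facts (K := K) m hK
  have hne : ∀ n : ℕ, Nat.Coprime n ((3 ^ (2 * m + 1) + 1) / 4) → proj g ^ n ≠ 1 := fun n hn h => by
    refine hy1 (orderOf_eq_one_iff.1 (Nat.eq_one_of_dvd_one ?_))
    rw [← hn.gcd_eq_one]
    exact Nat.dvd_gcd (orderOf_dvd_of_pow_eq_one h) (orderOf_dvd_of_pow_eq_one hy)
  have ht0 : tr g ≠ 0 := fun h => by
    have := (orderOf_proj_eq_two_iff two_ne_zero').2 h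
    exact hne 2 (Nat.coprime_two_left.2 hodd) (orderOf_dvd_iff_pow_eq_one.1 (dvd_of_eq this))
  have hell : IsElliptic g := by
    rcases type_cases (g := g) with h | ⟨ht, r, hr⟩ | ⟨-, h⟩
    · exact absurd (proj_pow_char 3 h) (hne 3 (Nat.prime_three.coprime_iff_not_dvd.2 h3))
    · refine absurd (by rw [← map_pow, pow_split ht hr, map_one]) (hne (Nat.card K - 1) ?_)
      rw [hK]
      refine Nat.coprime_of_dvd' fun p hp h1 h2 => ?_
      have hp2 : p ∣ 2 := by
        have := Nat.dvd_sub ((Dvd.dvd.mul_left h2 4).trans (dvd_of_eq hk)) h1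
        rwa [show 3 ^ (2 * m + 1) + 1 - (3 ^ (2 * m + 1) - 1) = 2 by have := Nat.one_le_pow (2 * m + 1) 3 (by norm_num); omega] at this
      have hp' : p = 2 := (Nat.prime_dvd_prime_iff_eq hp Nat.prime_two).1 hp2
      exact absurd (hodd.of_dvd_nat h2) (by rw [hp']; decide)
    · exact h
  have := card_centralizer_mul (K := K) m hK ((index_centralizer_proj (Or.inl ht0)).trans (index_elliptic m hK hell))
  have hq : 1 < 3 ^ (2 * m + 1) := Nat.one_lt_pow (by omega) (by norm_num)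
  generalize 3 ^ (2 * m + 1) = q at this hq ⊢
  generalize Nat.card ↥(Subgroup.centralizer ({proj g} : Set (ProjectiveSpecialLinearGroup (Fin 2) K))) = c at this ⊢
  refine Nat.eq_of_mul_eq_mul_right (show 0 < q * (q - 1) from Nat.mul_pos (by omega) (by omega)) ?_
  rw [mul_assoc, this]
  rcases q with _ | q
  · omega
  · rw [show (q + 1) ^ 2 - 1 = q * (q + 2) by rw [Nat.sub_eq_iff_eq_add (Nat.one_le_pow _ _ (by omega))]; ring,
      Nat.add_sub_cancel]
    ring

include hK in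
theorem isElliptic_of_tr_zero {g : SpecialLinearGroup (Fin 2) K} (h : tr g = 0) : IsElliptic g := fun r hr =>
  sq_ne_neg_one m hK r (by rw [h] at hr; linear_combination hr)

include hK in
theorem tr_zero_of_involution {x : ProjectiveSpecialLinearGroup (Fin 2) K} (h2 : x * x = 1) (h1 : x ≠ 1) :
    ∃ g, proj g = x ∧ tr g = 0 := by
  obtain ⟨g, rfl⟩ := proj_surjective x
  exact ⟨g, rfl, (orderOf_proj_eq_two_iff two_ne_zero').1 (orderOf_eq_prime (by rw [pow_two, h2]) h1)⟩

include hK in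
theorem card_centralizer_involution {x : ProjectiveSpecialLinearGroup (Fin 2) K} (h2 : x * x = 1) (h1 : x ≠ 1) :
    Nat.card ↥(Subgroup.centralizer ({x} : Set (ProjectiveSpecialLinearGroup (Fin 2) K))) =
      3 ^ (2 * m + 1) + 1 := by
  obtain ⟨g, rfl, ht⟩ := tr_zero_of_involution m hK h2 h1
  have hi := index_centralizer_proj_zero two_ne_zero' ht
  rw [index_elliptic m hK (isElliptic_of_tr_zero m hK ht)] at hi
  have h' := card_centralizer_mul (K := K) m hK (x := proj g) rfl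
  have hq : 1 < 3 ^ (2 * m + 1) := Nat.one_lt_pow (by omega) (by norm_num)
  generalize 3 ^ (2 * m + 1) = q at h' hi hq ⊢
  generalize Nat.card ↥(Subgroup.centralizer ({proj g} : Set (ProjectiveSpecialLinearGroup (Fin 2) K))) = c at h' ⊢
  rw [mul_left_comm, hi] at h'
  refine Nat.eq_of_mul_eq_mul_right (show 0 < q * (q - 1) from Nat.mul_pos (by omega) (by omega)) (h'.trans ?_)
  rcases q with _ | q
  · omega
  · rw [show (q + 1) ^ 2 - 1 = q * (q + 2) by rw [Nat.sub_eq_iff_eq_add (Nat.one_le_pow _ _ (by omega))]; ring,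
      Nat.add_sub_cancel]
    ring

include hK in
/-- A cyclic subgroup of order `(q+1)/2` through a given involution. -/
theorem exists_c {x : ProjectiveSpecialLinearGroup (Fin 2) K} (h2 : x * x = 1) (h1 : x ≠ 1) :
    ∃ c : ProjectiveSpecialLinearGroup (Fin 2) K, orderOf c = 2 * ((3 ^ (2 * m + 1) + 1) / 4) ∧
      c ^ ((3 ^ (2 * m + 1) + 1) / 4) = x := by
  obtain ⟨hk, hodd, -⟩ := k2_facts (K := K) m hK
  set k := (3 ^ (2 * m + 1) + 1) / 4 with hkdef
  obtain ⟨g, hg, -, -⟩ := exists_elliptic_generator K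
  rw [hK, ← hk] at hg
  have ho : orderOf (proj g) = 2 * k := by
    rw [orderOf_proj, card_center, card_sq_eq_one_odd two_ne_zero', orderOf_pow' g (by norm_num), hg,
      show Nat.gcd (4 * k) 2 = 2 from Nat.gcd_eq_right (Dvd.dvd.mul_right (by norm_num) k)]
    omega
  have hi : orderOf (proj g ^ k) = 2 := by
    rw [orderOf_pow' _ (by rintro h; rw [h] at hodd; simp at hodd), ho,
      Nat.gcd_eq_right (dvd_mul_left k 2), Nat.mul_div_cancel _ hodd.pos]
  obtain ⟨g', hg', ht'⟩ := tr_zero_of_involution m hK h2 h1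
  rw [← map_pow] at hi
  have ht := (orderOf_proj_eq_two_iff two_ne_zero').1 hi
  obtain ⟨a, ha⟩ := isConj_iff.1 (isConj_of_tr_eq' (h := g') (tr_zero_sq_ne_four two_ne_zero' ht) (ht.trans ht'.symm))
  refine ⟨MulAut.conj (proj a) (proj g), by rw [MulEquiv.orderOf_eq, ho], ?_⟩
  rw [← map_pow, ← map_pow proj g, MulAut.conj_apply, ← map_inv, ← map_mul, ← map_mul, ha, hg']

include hK in
theorem zpowers_sq_of_odd {x c y : ProjectiveSpecialLinearGroup (Fin 2) K} (h2 : x * x = 1) (h1 : x ≠ 1)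
    (hc : orderOf c = 2 * ((3 ^ (2 * m + 1) + 1) / 4)) (hcx : c ^ ((3 ^ (2 * m + 1) + 1) / 4) = x)
    (hy : y * x = x * y) (hodd : Odd (orderOf y)) : y ∈ Subgroup.zpowers (c ^ 2) := by
  obtain ⟨hk, -, -⟩ := k2_facts (K := K) m hK
  set C := Subgroup.centralizer ({x} : Set (ProjectiveSpecialLinearGroup (Fin 2) K))
  set Z := Subgroup.zpowers c
  have hZC : Z ≤ C := Subgroup.zpowers_le.2 (Subgroup.mem_centralizer_singleton_iff.2
    (hcx ▸ (Commute.refl c).pow_right _))
  have hidx : (Z.subgroupOf C).index = 2 := by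
    have h := Subgroup.card_mul_index (Z.subgroupOf C)
    rw [card_centralizer_involution m hK h2 h1, ← hk,
      Nat.card_congr (Subgroup.subgroupOfEquivOfLe hZC).toEquiv, Nat.card_zpowers, hc] at h
    have hpos : 0 < (3 ^ (2 * m + 1) + 1) / 4 := by omega
    nlinarith
  have hyC : y ∈ C := Subgroup.mem_centralizer_singleton_iff.2 hy
  have hy2 : y ^ 2 ∈ Z := by
    have := Subgroup.sq_mem_of_index_two hidx (⟨y, hyC⟩ : ↥C)
    exact this
  have hyZ : y ∈ Z := GL0.mem_of_pow_mem (Nat.coprime_two_right.2 hodd) hy2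
  obtain ⟨j, hj⟩ := Subgroup.mem_zpowers_iff.1 hyZ
  refine GL0.mem_of_pow_mem (k := 2) (Nat.coprime_two_right.2 hodd) ⟨j, ?_⟩
  show (c ^ 2) ^ j = y ^ 2
  rw [← hj, ← zpow_natCast, ← zpow_natCast, ← _root_.zpow_mul, ← _root_.zpow_mul, mul_comm]

end CfsgLib.Chev.Ree
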