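import Cfsg.Agent.Chev.Ree.CentralizerElliptic
import Cfsg.Agent.Chev.Ree.EigenTorus

/-! The seven-dimensional representation of the small Ree groups. -/

set_option autoImplicit false
set_option maxRecDepth 100000
set_option linter.style.haveILetI false
set_option linter.unusedSectionVars false

namespace CfsgLib.Chev.Ree

open Cfsg.Lie CfsgLib.Chev Matrix

universe u

/-- The seven coordinates of the submodule. -/
abbrev I7 : Type := {c : chevG2.Idx // Special.InI Special.specG2 chevG2 c}

theorem card_I7 : Fintype.card I7 = 7 := by
  have h : ∀ c : chevG2.Idx, Special.InI Special.specG2 chevG2 c ↔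
      Special.code chevG2 c ∈ ([0, 4, 5, 6, 9, 10, 11] : List ℕ) := fun c => by
    simp [Special.InI, Special.specG2, List.elem_eq_mem]
  rw [Fintype.card_subtype, Finset.filter_congr fun c _ => h c]
  decide +kernel

variable {K : Type u} [Field K] [Finite K] [CharP K 3] (m : ℕ)

local notation "G¹" => twistedG2 K (3 ^ m)

variable (hK : Nat.card K = 3 ^ (2 * m + 1))

variable (K) in
/-- The representation. -/
noncomputable def rho (hK : Nat.card K = 3 ^ (2 * m + 1)) : ↥G¹ →* Matrix I7 I7 K where
  toFun g := Special.subAct Special.specG2 ((g : GL chevG2.Idx K) : Matrix chevG2.Idx chevG2.Idx K)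
  map_one' := by rw [Subgroup.coe_one, Units.val_one]; exact Special.subAct_one
  map_mul' g h := by
    rw [Subgroup.coe_mul]
    exact Special.subAct_mul' DataG2.valid Special.specG2_valid (inferInstance : CharP K 3)
      (twisted_le_fixed m hK h.2).1

theorem rho_injective : Function.Injective (rho K m hK) := fun g h e =>
  Subtype.ext (Special.subAct_injOn DataG2.valid Special.specG2_valid (inferInstance : CharP K 3)
    (twisted_le_fixed m hK g.2).1 (twisted_le_fixed m hK h.2).1 e)

end CfsgLib.Chev.Ree
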