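import Cfsg.Agent.Chev.Ree.Data

/-! Consequences: order, torus, perfection and simplicity of the small Ree groups. -/

set_option autoImplicit false
set_option maxRecDepth 20000
set_option linter.style.haveILetI false
set_option linter.unusedSectionVars false

namespace CfsgLib.Chev.Ree

open Cfsg.Lie CfsgLib.Chev Matrix
open scoped commutatorElement

universe u

theorem charP_three {K : Type*} [Field K] [Fintype K] {n : ℕ} (hK : Fintype.card K = 3 ^ n) : CharP K 3 := by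
  obtain ⟨p, hp⟩ := CharP.exists K
  obtain ⟨k, hpp, hk⟩ := FiniteField.card K p
  rw [hk] at hK
  have h : p = 3 := (Nat.prime_dvd_prime_iff_eq hpp Nat.prime_three).1
    (hpp.dvd_of_dvd_pow (hK ▸ dvd_pow_self p k.ne_zero))
  exact h ▸ hp

variable {K : Type u} [Field K] [Finite K] [CharP K 3] (m : ℕ)

local notation "θ" => (3 ^ m : ℕ)

variable (hK : Nat.card K = 3 ^ (2 * m + 1))

include hK in
theorem diag_inf_eq : chevG2.diagonalSubgroup K ⊓ twistedG2 K θ = H1 K m := (gdata K m hK).diag_inf_G1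

include hK in
theorem pos_inf_eq :
    chevG2.posUnipotent K ⊓ twistedG2 K θ = chevG2.posUnipotent K ⊓ (twist K m).fixed :=
  (gdata K m hK).pos_inf_G1

include hK in
theorem mem_pos_inf {g : GL chevG2.Idx K} :
    g ∈ chevG2.posUnipotent K ⊓ twistedG2 K θ ↔ ∃ t u v : K, g = WR m t u v := by
  rw [pos_inf_eq m hK, ← pos_inf_fixed m hK, uminus_eq]

include hK in
theorem card_pos_inf :
    Nat.card ↥(chevG2.posUnipotent K ⊓ twistedG2 K θ) = (3 ^ (2 * m + 1)) ^ 3 := by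
  rw [pos_inf_eq m hK, ← uminus_eq]; exact card_pos_fixed m hK

include hK in
theorem card_torus : Nat.card ↥(H1 K m) = 3 ^ (2 * m + 1) - 1 := by
  rw [← Nat.card_congr (torus K m hK).toEquiv, Nat.card_units, hK]

include hK in
theorem isCyclic_torus : IsCyclic ↥(H1 K m) := MulEquiv.isCyclic (torus K m hK) |>.1 inferInstance

theorem goodSet_eq : wdata.{u}.goodSet = {1, wdata.{u}.wJ 0} := by
  ext w
  rw [Twisted.WData.mem_goodSet, Finset.mem_insert, Finset.mem_singleton]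
  refine ⟨good_cases, ?_⟩
  rintro (rfl | rfl)
  · exact one_mem _
  · exact wdata.wJ_mem 0

include hK in
theorem card_group : Nat.card ↥(twistedG2 K θ) =
    (3 ^ (2 * m + 1)) ^ 3 * (3 ^ (2 * m + 1) - 1) * ((3 ^ (2 * m + 1)) ^ 3 + 1) := by
  rw [show Nat.card ↥(twistedG2 K θ) = _ from (gdata K m hK).card_G1]
  have hU : Nat.card ↥(gdata K m hK).U1 = (3 ^ (2 * m + 1)) ^ 3 :=
    (congrArg (fun H : Subgroup (GL chevG2.Idx K) => Nat.card ↥H) (pos_inf_eq m hK).symm).trans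
      (card_pos_inf m hK)
  have hH : Nat.card ↥(gdata K m hK).H1 = 3 ^ (2 * m + 1) - 1 := card_torus m hK
  have hne : (1 : Equiv.Perm (Fin chevG2.nroots)) ≠ wdata.{u}.wJ 0 := fun h =>
    (wdata.mem_inJ.1 (wdata.sr_mem_inJ ⟨0, by decide⟩)).2
      (show SG.Pos (wdata.{u}.wJ 0 _) by rw [← h]; exact SG.sr_pos _)
  rw [hU, hH, goodSet_eq, Finset.sum_pair hne, Twisted.WData.tlen_one]
  have hl : wdata.{u}.tlen (wdata.{u}.wJ 0) = 3 := by
    rw [Twisted.WData.tlen, Twisted.WData.wlen_wJ]; rfl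
  rw [hl, show (gdata K m hK).q = 3 ^ (2 * m + 1) from rfl]
  ring

theorem vec_values : (DataG2.tbl.vecAt 10 0 = 3 ∧ DataG2.tbl.vecAt 10 1 = 1) ∧
    DataG2.tbl.vecAt 11 0 = 3 ∧ DataG2.tbl.vecAt 11 1 = 2 := by decide +kernel

theorem chi10 (z : ℕ → Kˣ) : SG.chi z 10 = z 0 ^ 3 * z 1 := by
  have h0 : SG.{u}.vec 10 0 = 3 := vec_values.1.1
  have h1 : SG.{u}.vec 10 1 = 1 := vec_values.1.2
  simp [Sys.chi, show chevG2.rank = 2 from rfl, Finset.prod_range_succ, h0, h1]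

theorem chi11 (z : ℕ → Kˣ) : SG.chi z 11 = z 0 ^ 3 * z 1 ^ 2 := by
  have h0 : SG.{u}.vec 11 0 = 3 := vec_values.2.1
  have h1 : SG.{u}.vec 11 1 = 2 := vec_values.2.2
  simp [Sys.chi, show chevG2.rank = 2 from rfl, Finset.prod_range_succ, h0, h1]

include hK in
theorem torus_conj_WR {z : ℕ → Kˣ} (hz : SG.dg z ∈ H1 K m) (t u v : K) :
    SG.dg z * WR m t u v * (SG.dg z)⁻¹ =
      WR m ((SG.chi z 6 : K) * t) ((SG.chi z 10 : K) * u) ((SG.chi z 11 : K) * v) := by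
  obtain ⟨hd, hf⟩ := Subgroup.mem_inf.1 hz
  obtain ⟨t', u', v', e⟩ := exists_WR m hK (g := SG.dg z * WR m t u v * (SG.dg z)⁻¹)
    (SG.dg_conj_pos z (W_mem _ _ _ _ _ _)) (mul_mem (mul_mem hf (WR_fixed m hK t u v)) (inv_mem hf))
  rw [e]
  rw [WR, dg_conj_W] at e
  obtain ⟨-, h2, -, -, h5, h6⟩ := W_inj e
  rw [h2, h5, h6]

theorem WR_add (u v u' v' : K) : WR m 0 u v * WR m 0 u' v' = WR m 0 (u + u') (v + v') := by
  simp [WR, W, zero_pow (theta_ne_zero m), Sys.xU_zero, X_mul, add_pow_theta]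

theorem mem_tail7 (p q r s u v : K) : (SG.xU 6 q)⁻¹ * W p q r s u v ∈ SG.tailU K 7 := by
  have h : ∀ (i : ℕ) (x : K), 7 ≤ i → i < 12 → SG.xU i x ∈ SG.tailU K 7 :=
    fun i x h1 h2 => SG.xU_mem_tailU h1 h2 x
  have h1 : (SG.xU 6 q)⁻¹ * SG.xU 7 p * ((SG.xU 6 q)⁻¹)⁻¹ ∈ SG.tailU K 7 :=
    SG.conj_tailU (k := 7) (by decide)
      (Subgroup.inv_mem _ (SG.xU_mem_posUnipotent (by decide) (show 6 < 12 by omega) q)) _
      (h 7 p le_rfl (by omega))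
  rw [inv_inv] at h1
  rw [W, ← mul_assoc, ← mul_assoc]
  exact mul_mem h1 (mul_mem (mul_mem (mul_mem (h 8 r (by omega) (by omega)) (h 9 s (by omega) (by omega)))
    (h 10 u (by omega) (by omega))) (h 11 v (by omega) (by omega)))

include hK in
theorem coord_mul (t u v t' u' v' : K) :
    ∃ u'' v'' : K, WR m t u v * WR m t' u' v' = WR m (t + t') u'' v'' := by
  obtain ⟨t₀, u₀, v₀, e⟩ := exists_WR m hK (g := WR m t u v * WR m t' u' v')
    (mul_mem (W_mem _ _ _ _ _ _) (W_mem _ _ _ _ _ _)) (mul_mem (WR_fixed m hK t u v) (WR_fixed m hK t' u' v'))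
  suffices h : t₀ = t + t' by exact ⟨u₀, v₀, h ▸ e⟩
  have h1 := mem_tail7 (t ^ θ) t (t ^ (θ + 1) + u ^ θ) (t ^ (2 * θ + 1) + v ^ θ) u v
  have h2 := mem_tail7 (t' ^ θ) t' (t' ^ (θ + 1) + u' ^ θ) (t' ^ (2 * θ + 1) + v' ^ θ) u' v'
  have h3 := mem_tail7 (t₀ ^ θ) t₀ (t₀ ^ (θ + 1) + u₀ ^ θ) (t₀ ^ (2 * θ + 1) + v₀ ^ θ) u₀ v₀
  rw [← WR] at h1 h2 h3
  rw [← e] at h3
  have h4 := SG.conj_tailU (k := 7) (by decide)
    (Subgroup.inv_mem _ (SG.xU_mem_posUnipotent (by decide) (show 6 < 12 by omega) t')) _ h1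
  rw [inv_inv] at h4
  have h5 := mul_mem h3 (inv_mem (mul_mem h4 h2))
  rw [show (SG.xU 6 t₀)⁻¹ * (WR m t u v * WR m t' u' v') *
      ((SG.xU 6 t')⁻¹ * ((SG.xU 6 t)⁻¹ * WR m t u v) * SG.xU 6 t' * ((SG.xU 6 t')⁻¹ * WR m t' u' v'))⁻¹ =
      (SG.xU 6 t₀)⁻¹ * (SG.xU 6 t * SG.xU 6 t') by group,
    Sys.xU_inv, Sys.xU_add, Sys.xU_add] at h5
  have h6 := SG.eq_zero_of_mem_tail (k := 6) le_rfl (by decide) h5
  linear_combination -h6

include hK in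
/-- A torus element moving all three layers. -/
theorem exists_regular (hm : 1 ≤ m) : ∃ z : ℕ → Kˣ, SG.dg z ∈ H1 K m ∧ SG.dg z ∈ twistedG2 K θ ∧
    (SG.chi z 6 : K) ≠ 1 ∧ (SG.chi z 10 : K) ≠ 1 ∧ (SG.chi z 11 : K) ≠ 1 := by
  obtain ⟨c, hc⟩ := IsCyclic.exists_generator (α := Kˣ)
  obtain ⟨z, hz0, hzH, hzG⟩ := exists_coord m hK c
  have ho : orderOf c = 3 ^ (2 * m + 1) - 1 := by
    rw [orderOf_eq_card_of_forall_mem_zpowers hc, Nat.card_units, hK]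
  have hz1 : z 1 = c ^ (3 * θ) := Units.ext (by rw [coord_eq m hK hzH, hz0, Units.val_pow_eq_pow_val])
  have hθ : 3 ≤ θ := by
    calc 3 = 3 ^ 1 := by norm_num
      _ ≤ 3 ^ m := Nat.pow_le_pow_right (by norm_num) hm
  have hq : 3 ^ (2 * m + 1) = 3 * θ * θ := by ring
  have hlt : ∀ k : ℕ, 0 < k → k ≤ 6 * θ + 3 → c ^ k ≠ 1 := fun k hk hk' h => by
    have := Nat.le_of_dvd hk (orderOf_dvd_of_pow_eq_one h)
    rw [ho, hq] at this
    have h9 : 9 * θ ≤ 3 * θ * θ := Nat.mul_le_mul_right θ (by omega)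
    omega
  refine ⟨z, hzH, hzG, ?_, ?_, ?_⟩ <;> rw [Ne, Units.val_eq_one]
  · rw [chi6, hz1]; exact hlt _ (by omega) (by omega)
  · rw [chi10, hz1, hz0, ← pow_add]; exact hlt _ (by omega) (by omega)
  · rw [chi11, hz1, hz0, ← pow_mul, ← pow_add]; exact hlt _ (by omega) (by omega)

include hK in
theorem commutator_eq_top (hm : 1 ≤ m) : commutator ↥(twistedG2 K θ) = ⊤ := by
  refine (gdata K m hK).perfect_of fun j g hg => ?_
  obtain rfl : j = 0 := Subsingleton.elim _ _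
  obtain ⟨t, u, v, rfl⟩ := (pos_inf_fixed m hK).1 hg
  show WR m t u v ∈ ⁅twistedG2 K θ, twistedG2 K θ⁆
  obtain ⟨z, hzH, hzG, h6, h10, h11⟩ := exists_regular m hK hm
  have hc : ∀ a b c : K, SG.dg z * WR m a b c * (SG.dg z)⁻¹ * (WR m a b c)⁻¹ ∈
      ⁅twistedG2 K θ, twistedG2 K θ⁆ := fun a b c =>
    Subgroup.commutator_mem_commutator hzG (WR_mem m a b c)
  -- the two lower layers
  have hlow : ∀ b c : K, WR m 0 b c ∈ ⁅twistedG2 K θ, twistedG2 K θ⁆ := by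
    intro b c
    have h := hc 0 (b / ((SG.chi z 10 : K) - 1)) (c / ((SG.chi z 11 : K) - 1))
    have hsub : ∀ x y x' y' : K, WR m 0 x y * (WR m 0 x' y')⁻¹ = WR m 0 (x - x') (y - y') := fun x y x' y' => by
      rw [mul_inv_eq_iff_eq_mul, WR_add, sub_add_cancel, sub_add_cancel]
    rw [torus_conj_WR m hK hzH, mul_zero, hsub, ← sub_one_mul, ← sub_one_mul,
      mul_div_cancel₀ _ (sub_ne_zero.2 h10), mul_div_cancel₀ _ (sub_ne_zero.2 h11)] at h
    exact h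
  have h := hc (t / ((SG.chi z 6 : K) - 1)) 0 0
  obtain ⟨t₁, u₁, v₁, e⟩ := exists_WR m hK
    (g := SG.dg z * WR m (t / ((SG.chi z 6 : K) - 1)) 0 0 * (SG.dg z)⁻¹ *
      (WR m (t / ((SG.chi z 6 : K) - 1)) 0 0)⁻¹)
    (mul_mem (SG.dg_conj_pos z (W_mem _ _ _ _ _ _)) (inv_mem (W_mem _ _ _ _ _ _)))
    (mul_mem (mul_mem (mul_mem (Subgroup.mem_inf.1 hzH).2 (WR_fixed m hK _ _ _))
      (inv_mem (Subgroup.mem_inf.1 hzH).2)) (inv_mem (WR_fixed m hK _ _ _)))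
  rw [e] at h
  rw [torus_conj_WR m hK hzH, mul_inv_eq_iff_eq_mul] at e
  obtain ⟨u₂, v₂, e2⟩ := coord_mul m hK t₁ u₁ v₁ (t / ((SG.chi z 6 : K) - 1)) 0 0
  rw [e2] at e
  have ht : t₁ = t := by
    have h1 := (WR_inj m e).1
    have h2 : ((SG.chi z 6 : K) - 1) * (t / ((SG.chi z 6 : K) - 1)) = t :=
      mul_div_cancel₀ _ (sub_ne_zero.2 h6)
    linear_combination -h1 + h2
  subst ht
  obtain ⟨t₃, u₃, v₃, e3⟩ := exists_WR m hK (g := (WR m t₁ u₁ v₁)⁻¹ * WR m t₁ u v)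
    (mul_mem (inv_mem (W_mem _ _ _ _ _ _)) (W_mem _ _ _ _ _ _))
    (mul_mem (inv_mem (WR_fixed m hK _ _ _)) (WR_fixed m hK _ _ _))
  obtain ⟨u₄, v₄, e4⟩ := coord_mul m hK t₁ u₁ v₁ t₃ u₃ v₃
  rw [← e3, mul_inv_cancel_left] at e4
  have h3 : t₃ = 0 := by linear_combination -(WR_inj m e4).1
  subst h3
  rw [show WR m t₁ u v = WR m t₁ u₁ v₁ * ((WR m t₁ u₁ v₁)⁻¹ * WR m t₁ u v) by group, e3]
  exact mul_mem h (hlow _ _)

include hK in
theorem faithful : (gdata K m hK).Faithful := by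
  intro z h i hi
  have e := h 0 (WR m 1 0 0) ((pos_inf_fixed m hK).2 ⟨_, _, _, rfl⟩)
  rw [WR, dg_conj_W, chi7, chi6, one_pow, mul_one, mul_one] at e
  obtain ⟨h1, h2, -⟩ := W_inj e
  have hi2 : i < 2 := hi
  interval_cases i
  · exact Units.ext h1
  · exact Units.ext h2

include hK in
theorem simple (hm : 1 ≤ m) :
    IsSimpleGroup ↥(twistedG2 K θ) ∧ ¬ IsMulCommutative ↥(twistedG2 K θ) :=
  (gdata K m hK).isSimpleGroup (faithful m hK) (commutator_eq_top m hK hm)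
    (fun J hJ ⟨k, hk⟩ => absurd (Subsingleton.elim hJ.choose k ▸ hJ.choose_spec) hk) Nat.one_pos

end CfsgLib.Chev.Ree
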