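import Cfsg.Agent.Chev.Ree.FourGroup

/-! `C(S) = S` and `|N(S)| = 168` for a Sylow 2-subgroup of a small Ree group. -/

set_option autoImplicit false
set_option maxRecDepth 100000
set_option linter.style.haveILetI false
set_option linter.unusedSectionVars false

namespace CfsgLib.Chev.Ree

open Cfsg.Lie CfsgLib.Chev Matrix CfsgLib.SL2

universe u

variable {K : Type u} [Field K] [Finite K] [CharP K 3] (m : ℕ)

local notation "θ" => (3 ^ m : ℕ)
local notation "G¹" => twistedG2 K (3 ^ m)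

variable (hK : Nat.card K = 3 ^ (2 * m + 1))

theorem psl_mem_Ch (x : ProjectiveSpecialLinearGroup (Fin 2) K) : psl K m hK x ∈ Ch K m :=
  (mem_Ch m).2 (hm_comm_psl m hK x)

theorem hm_psl_conj {g : ↥G¹} (hg : g ∈ Ch K m) (x : ProjectiveSpecialLinearGroup (Fin 2) K) :
    ∃ y, g * psl K m hK x * g⁻¹ = psl K m hK y := by
  obtain ⟨z, rfl | rfl⟩ := mem_centralizer_hm m hK ((mem_Ch m).1 hg)
  · exact ⟨z * x * z⁻¹, by simp⟩
  · refine ⟨z * x * z⁻¹, ?_⟩
    rw [map_mul, map_mul, map_inv, show hmG K m * psl K m hK z * psl K m hK x * (hmG K m * psl K m hK z)⁻¹ =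
      hmG K m * (psl K m hK z * psl K m hK x * (psl K m hK z)⁻¹) * (hmG K m)⁻¹ by group]
    rw [← map_inv, ← map_mul, ← map_mul, hm_comm_psl m hK, mul_inv_cancel_right]

variable (K) in
/-- A Sylow 2-subgroup, as a centraliser. -/
noncomputable def S₀ (hK : Nat.card K = 3 ^ (2 * m + 1)) : Subgroup ↥G¹ :=
  Subgroup.centralizer {hmG K m, psl K m hK (wP K), psl K m hK (jP K)}

theorem mem_S₀ {g : ↥G¹} : g ∈ S₀ K m hK ↔
    ∃ v, (v = 1 ∨ v = wP K ∨ v = jP K ∨ v = wP K * jP K) ∧ (g = psl K m hK v ∨ g = hmG K m * psl K m hK v) := by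
  constructor
  · intro h
    rw [S₀, Subgroup.mem_centralizer_iff] at h
    obtain ⟨x, hx⟩ := mem_centralizer_hm m hK (h _ (Set.mem_insert _ _))
    have key : ∀ y, psl K m hK y * g = g * psl K m hK y → x * y = y * x := fun y hy => by
      refine psl_injective m hK ?_
      rw [map_mul, map_mul]
      rcases hx with rfl | rfl
      · exact hy.symm
      · rw [← mul_assoc, ← hm_comm_psl m hK, mul_assoc, mul_assoc, mul_right_inj] at hy
        exact hy.symm
    exact ⟨x, four_centralizer m hK (key _ (h _ (by simp))) (key _ (h _ (by simp))), hx⟩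
  · rintro ⟨v, hv, hg⟩
    have hc : ∀ a, (a = wP K ∨ a = jP K) → a * v = v * a := by
      have hwj := wP_jP (K := K)
      rintro a (rfl | rfl) <;> rcases hv with rfl | rfl | rfl | rfl
      any_goals simp
      · exact hwj
      · rw [mul_assoc, hwj]
      · exact hwj.symm
      · rw [← mul_assoc, ← hwj]
    have hh := hm_comm_psl m hK v
    rw [S₀, Subgroup.mem_centralizer_iff]
    intro a ha
    simp only [Set.mem_insert_iff, Set.mem_singleton_iff] at ha
    rcases ha with rfl | rfl | rfl <;> rcases hg with rfl | rfl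
    · exact hh
    · rw [mul_assoc _ _ (hmG K m), hh]
    · rw [← map_mul, ← map_mul, hc _ (Or.inl rfl)]
    · rw [← mul_assoc, ← hm_comm_psl m hK, mul_assoc, mul_assoc, ← map_mul, ← map_mul, hc _ (Or.inl rfl)]
    · rw [← map_mul, ← map_mul, hc _ (Or.inr rfl)]
    · rw [← mul_assoc, ← hm_comm_psl m hK, mul_assoc, mul_assoc, ← map_mul, ← map_mul, hc _ (Or.inr rfl)]

theorem wP_jP_ne : wP K * jP K ≠ 1 ∧ wP K * jP K ≠ wP K ∧ wP K * jP K ≠ jP K := by
  refine ⟨fun h => wP_ne_jP (K := K) ?_, fun h => jP_ne_one (K := K) (mul_eq_left.1 h),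
    fun h => wP_ne_one (K := K) (mul_eq_right.1 h)⟩
  rw [eq_inv_of_mul_eq_one_left h, inv_eq_of_mul_eq_one_right jP_mul_self]

include hK in
theorem card_S₀ : Nat.card ↥(S₀ K m hK) = 8 := by
  classical
  have e : ((S₀ K m hK : Subgroup ↥G¹) : Set ↥G¹) =
      (fun p : Bool × ProjectiveSpecialLinearGroup (Fin 2) K => (cond p.1 (hmG K m) 1) * psl K m hK p.2) ''
        {p | p.2 = 1 ∨ p.2 = wP K ∨ p.2 = jP K ∨ p.2 = wP K * jP K} := by
    ext g
    rw [SetLike.mem_coe, mem_S₀]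
    constructor
    · rintro ⟨v, hv, rfl | rfl⟩
      · exact ⟨(false, v), hv, by simp⟩
      · exact ⟨(true, v), hv, by simp⟩
    · rintro ⟨⟨b, v⟩, hv, rfl⟩
      refine ⟨v, hv, ?_⟩
      cases b <;> simp
  have hinj : Function.Injective
      (fun p : Bool × ProjectiveSpecialLinearGroup (Fin 2) K => (cond p.1 (hmG K m) 1) * psl K m hK p.2) := by
    rintro ⟨b, v⟩ ⟨b', v'⟩ h
    have hne : ∀ x y, hmG K m * psl K m hK x ≠ psl K m hK y := fun x y h => psl_ne_hm m hK (y * x⁻¹)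
      (by rw [map_mul, map_inv, ← h, mul_inv_cancel_right])
    cases b <;> cases b' <;> simp only [cond_true, cond_false, one_mul] at h
    · rw [psl_injective m hK h]
    · exact absurd h.symm (hne _ _)
    · exact absurd h (hne _ _)
    · rw [psl_injective m hK (mul_left_cancel h)]
  rw [← SetLike.coe_sort_coe, Nat.card_coe_set_eq, e, Set.ncard_image_of_injective _ hinj]
  rw [show {p : Bool × ProjectiveSpecialLinearGroup (Fin 2) K | p.2 = 1 ∨ p.2 = wP K ∨ p.2 = jP K ∨ p.2 = wP K * jP K} =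
    (Set.univ : Set Bool) ×ˢ ({1, wP K, jP K, wP K * jP K} : Set _) by ext ⟨b, v⟩; simp]
  obtain ⟨h1, h2, h3⟩ := wP_jP_ne (K := K)
  rw [Set.ncard_prod, Set.ncard_univ, Nat.card_eq_fintype_card, Fintype.card_bool,
    Set.ncard_insert_of_notMem (by simp [(wP_ne_one (K := K)).symm, (jP_ne_one (K := K)).symm, h1.symm]),
    Set.ncard_insert_of_notMem (by simp [wP_ne_jP, h2.symm]),
    Set.ncard_insert_of_notMem (by simp [h3.symm]), Set.ncard_singleton]

variable (K) in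
/-- The Sylow 2-subgroup. -/
noncomputable def P₀ (hK : Nat.card K = 3 ^ (2 * m + 1)) : Sylow 2 ↥G¹ :=
  Sylow.ofCard (S₀ K m hK) (by
    haveI : Fact (Nat.Prime 2) := ⟨Nat.prime_two⟩
    obtain ⟨S⟩ := (inferInstance : Nonempty (Sylow 2 ↥G¹))
    rw [card_S₀ m hK, ← (sylow_conj m hK S).1, Sylow.card_eq_multiplicity])

theorem S₀_comm {a b : ↥G¹} (ha : a ∈ S₀ K m hK) (hb : b ∈ S₀ K m hK) : a * b = b * a := by
  have h2 : ∀ x : ↥G¹, x ∈ S₀ K m hK → x * x = 1 := fun x hx => sylow_sq m hK (P₀ K m hK) hx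
  have h := h2 _ (mul_mem ha hb)
  have hA := inv_eq_of_mul_eq_one_right (h2 _ ha)
  have hB := inv_eq_of_mul_eq_one_right (h2 _ hb)
  rw [← inv_eq_of_mul_eq_one_right h, _root_.mul_inv_rev, hA, hB]

theorem hm_mem_S₀ : hmG K m ∈ S₀ K m hK := (mem_S₀ m hK).2 ⟨1, Or.inl rfl, Or.inr (by simp)⟩

theorem psl_mem_S₀ {v : ProjectiveSpecialLinearGroup (Fin 2) K}
    (hv : v = 1 ∨ v = wP K ∨ v = jP K ∨ v = wP K * jP K) : psl K m hK v ∈ S₀ K m hK :=
  (mem_S₀ m hK).2 ⟨v, hv, Or.inl rfl⟩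

theorem centralizer_S₀ : Subgroup.centralizer ((S₀ K m hK : Subgroup ↥G¹) : Set ↥G¹) = S₀ K m hK := by
  refine le_antisymm (Subgroup.centralizer_le ?_) fun a ha => Subgroup.mem_centralizer_iff.2
    fun b hb => S₀_comm m hK hb ha
  intro a ha
  simp only [Set.mem_insert_iff, Set.mem_singleton_iff] at ha
  rcases ha with rfl | rfl | rfl
  · exact hm_mem_S₀ m hK
  · exact psl_mem_S₀ m hK (by simp)
  · exact psl_mem_S₀ m hK (by simp)

theorem card_normalizer_S₀ :
    Nat.card ↥(Subgroup.normalizer ((S₀ K m hK : Subgroup ↥G¹) : Set ↥G¹)) = 168 := by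
  classical
  haveI : Fact (Nat.Prime 2) := ⟨Nat.prime_two⟩
  set N := Subgroup.normalizer ((S₀ K m hK : Subgroup ↥G¹) : Set ↥G¹) with hN
  have hS8 := card_S₀ m hK
  have hsq : ∀ x : ↥G¹, x ∈ S₀ K m hK → x * x = 1 := fun x hx => sylow_sq m hK (P₀ K m hK) hx
  -- the orbit of `hm`
  have o1 : {y : ↥G¹ | ∃ g ∈ N, g * hmG K m * g⁻¹ = y} = ((S₀ K m hK : Set ↥G¹) \ {1}) := by
    ext y
    constructor
    · rintro ⟨g, hg, rfl⟩
      exact ⟨(Subgroup.mem_normalizer_iff.1 hg _).1 (hm_mem_S₀ m hK),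
        fun h => hmG_ne_one m hK (conj_eq_one_iff.1 h)⟩
    · rintro ⟨hy, hy1⟩
      obtain ⟨g, hg⟩ := isConj_iff.1 (isConj_hm m hK (hsq y hy) (fun h => hy1 h))
      haveI : IsMulCommutative ↥(P₀ K m hK : Subgroup ↥G¹) :=
        ⟨⟨fun a b => Subtype.ext (S₀_comm m hK a.2 b.2)⟩⟩
      obtain ⟨n, hn, hne⟩ := (P₀ K m hK).conj_eq_normalizer_conj_of_mem (hmG K m) g (hm_mem_S₀ m hK)
        (by rw [← hg, show g⁻¹ * (g * y * g⁻¹) * g = y by group]; exact hy)
      refine ⟨n⁻¹, inv_mem hn, ?_⟩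
      rw [inv_inv, ← hne, ← hg]; group
  set M := N ⊓ Subgroup.centralizer {hmG K m} with hM
  have hjw : psl K m hK (wP K) ∈ S₀ K m hK := psl_mem_S₀ m hK (by simp)
  -- the orbit of `n`
  obtain ⟨c, hc1, hc2⟩ := exists_cE K
  set c' := psl K m hK (proj c) with hc'
  have c1 : c' * psl K m hK (wP K) * c'⁻¹ = psl K m hK (jP K) := by
    rw [hc', ← map_inv, ← map_mul, ← map_mul, wP, jP, ← map_inv, ← map_mul, ← map_mul, hc1,
      mul_inv_cancel_right]
  have c2 : c' * psl K m hK (jP K) * c'⁻¹ = psl K m hK (wP K * jP K) := by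
    rw [hc', ← map_inv, ← map_mul, ← map_mul, wP, jP, ← map_inv, ← map_mul, ← map_mul, ← map_mul, hc2,
      mul_inv_cancel_right]
  have cM : c' ∈ M := by
    refine Subgroup.mem_inf.2 ⟨GL0.mem_normalizer_of_conj_le fun x hx => ?_, psl_mem_Ch m hK _⟩
    obtain ⟨v, hv, hx⟩ := (mem_S₀ m hK).1 hx
    have hh : c' * hmG K m * c'⁻¹ = hmG K m := by rw [hc', ← hm_comm_psl m hK, mul_inv_cancel_right]
    have hv' : c' * psl K m hK v * c'⁻¹ ∈ S₀ K m hK := by
      rcases hv with rfl | rfl | rfl | rfl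
      · simp
      · rw [c1]; exact psl_mem_S₀ m hK (by simp)
      · rw [c2]; exact psl_mem_S₀ m hK (by simp)
      · rw [map_mul, show c' * (psl K m hK (wP K) * psl K m hK (jP K)) * c'⁻¹ =
          (c' * psl K m hK (wP K) * c'⁻¹) * (c' * psl K m hK (jP K) * c'⁻¹) by group, c1, c2]
        exact mul_mem (psl_mem_S₀ m hK (by simp)) (psl_mem_S₀ m hK (by simp))
    rcases hx with rfl | rfl
    · exact hv'
    · rw [show c' * (hmG K m * psl K m hK v) * c'⁻¹ = (c' * hmG K m * c'⁻¹) * (c' * psl K m hK v * c'⁻¹) by group, hh]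
      exact mul_mem (hm_mem_S₀ m hK) hv'
  have hV : ∀ g ∈ M, ∀ v, (v = 1 ∨ v = wP K ∨ v = jP K ∨ v = wP K * jP K) →
      ∃ v', (v' = 1 ∨ v' = wP K ∨ v' = jP K ∨ v' = wP K * jP K) ∧
        g * psl K m hK v * g⁻¹ = psl K m hK v' := by
    intro g hg v hv
    obtain ⟨hgN, hgC⟩ := Subgroup.mem_inf.1 hg
    obtain ⟨y, hy⟩ := hm_psl_conj m hK hgC v
    obtain ⟨v', hv', h⟩ := (mem_S₀ m hK).1 ((Subgroup.mem_normalizer_iff.1 hgN _).1 (psl_mem_S₀ m hK hv))
    refine ⟨v', hv', h.resolve_right fun h => psl_ne_hm m hK (y * v'⁻¹) ?_⟩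
    rw [map_mul, map_inv, ← hy, h, mul_inv_cancel_right]
  have o2 : {y : ↥G¹ | ∃ g ∈ M, g * psl K m hK (wP K) * g⁻¹ = y} =
      psl K m hK '' {wP K, jP K, wP K * jP K} := by
    ext y
    constructor
    · rintro ⟨g, hg, rfl⟩
      obtain ⟨v', hv', h⟩ := hV g hg (wP K) (by simp)
      refine ⟨v', ?_, h.symm⟩
      rcases hv' with rfl | h'
      · rw [map_one, conj_eq_one_iff, ← map_one (psl K m hK)] at h
        exact absurd (psl_injective m hK h) wP_ne_one
      · simpa using h'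
    · rintro ⟨v, hv, rfl⟩
      simp only [Set.mem_insert_iff, Set.mem_singleton_iff] at hv
      rcases hv with rfl | rfl | rfl
      · exact ⟨1, one_mem _, by simp⟩
      · exact ⟨c', cM, c1⟩
      · exact ⟨c' * c', mul_mem cM cM, by
          rw [show c' * c' * psl K m hK (wP K) * (c' * c')⁻¹ = c' * (c' * psl K m hK (wP K) * c'⁻¹) * c'⁻¹ by group,
            c1, c2]⟩
  set L := M ⊓ Subgroup.centralizer {psl K m hK (wP K)} with hL
  have hL8 : Nat.card ↥L = 8 := by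
    have h := GL0.card_eq_conj L (psl K m hK (jP K))
    have e : L ⊓ Subgroup.centralizer {psl K m hK (jP K)} = S₀ K m hK := by
      rw [hL, hM, inf_assoc, inf_assoc, ← GL0.centralizer_insert, ← GL0.centralizer_insert]
      exact inf_eq_right.2 Subgroup.le_normalizer
    rw [e, hS8] at h
    have hsub : {y : ↥G¹ | ∃ g ∈ L, g * psl K m hK (jP K) * g⁻¹ = y} ⊆
        psl K m hK '' {jP K, wP K * jP K} := by
      rintro y ⟨g, hg, rfl⟩
      obtain ⟨hgM, hgw⟩ := Subgroup.mem_inf.1 hg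
      obtain ⟨v', hv', hv⟩ := hV g hgM (jP K) (by simp)
      refine ⟨v', ?_, hv.symm⟩
      rcases hv' with rfl | rfl | h'
      · rw [map_one, conj_eq_one_iff, ← map_one (psl K m hK)] at hv
        exact absurd (psl_injective m hK hv) jP_ne_one
      · have hw : g * psl K m hK (wP K) * g⁻¹ = psl K m hK (wP K) := by
          rw [Subgroup.mem_centralizer_singleton_iff.1 hgw, mul_inv_cancel_right]
        exact absurd (psl_injective m hK (mul_left_cancel (mul_right_cancel (hw.trans hv.symm)))) wP_ne_jP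
      · simpa using h'
    have hle : Nat.card {y : ↥G¹ // ∃ g ∈ L, g * psl K m hK (jP K) * g⁻¹ = y} ≤ 2 := by
      rw [show Nat.card {y : ↥G¹ // ∃ g ∈ L, g * psl K m hK (jP K) * g⁻¹ = y} =
        Set.ncard {y : ↥G¹ | ∃ g ∈ L, g * psl K m hK (jP K) * g⁻¹ = y} from rfl]
      refine (Set.ncard_le_ncard hsub).trans ((Set.ncard_image_le).trans ?_)
      exact (Set.ncard_insert_le _ _).trans (by rw [Set.ncard_singleton])
    obtain ⟨r, hr, hG⟩ := card_two_part (K := K) m hK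
    have hd : Nat.card ↥L ∣ 8 * r := hG ▸ Subgroup.card_subgroup_dvd_card L
    rw [h] at hd ⊢
    generalize Nat.card {y : ↥G¹ // ∃ g ∈ L, g * psl K m hK (jP K) * g⁻¹ = y} = k at h hle hd ⊢
    have hpos : 0 < Nat.card ↥L := Nat.card_pos
    rw [h] at hpos
    rcases (show k = 1 ∨ k = 2 by omega) with rfl | rfl
    · rfl
    · exact absurd ((Nat.mul_dvd_mul_iff_left (by norm_num : 0 < 8)).1 (show 8 * 2 ∣ 8 * r by simpa using hd))
        (fun h => Nat.not_even_iff_odd.2 hr (even_iff_two_dvd.2 h))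
  obtain ⟨h1, h2, h3⟩ := wP_jP_ne (K := K)
  have hM24 : Nat.card ↥M = 24 := by
    rw [GL0.card_eq_conj M (psl K m hK (wP K)), ← hL, hL8,
      show Nat.card {y : ↥G¹ // ∃ g ∈ M, g * psl K m hK (wP K) * g⁻¹ = y} =
        Set.ncard {y : ↥G¹ | ∃ g ∈ M, g * psl K m hK (wP K) * g⁻¹ = y} from rfl, o2,
      Set.ncard_image_of_injective _ (psl_injective m hK),
      Set.ncard_insert_of_notMem (by simp [wP_ne_jP, h2.symm]),
      Set.ncard_insert_of_notMem (by simp [h3.symm]), Set.ncard_singleton]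
  rw [GL0.card_eq_conj N (hmG K m), ← hM, hM24,
    show Nat.card {y : ↥G¹ // ∃ g ∈ N, g * hmG K m * g⁻¹ = y} =
      Set.ncard {y : ↥G¹ | ∃ g ∈ N, g * hmG K m * g⁻¹ = y} from rfl, o1,
    Set.ncard_sdiff (by simp [(S₀ K m hK).one_mem]), ← Nat.card_coe_set_eq, SetLike.coe_sort_coe, hS8,
    Set.ncard_singleton]

include hK in
theorem sylow_two_normalizer (S : Sylow 2 ↥G¹) :
    Subgroup.centralizer ((S : Subgroup ↥G¹) : Set ↥G¹) = S ∧
      Nat.card ↥(Subgroup.normalizer ((S : Subgroup ↥G¹) : Set ↥G¹)) = 168 := by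
  haveI : Fact (Nat.Prime 2) := ⟨Nat.prime_two⟩
  obtain ⟨c, rfl⟩ := MulAction.exists_smul_eq ↥G¹ (P₀ K m hK) S
  have e : ((c • P₀ K m hK : Sylow 2 ↥G¹) : Subgroup ↥G¹) = (S₀ K m hK).map (MulAut.conj c).toMonoidHom := rfl
  rw [e]
  constructor
  · rw [show (((S₀ K m hK).map (MulAut.conj c).toMonoidHom : Subgroup ↥G¹) : Set ↥G¹) =
      MulAut.conj c '' (S₀ K m hK : Set ↥G¹) from rfl, ← GL0.map_conj_centralizer, centralizer_S₀]
  · rw [← Subgroup.map_equiv_normalizer_eq, ← card_normalizer_S₀ m hK]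
    exact (Nat.card_congr (Subgroup.equivMapOfInjective _ _ (MulEquiv.injective (MulAut.conj c))).toEquiv).symm

end CfsgLib.Chev.Ree
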