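import Cfsg.Agent.Chev.Ree.Counting

/-! The two classes of tori of a small Ree group attached to `q ± r + 1`. -/

set_option autoImplicit false
set_option maxRecDepth 100000
set_option linter.style.haveILetI false
set_option linter.unusedSectionVars false

namespace CfsgLib.Chev.Ree

open Cfsg.Lie CfsgLib.Chev Matrix

universe u

variable {K : Type u} [Field K] [Finite K] [CharP K 3] (m : ℕ)

local notation "G¹" => twistedG2 K (3 ^ m)
local notation "qq" => (3 ^ (2 * m + 1) : ℕ)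

/-- The elements conjugate to a non-trivial element of the centraliser of `x`. -/
def torusSet (x : ↥(twistedG2 K (3 ^ m))) : Set ↥(twistedG2 K (3 ^ m)) :=
  GL0.conjSet ((Subgroup.centralizer {x} : Set ↥(twistedG2 K (3 ^ m))) \ {1})

variable (hK : Nat.card K = 3 ^ (2 * m + 1))

include hK in
theorem torusSet_sub (hm : 1 ≤ m) {x : ↥G¹} (hx : IsTorusElt m x) :
    torusSet m x ⊆ {y : ↥G¹ | y ≠ 1 ∧ y ^ Nq m = 1} := by
  rintro y ⟨g, hg, hg1⟩
  refine ⟨fun e => hg1 (by simp [e]), conj_eq_one_iff.1 ((conj_pow (a := g) (b := y)).symm.trans ?_)⟩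
  rw [← orderOf_dvd_iff_pow_eq_one, ← Subgroup.orderOf_mk _ hg]
  exact (orderOf_dvd_natCard _).trans (card_torus_dvd m hK hm hx)

include hK in
theorem card_torusSet (hm : 1 ≤ m) {x : ↥G¹} (hx : IsTorusElt m x) {n : ℕ}
    (hn : Nat.card ↥(Subgroup.normalizer ((Subgroup.centralizer {x} : Subgroup ↥G¹) : Set ↥G¹)) =
      n * Nat.card ↥(Subgroup.centralizer {x})) :
    (torusSet m x).ncard * (n * Nat.card ↥(Subgroup.centralizer {x})) =
      Nat.card ↥G¹ * (Nat.card ↥(Subgroup.centralizer {x}) - 1) := by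
  have h := GL0.card_conjSet (W := (Subgroup.centralizer {x} : Set ↥G¹) \ {1})
    (N := Subgroup.normalizer ((Subgroup.centralizer {x} : Subgroup ↥G¹) : Set ↥G¹))
    (fun g hg y hy => ⟨(Subgroup.mem_normalizer_iff.1 hg y).1 hy.1, fun e => hy.2 (conj_eq_one_iff.1 e)⟩)
    (fun y hy g hg => by
      refine GL0.mem_normalizer_of_conj_le fun a ha => ?_
      rw [← centralizer_torus_elt m hK hm hx hg.1 hg.2, Subgroup.mem_centralizer_singleton_iff,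
        show ∀ a b : ↥G¹, g * a * g⁻¹ * (g * b * g⁻¹) = g * (a * b) * g⁻¹ from fun a b => by group,
        show ∀ a b : ↥G¹, g * a * g⁻¹ * (g * b * g⁻¹) = g * (a * b) * g⁻¹ from fun a b => by group,
        torus_comm m hK hx ha hy.1])
  rw [hn, Set.ncard_sdiff (by simp [one_mem]), ← Nat.card_coe_set_eq
    (Subgroup.centralizer {x} : Set ↥G¹), SetLike.coe_sort_coe, Set.ncard_singleton] at h
  exact h

include hK in
theorem torusSet_inter (hm : 1 ≤ m) {x₁ x₂ : ↥G¹} (h₁ : IsTorusElt m x₁) (h₂ : IsTorusElt m x₂) {s : ↥G¹}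
    (hs₁ : s ∈ torusSet m x₁) (hs₂ : s ∈ torusSet m x₂) {a : ↥G¹} (ha : a ∈ Subgroup.centralizer {x₂})
    (ha1 : a ≠ 1) : a ∈ torusSet m x₁ := by
  obtain ⟨g₁, hg₁, hg₁1⟩ := hs₁
  obtain ⟨g₂, hg₂, -⟩ := hs₂
  refine ⟨g₁ * g₂⁻¹, ?_, fun e => ha1 (conj_eq_one_iff.1 e)⟩
  rw [SetLike.mem_coe, ← centralizer_torus_elt m hK hm h₁ hg₁ hg₁1, Subgroup.mem_centralizer_singleton_iff]
  have h := torus_comm m hK h₂ ha hg₂
  calc g₁ * g₂⁻¹ * a * (g₁ * g₂⁻¹)⁻¹ * (g₁ * s * g₁⁻¹)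
      = g₁ * g₂⁻¹ * (a * (g₂ * s * g₂⁻¹)) * g₂ * g₁⁻¹ := by group
    _ = g₁ * g₂⁻¹ * (g₂ * s * g₂⁻¹ * a) * g₂ * g₁⁻¹ := by rw [h]
    _ = g₁ * s * g₁⁻¹ * (g₁ * g₂⁻¹ * a * (g₁ * g₂⁻¹)⁻¹) := by group

include hK in
theorem exists_torus_elt (hm : 1 ≤ m) {y : ↥G¹} (hy : y ≠ 1) (hN : y ^ Nq m = 1) :
    ∃ x : ↥G¹, IsTorusElt m x ∧ y ∈ Subgroup.centralizer {x} := by
  obtain ⟨p, hp, hpd⟩ := Nat.exists_prime_and_dvd (fun e => hy (orderOf_eq_one_iff.1 e))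
  have hzo : orderOf (y ^ (orderOf y / p)) = p := orderOf_pow_orderOf_div (orderOf_pos y).ne' hpd
  refine ⟨y ^ (orderOf y / p), ⟨hzo.symm ▸ hp, hzo.symm ▸ hpd.trans (orderOf_dvd_of_pow_eq_one hN)⟩,
    Subgroup.mem_centralizer_singleton_iff.2 ((Commute.refl y).pow_right _).eq⟩

include hK in
theorem mem_torusSet (hm : 1 ≤ m) {x a : ↥G¹} (ha : a ∈ Subgroup.centralizer {x}) (ha1 : a ≠ 1) :
    a ∈ torusSet m x :=
  GL0.subset_conjSet _ ⟨ha, ha1⟩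

theorem self_mem_centralizer_elt (x : ↥(twistedG2 K (3 ^ m))) : x ∈ Subgroup.centralizer {x} :=
  Subgroup.mem_centralizer_singleton_iff.2 rfl

include hK in
theorem seven_le_card (hm : 1 ≤ m) {x : ↥G¹} (hx : IsTorusElt m x) :
    7 ≤ Nat.card ↥(Subgroup.centralizer {x}) := by
  have hd : orderOf x ∣ Nat.card ↥(Subgroup.centralizer {x}) := by
    rw [← Subgroup.orderOf_mk x (self_mem_centralizer_elt m x)]
    exact orderOf_dvd_natCard _
  refine le_trans ?_ (Nat.le_of_dvd Nat.card_pos hd)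
  obtain ⟨h2, h3, -, -, -, hmin⟩ := prime_dvd_Nq m hx.1 hx.2
  have h5 : orderOf x ≠ 5 := by
    intro e
    refine hmin 4 (by norm_num) (by norm_num) ?_
    rw [e, ← pow_mul, show (2 * m + 1) * 4 = 4 * (2 * m + 1) by ring, pow_mul, Nat.pow_mod]
    norm_num
  have hp := hx.1
  generalize orderOf x = p at hp h2 h3 h5
  by_contra hlt
  push Not at hlt
  interval_cases p <;> first | omega | exact absurd hp (by norm_num)

include hK in
/-- The tori of orders `q ± r + 1`, `r = 3^(m+1)`, and the cover of the elements of order dividing `q² - q + 1`. -/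
theorem exists_tori (hm : 1 ≤ m) : ∃ x₁ x₂ : ↥G¹, IsTorusElt m x₁ ∧ IsTorusElt m x₂ ∧
    Nat.card ↥(Subgroup.centralizer {x₁}) = 3 ^ (2 * m + 1) - 3 ^ (m + 1) + 1 ∧
    Nat.card ↥(Subgroup.centralizer {x₂}) = 3 ^ (2 * m + 1) + 3 ^ (m + 1) + 1 ∧
    Nat.card ↥(Subgroup.normalizer ((Subgroup.centralizer {x₁} : Subgroup ↥G¹) : Set ↥G¹)) =
      6 * Nat.card ↥(Subgroup.centralizer {x₁}) ∧
    Nat.card ↥(Subgroup.normalizer ((Subgroup.centralizer {x₂} : Subgroup ↥G¹) : Set ↥G¹)) =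
      6 * Nat.card ↥(Subgroup.centralizer {x₂}) ∧
    Nat.Coprime (Nat.card ↥(Subgroup.centralizer {x₁})) (Nat.card ↥(Subgroup.centralizer {x₂})) ∧
    ∀ y : ↥G¹, y ≠ 1 → y ^ Nq m = 1 →
      (∃ g : ↥G¹, g * y * g⁻¹ ∈ Subgroup.centralizer {x₁}) ∨
        ∃ g : ↥G¹, g * y * g⁻¹ ∈ Subgroup.centralizer {x₂} := by
  set EN := {y : ↥G¹ | y ≠ 1 ∧ y ^ Nq m = 1} with hENdef
  have hEN : 3 * (EN.ncard : ℤ) = _ := card_EN (K := K) m hK hm
  have hG : (Nat.card ↥G¹ : ℤ) =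
      ((3 : ℤ) ^ (2 * m + 1)) ^ 3 * (((3 : ℤ) ^ (2 * m + 1)) ^ 2 - 1) * Nq m := by
    rw [card_group_Nq m hK, Nat.cast_mul, Nat.cast_mul, Nat.cast_mul, Nat.cast_sub (Nat.one_le_pow _ _ (by norm_num))]
    push_cast; ring
  have hq : (27 : ℤ) ≤ (3 : ℤ) ^ (2 * m + 1) :=
    le_trans (le_of_eq (by norm_num)) (pow_le_pow_right₀ (by norm_num) (show 3 ≤ 2 * m + 1 by omega))
  have hN : (Nq m : ℤ) = ((3 : ℤ) ^ (2 * m + 1)) ^ 2 - 3 ^ (2 * m + 1) + 1 := Nq_spec m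
  have hr : ((3 : ℤ) ^ (m + 1)) ^ 2 = 3 * 3 ^ (2 * m + 1) := by
    rw [← pow_mul, ← pow_succ']; congr 1; ring
  have hr0 : (0 : ℤ) ≤ (3 : ℤ) ^ (m + 1) := by positivity
  have hrq : 3 ^ (m + 1) ≤ 3 ^ (2 * m + 1) := Nat.pow_le_pow_right (by norm_num) (by omega)
  have hGpos : (0 : ℤ) < Nat.card ↥G¹ := by exact_mod_cast Nat.card_pos
  set g : ℤ := (Nat.card ↥G¹ : ℤ) with hgdef
  set q : ℤ := (3 : ℤ) ^ (2 * m + 1) with hqdef
  clear_value q g
  -- the key identity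
  have hkey : 3 * (EN.ncard : ℤ) * Nq m = g * (q * (q - 2)) := by rw [hEN, hG]; ring
  have hlt : 3 * (EN.ncard : ℤ) < g := by
    have hNpos : (0 : ℤ) < Nq m := by rw [hN]; nlinarith
    nlinarith [mul_lt_mul_of_pos_left (show q * (q - 2) < Nq m by rw [hN]; linarith) hGpos]
  have hexp : ∀ x : ↥G¹, IsTorusElt m x → ∃ n : ℕ, (n = 1 ∨ n = 2 ∨ n = 3 ∨ n = 4 ∨ n = 6) ∧
      Nat.card ↥(Subgroup.normalizer ((Subgroup.centralizer {x} : Subgroup ↥G¹) : Set ↥G¹)) =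
        n * Nat.card ↥(Subgroup.centralizer {x}) ∧
      ((torusSet m x).ncard : ℤ) * ((n : ℤ) * Nat.card ↥(Subgroup.centralizer {x})) =
        g * ((Nat.card ↥(Subgroup.centralizer {x}) : ℤ) - 1) ∧
      (7 : ℤ) ≤ Nat.card ↥(Subgroup.centralizer {x}) := by
    intro x hx
    obtain ⟨n, hn, hcard⟩ := card_normalizer_torus m hK hm hx
    have h := card_torusSet m hK hm hx hcard
    zify [Nat.one_le_iff_ne_zero.2 (Nat.card_pos (α := ↥(Subgroup.centralizer ({x} : Set ↥G¹)))).ne'] at h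
    exact ⟨n, hn, hcard, hgdef ▸ h, by exact_mod_cast seven_le_card m hK hm hx⟩
  -- the first torus
  obtain ⟨p, hp, hpd⟩ := Nat.exists_prime_and_dvd (n := Nq m) (by
    intro e; rw [e] at hN; push_cast at hN; nlinarith)
  haveI : Fact p.Prime := ⟨hp⟩
  obtain ⟨x, hxo⟩ := exists_prime_orderOf_dvd_card' (G := ↥G¹) p
    (card_group_Nq (K := K) m hK ▸ hpd.mul_left _)
  have hx : IsTorusElt m x := ⟨hxo.symm ▸ hp, hxo.symm ▸ hpd⟩
  obtain ⟨n₁, hn₁, hN₁, hW₁, ht₁⟩ := hexp x hx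
  -- the second torus
  have hne : ¬ EN ⊆ torusSet m x := by
    intro hsub
    rw [Set.Subset.antisymm hsub (torusSet_sub m hK hm hx)] at hkey
    generalize ((torusSet m x).ncard : ℤ) = w at hkey hW₁
    generalize (Nat.card ↥(Subgroup.centralizer ({x} : Set ↥G¹)) : ℤ) = t at hW₁ ht₁
    have h : 3 * (Nq m : ℤ) * (t - 1) = (n₁ : ℤ) * t * (q * (q - 2)) := by
      refine mul_left_cancel₀ hGpos.ne' ?_
      linear_combination ((n₁ : ℤ) * t) * hkey - 3 * (Nq m : ℤ) * hW₁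
    rw [hN] at h
    rcases hn₁ with rfl | rfl | rfl | rfl | rfl <;> push_cast at h
    · nlinarith
    · nlinarith
    · have hd : t * (q + 1) = q ^ 2 - q + 1 :=
        mul_left_cancel₀ (show (3 : ℤ) ≠ 0 by norm_num) (by linear_combination h)
      have h3 : (q + 1) * (t - q + 2) = 3 := by linear_combination hd
      rcases le_or_gt 1 (t - q + 2) with hc | hc
      · nlinarith
      · nlinarith
    · nlinarith [mul_nonneg (show (0 : ℤ) ≤ t by linarith) (show (0 : ℤ) ≤ q ^ 2 - 5 * q - 3 by nlinarith)]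
    · nlinarith [mul_nonneg (show (0 : ℤ) ≤ t by linarith) (show (0 : ℤ) ≤ 3 * q ^ 2 - 9 * q - 3 by nlinarith)]
  obtain ⟨y₂, hy₂, hy₂'⟩ := Set.not_subset.1 hne
  obtain ⟨x', hx', hyx'⟩ := exists_torus_elt m hK hm hy₂.1 hy₂.2
  obtain ⟨n₂, hn₂, hN₂, hW₂, ht₂⟩ := hexp x' hx'
  have hdisj : ∀ {a b : ↥G¹}, IsTorusElt m a → IsTorusElt m b → ∀ z, z ∈ Subgroup.centralizer {b} → z ≠ 1 →
      z ∉ torusSet m a → Disjoint (torusSet m a) (torusSet m b) := fun ha hb z hz hz1 hza =>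
    Set.disjoint_left.2 fun s h1 h2 => hza (torusSet_inter m hK hm ha hb h1 h2 hz hz1)
  have hd12 := hdisj hx hx' y₂ hyx' hy₂.1 hy₂'
  have hsub12 : torusSet m x ∪ torusSet m x' ⊆ EN :=
    Set.union_subset (torusSet_sub m hK hm hx) (torusSet_sub m hK hm hx')
  have h7 : ∀ {n : ℕ} {w t : ℤ}, n ≤ 6 → 0 ≤ w → (7 : ℤ) ≤ t → w * (n * t) = g * (t - 1) → g ≤ 7 * w := by
    intro n w t hn hw ht h
    have hn' : (n : ℤ) ≤ 6 := by exact_mod_cast hn
    nlinarith [mul_le_mul_of_nonneg_left (mul_le_mul_of_nonneg_right hn' (by linarith : (0 : ℤ) ≤ t)) hw]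
  have hcov : EN ⊆ torusSet m x ∪ torusSet m x' := by
    intro y₃ hy₃
    by_contra hy₃'
    rw [Set.mem_union, not_or] at hy₃'
    obtain ⟨x'', hx'', hyx''⟩ := exists_torus_elt m hK hm hy₃.1 hy₃.2
    obtain ⟨n₃, hn₃, -, hW₃, ht₃⟩ := hexp x'' hx''
    have hd3 : Disjoint (torusSet m x ∪ torusSet m x') (torusSet m x'') := Set.disjoint_union_left.2
      ⟨hdisj hx hx'' y₃ hyx'' hy₃.1 hy₃'.1, hdisj hx' hx'' y₃ hyx'' hy₃.1 hy₃'.2⟩
    have hle := Set.ncard_le_ncard (Set.union_subset hsub12 (torusSet_sub m hK hm hx''))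
    rw [Set.ncard_union_eq hd3, Set.ncard_union_eq hd12] at hle
    zify at hle
    have e1 := h7 (by omega) (by positivity) ht₁ hW₁
    have e2 := h7 (by omega) (by positivity) ht₂ hW₂
    have e3 := h7 (by omega) (by positivity) ht₃ hW₃
    linarith
  have hsum : (EN.ncard : ℤ) = (torusSet m x).ncard + (torusSet m x').ncard := by
    rw [Set.Subset.antisymm hcov hsub12, Set.ncard_union_eq hd12]; push_cast; rfl
  have hn6 : n₁ = 6 ∧ n₂ = 6 := by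
    have h14 : ∀ {n : ℕ} {w t : ℤ}, n ≤ 4 → 0 ≤ w → (7 : ℤ) ≤ t → w * (n * t) = g * (t - 1) → 3 * g ≤ 14 * w := by
      intro n w t hn hw ht h
      have hn' : (n : ℤ) ≤ 4 := by exact_mod_cast hn
      nlinarith [mul_le_mul_of_nonneg_left (mul_le_mul_of_nonneg_right hn' (by linarith : (0 : ℤ) ≤ t)) hw]
    constructor <;> by_contra hne6
    · have := h14 (by omega) (by positivity) ht₁ hW₁
      have := h7 (by omega) (by positivity) ht₂ hW₂
      linarith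
    · have := h7 (by omega) (by positivity) ht₁ hW₁
      have := h14 (by omega) (by positivity) ht₂ hW₂
      linarith
  obtain ⟨rfl, rfl⟩ := hn6
  -- the orders
  have hcop : Nat.Coprime (Nat.card ↥(Subgroup.centralizer {x})) (Nat.card ↥(Subgroup.centralizer {x'})) := by
    refine Nat.coprime_of_dvd fun r hr h1 h2 => ?_
    haveI : Fact r.Prime := ⟨hr⟩
    obtain ⟨⟨z, hz⟩, hzo⟩ := exists_prime_orderOf_dvd_card' r h2
    rw [Subgroup.orderOf_mk] at hzo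
    have hz1 : z ≠ 1 := fun e => hr.one_lt.ne (by rw [← hzo, e, orderOf_one])
    obtain ⟨s, hs, hs'⟩ := torus_hall m hK hm hx
    obtain ⟨g, hg⟩ := GL0.conj_into _ hs (hs' r hr h1) (n := 1) (x := z) (by rw [pow_one, ← hzo, pow_orderOf_eq_one])
    exact Set.disjoint_left.1 hd12 (show z ∈ torusSet m x from ⟨g, hg, fun e => hz1 (conj_eq_one_iff.1 e)⟩)
      (mem_torusSet m hK hm hz hz1)
  obtain ⟨s, hs⟩ := hcop.mul_dvd_of_dvd_of_dvd (card_torus_dvd m hK hm hx) (card_torus_dvd m hK hm hx')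
  have hsN : s ∣ Nq m := ⟨_, by rw [hs, mul_comm]⟩
  have hscop := (coprimes (K := K) m hK)
  have hS : (s : ℤ) * ((Nat.card ↥(Subgroup.centralizer {x}) : ℤ) + Nat.card ↥(Subgroup.centralizer {x'})) =
      2 * (q + 1) ∧ (Nq m : ℤ) = (Nat.card ↥(Subgroup.centralizer {x}) : ℤ) *
        Nat.card ↥(Subgroup.centralizer {x'}) * s := by
    refine ⟨?_, by rw [hs]; push_cast; ring⟩
    have hNz : (Nq m : ℤ) = (Nat.card ↥(Subgroup.centralizer {x}) : ℤ) *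
        Nat.card ↥(Subgroup.centralizer {x'}) * s := by rw [hs]; push_cast; ring
    push_cast at hW₁ hW₂
    rw [hsum] at hkey
    generalize ((torusSet m x).ncard : ℤ) = w₁ at hkey hW₁
    generalize ((torusSet m x').ncard : ℤ) = w₂ at hkey hW₂
    generalize (Nat.card ↥(Subgroup.centralizer ({x} : Set ↥G¹)) : ℤ) = t₁ at hW₁ ht₁ hNz ⊢
    generalize (Nat.card ↥(Subgroup.centralizer ({x'} : Set ↥G¹)) : ℤ) = t₂ at hW₂ ht₂ hNz ⊢
    refine mul_left_cancel₀ (mul_ne_zero hGpos.ne' (mul_ne_zero (show t₁ ≠ 0 by omega) (show t₂ ≠ 0 by omega))) ?_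
    linear_combination (-2 * t₁ * t₂) * hkey + (Nq m : ℤ) * t₂ * hW₁ + (Nq m : ℤ) * t₁ * hW₂
      + (2 * g * t₁ * t₂) * hN - g * (t₁ + t₂) * hNz
  have hs1 : s = 1 := by
    by_contra hne1
    obtain ⟨r, hr, hrs⟩ := Nat.exists_prime_and_dvd hne1
    obtain ⟨h2, -, -, hpp, -, -⟩ := prime_dvd_Nq m hr (hrs.trans hsN)
    have hd : r ∣ 2 * (qq + 1) := hrs.trans ⟨Nat.card ↥(Subgroup.centralizer {x}) + Nat.card ↥(Subgroup.centralizer {x'}), by
      zify; rw [← hqdef]; exact hS.1.symm⟩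
    rcases hr.dvd_mul.1 hd with h | h
    · exact h2 ((Nat.prime_dvd_prime_iff_eq hr Nat.prime_two).1 h)
    · exact hpp h
  subst hs1
  obtain ⟨hS1, hS2⟩ := hS
  rw [hN] at hS2
  push_cast at hS1 hS2
  have hroots : ∀ {a b : ℕ}, (a : ℤ) + b = 2 * (q + 1) → (a : ℤ) * b = q ^ 2 - q + 1 →
      (a = 3 ^ (2 * m + 1) - 3 ^ (m + 1) + 1 ∧ b = 3 ^ (2 * m + 1) + 3 ^ (m + 1) + 1) ∨
        (b = 3 ^ (2 * m + 1) - 3 ^ (m + 1) + 1 ∧ a = 3 ^ (2 * m + 1) + 3 ^ (m + 1) + 1) := by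
    intro a b hab hmul
    have hz : ((a : ℤ) - (q + 1)) ^ 2 = ((3 : ℤ) ^ (m + 1)) ^ 2 := by
      rw [hr]; linear_combination (a : ℤ) * hab - hmul
    rcases sq_eq_sq_iff_eq_or_eq_neg.1 hz with h | h
    · refine Or.inr ⟨?_, ?_⟩ <;> zify [hrq] <;> rw [← hqdef] <;> linarith
    · refine Or.inl ⟨?_, ?_⟩ <;> zify [hrq] <;> rw [← hqdef] <;> linarith
  have hall : ∀ y : ↥G¹, y ≠ 1 → y ^ Nq m = 1 →
      (∃ g : ↥G¹, g * y * g⁻¹ ∈ Subgroup.centralizer {x}) ∨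
        ∃ g : ↥G¹, g * y * g⁻¹ ∈ Subgroup.centralizer {x'} := fun y h1 h2 => by
    rcases hcov ⟨h1, h2⟩ with ⟨g, hg, -⟩ | ⟨g, hg, -⟩
    · exact Or.inl ⟨g, hg⟩
    · exact Or.inr ⟨g, hg⟩
  rcases hroots (a := Nat.card ↥(Subgroup.centralizer {x})) (b := Nat.card ↥(Subgroup.centralizer {x'})) (by linear_combination hS1) (by linear_combination -hS2) with ⟨ha, hb⟩ | ⟨hb, ha⟩
  · exact ⟨x, x', hx, hx', ha, hb, hN₁, hN₂, hcop, hall⟩
  · exact ⟨x', x, hx', hx, hb, ha, hN₂, hN₁, hcop.symm, fun y h1 h2 => (hall y h1 h2).symm⟩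

end CfsgLib.Chev.Ree
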