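import Cfsg.Agent.Chev.Ree.Cosets

/-! The torus of the small Ree groups, the pair of orthogonal roots `a+b`, `3a+b`. -/

set_option autoImplicit false
set_option maxRecDepth 100000
set_option linter.style.haveILetI false
set_option linter.unusedSectionVars false

namespace CfsgLib.Chev.Ree

open Cfsg.Lie CfsgLib.Chev Matrix

universe u

variable {K : Type u} [Field K] [Finite K] [CharP K 3] (m : ℕ)

local notation "θ" => (3 ^ m : ℕ)

variable (hK : Nat.card K = 3 ^ (2 * m + 1))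

theorem two_ne_zero' : (2 : K) ≠ 0 := Ring.two_ne_zero (by rw [ringChar.eq K 3]; norm_num)

include hK in
theorem not_isSquare_neg_one : ¬ IsSquare (-1 : K) := by
  haveI := Fintype.ofFinite K
  rw [FiniteField.isSquare_neg_one_iff, not_not, ← Nat.card_eq_fintype_card, hK, pow_succ, pow_mul]
  norm_num [Nat.mul_mod, Nat.pow_mod]

include hK in
theorem sq_ne_neg_one (x : K) : x * x ≠ -1 := fun h => not_isSquare_neg_one m hK ⟨x, h.symm⟩

/-! ### The torus -/

theorem torus_apply_eq {z : ℕ → Kˣ} (h : SG.dg z ∈ H1 K m) :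
    (torus K m hK (z 0) : GL chevG2.Idx K) = SG.dg z :=
  dg_eq_of_coord m hK (exists_coord m hK (z 0)).choose_spec.2.1 h (exists_coord m hK (z 0)).choose_spec.1

include hK in
theorem H1_comm {g h : GL chevG2.Idx K} (hg : g ∈ H1 K m) (hh : h ∈ H1 K m) : g * h = h * g := by
  obtain ⟨a, ha⟩ := (torus K m hK).surjective ⟨g, hg⟩
  obtain ⟨b, hb⟩ := (torus K m hK).surjective ⟨h, hh⟩
  have := congrArg Subtype.val (show torus K m hK a * torus K m hK b = torus K m hK b * torus K m hK a by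
    rw [← map_mul, ← map_mul, mul_comm])
  rw [ha, hb] at this
  exact this

include hK in
theorem hm_mem_H1 : hm K ∈ H1 K m :=
  Subgroup.mem_inf.2 ⟨hm_mem_diag, twisted_le_fixed m hK (hm_mem m)⟩

theorem hm_eq_torus : hm K = (torus K m hK (-1) : GL chevG2.Idx K) := by
  obtain ⟨z, hz, hz0⟩ := hm_coord (K := K)
  rw [hz, show (-1 : Kˣ) = z 0 from Units.ext (by rw [hz0, Units.val_neg, Units.val_one])]
  exact (torus_apply_eq m hK (hz ▸ hm_mem_H1 m hK)).symm

include hK in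
theorem hm_mul_hm : hm K * hm K = 1 := by
  rw [hm_eq_torus m hK, ← Subgroup.coe_mul, ← map_mul]
  simp

include hK in
theorem hm_ne_one : hm K ≠ 1 := by
  rw [hm_eq_torus m hK]
  intro h
  have h1 : torus K m hK (-1) = torus K m hK 1 := by rw [map_one]; exact Subtype.ext h
  have h2 := congrArg Units.val ((torus K m hK).injective h1)
  simp at h2
  exact two_ne_zero' (K := K) (by linear_combination -h2)

include hK in
/-- The only involution of the torus. -/
theorem H1_involution {g : GL chevG2.Idx K} (hg : g ∈ H1 K m) (h2 : g * g = 1) : g = 1 ∨ g = hm K := by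
  obtain ⟨c, hc⟩ := (torus K m hK).surjective ⟨g, hg⟩
  have h : c * c = 1 := (torus K m hK).injective (by rw [map_mul, map_one, hc]; exact Subtype.ext h2)
  have h' : (c : K) * c = 1 := by rw [← Units.val_mul, h, Units.val_one]
  have hg' : g = (torus K m hK c : GL chevG2.Idx K) := congrArg Subtype.val hc.symm
  rcases mul_self_eq_one_iff.1 h' with h1 | h1
  · left; rw [hg', show c = 1 from Units.ext h1, map_one]; rfl
  · right; rw [hg', hm_eq_torus m hK, show c = -1 from Units.ext (by rw [h1, Units.val_neg, Units.val_one])]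

theorem neg7 : chevG2.neg 7 = 4 := negG2 (r := 7) (by omega)

include hK in
/-- `n` inverts the torus. -/
theorem nJ_conj_torus {g : GL chevG2.Idx K} (hg : g ∈ H1 K m) : nJ K * g * (nJ K)⁻¹ = g⁻¹ := by
  obtain ⟨z, rfl⟩ := SG.exists_dg (Subgroup.mem_inf.1 hg).1
  have hg' : nJ K * SG.dg z * (nJ K)⁻¹ ∈ H1 K m := (gdata K m hK).H1_conj 0 _ hg
  obtain ⟨z', hz'⟩ := SG.exists_dg (Subgroup.mem_inf.1 hg').1
  rw [hz'] at hg' ⊢
  have e := congrArg (fun x => nJ K * x * (nJ K)⁻¹) (SG.dg_conj_xU z (r := 7) (by decide) (1 : K))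
  simp only [show ∀ a b : GL chevG2.Idx K, nJ K * (a * b * a⁻¹) * (nJ K)⁻¹ =
    (nJ K * a * (nJ K)⁻¹) * (nJ K * b * (nJ K)⁻¹) * (nJ K * a * (nJ K)⁻¹)⁻¹ from fun a b => by group,
    nJ_conj (r := 7) (by omega), hz', mul_one] at e
  rw [SG.dg_conj_xU z' (r := 11 - 7) (by decide)] at e
  have e' := SG.coef_eq (r := 11 - 7) (by decide) e
  rw [show 11 - 7 = chevG2.neg 7 from neg7.symm, SG.chi_neg z' (r := 7) (by decide), chi7, chi7] at e'
  have h0 : z' 0 = (z 0)⁻¹ := by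
    refine eq_inv_of_mul_eq_one_left (Units.ext ?_)
    simp [Units.val_inv_eq_inv_val] at e' ⊢
    rw [← e', mul_inv_cancel₀ (z' 0).ne_zero]
  rw [← torus_apply_eq m hK hg', ← torus_apply_eq m hK hg, h0, map_inv]
  rfl

/-! ### The root pair -/

/-- The positive element of the pair of roots `a+b`, `3a+b`. -/
noncomputable def xG (t : K) : GL chevG2.Idx K := WR m 0 t 0

/-- The torus element of the pair of roots. -/
noncomputable def hG (s : K) : GL chevG2.Idx K := SG.hU 8 (s ^ θ) * SG.hU 10 s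

theorem xG_add (a b : K) : xG m a * xG m b = xG m (a + b) := by rw [xG, xG, WR_add, add_zero]; rfl

theorem xG_zero : xG m (0 : K) = 1 := WR_zero m

theorem hG_eq_dg (u : Kˣ) : hG m (u : K) = SG.dg (hz chevG2 8 (u ^ θ) * hz chevG2 10 u) := by
  rw [hG, Sys.dg_mul, ← SG.hU_eq_dg (r := 8) (by decide), ← SG.hU_eq_dg (r := 10) (by decide),
    Units.val_pow_eq_pow_val]

theorem hG_mem {s : K} (hs : s ≠ 0) : hG m s ∈ twistedG2 K θ := pair_h_mem m (Units.mk0 s hs)

include hK in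
theorem hG_mem_H1 {s : K} (hs : s ≠ 0) : hG m s ∈ H1 K m :=
  Subgroup.mem_inf.2 ⟨mul_mem (SG.hU_mem_diag (r := 8) (by decide) (pow_ne_zero _ hs))
    (SG.hU_mem_diag (r := 10) (by decide) hs), twisted_le_fixed m hK (hG_mem m hs)⟩

theorem hG_eq_torus (u : Kˣ) : hG m (u : K) = (torus K m hK ((u ^ θ)⁻¹ * u) : GL chevG2.Idx K) := by
  have h : hz chevG2 8 (u ^ θ) 0 * hz chevG2 10 u 0 = (u ^ θ)⁻¹ * u := by
    simp [hz, cr_values.1, cr_values.2]
  rw [hG_eq_dg, ← h, ← Pi.mul_apply, torus_apply_eq m hK]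
  rw [← hG_eq_dg]; exact hG_mem_H1 m hK u.ne_zero

include hK in
theorem hG_mul {s t : K} (hs : s ≠ 0) (ht : t ≠ 0) : hG m s * hG m t = hG m (s * t) := by
  lift s to Kˣ using hs.isUnit
  lift t to Kˣ using ht.isUnit
  rw [← Units.val_mul, hG_eq_torus m hK, hG_eq_torus m hK, hG_eq_torus m hK, ← Subgroup.coe_mul, ← map_mul,
    mul_pow, mul_inv]
  congr 2
  ac_rfl

include hK in
theorem hG_one : hG m (1 : K) = 1 := by rw [← Units.val_one, hG_eq_torus m hK]; simp

include hK in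
theorem hG_neg_one : hG m (-1 : K) = 1 := by
  have h : ((-1 : Kˣ) ^ θ)⁻¹ * -1 = 1 := by
    rw [inv_mul_eq_one]; exact Units.ext (by simp [neg_one_pow_theta])
  rw [← Units.val_one, ← Units.val_neg, hG_eq_torus m hK, h, map_one]; rfl

include hK in
theorem hG_neg {s : K} (hs : s ≠ 0) : hG m (-s) = hG m s := by
  rw [← neg_one_mul, ← hG_mul m hK (neg_ne_zero.2 one_ne_zero) hs, hG_neg_one m hK, one_mul]

include hK in
theorem hG_inv {s : K} (hs : s ≠ 0) : (hG m s)⁻¹ = hG m s⁻¹ := by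
  rw [inv_eq_iff_mul_eq_one, hG_mul m hK hs (inv_ne_zero hs), mul_inv_cancel₀ hs, hG_one m hK]

theorem pair_cor : (∑ j ∈ Finset.range chevG2.rank, cor chevG2 8 j * chevG2.cartan j 10) = 0 ∧
    (∑ j ∈ Finset.range chevG2.rank, cor chevG2 10 j * chevG2.cartan j 10) = 2 := by
  constructor <;> decide +kernel

include hK in
theorem hG_conj_x {s : K} (hs : s ≠ 0) (t : K) : hG m s * xG m t * (hG m s)⁻¹ = xG m (s ^ 2 * t) := by
  have h := hG_mem_H1 m hK hs
  lift s to Kˣ using hs.isUnit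
  rw [hG_eq_dg] at h ⊢
  rw [xG, torus_conj_WR m hK h, mul_zero, mul_zero, SG.chi_mul, SG.chi_hz _ _ (by decide),
    SG.chi_hz _ _ (by decide), pair_cor.1, pair_cor.2]
  simp [xG]

include hK in
theorem hG_x {s : K} (hs : s ≠ 0) (t : K) : hG m s * xG m t = xG m (s ^ 2 * t) * hG m s := by
  rw [← hG_conj_x m hK hs t, inv_mul_cancel_right]

theorem nU_comm (a b : K) : Commute (SG.nU (F := K) 8 a) (SG.nU 10 b) := by
  rw [SG.nU_eq, SG.nU_eq, neg8, neg10]
  exact pair_comm _ _ _ _ _ _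

theorem nU_neg_one : SG.nU 8 (-1 : K) * SG.nU 10 (-1) = (nJ K)⁻¹ := by
  rw [nJ_eq_pair (K := K) 0, SG.nU_neg, SG.nU_neg, _root_.mul_inv_rev, ((nU_comm (K := K) _ _).inv_inv).eq]
  simp

theorem hG_eq_n {s : K} (hs : s ≠ 0) :
    hG m s = SG.nU 8 (s ^ θ) * SG.nU 10 s * (nJ K)⁻¹ := by
  rw [hG, SG.hU_eq, SG.hU_eq, ← nU_neg_one]
  calc SG.nU 8 (s ^ θ) * SG.nU 8 (-1) * (SG.nU 10 s * SG.nU 10 (-1))
      = SG.nU 8 (s ^ θ) * (SG.nU 8 (-1) * SG.nU 10 s) * SG.nU 10 (-1) := by group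
    _ = _ := by rw [(nU_comm (K := K) _ _).eq]; group

include hK in
theorem nJ_mul_nJ : nJ K * nJ K = 1 := by
  have h := hG_neg_one (K := K) m hK
  rw [hG_eq_n m (neg_ne_zero.2 one_ne_zero), neg_one_pow_theta, nU_neg_one, ← _root_.mul_inv_rev] at h
  exact inv_eq_one.1 h

include hK in
theorem nJ_inv : (nJ K)⁻¹ = nJ K := inv_eq_of_mul_eq_one_right (nJ_mul_nJ m hK)

include hK in
theorem nJ_hG {s : K} (hs : s ≠ 0) : nJ K * hG m s = hG m s⁻¹ * nJ K := by
  rw [← hG_inv m hK hs, ← nJ_conj_torus m hK (hG_mem_H1 m hK hs), inv_mul_cancel_right]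

include hK in
theorem nJ_hm : nJ K * hm K = hm K * nJ K := by
  have h := nJ_conj_torus m hK (hm_mem_H1 m hK)
  rw [inv_eq_of_mul_eq_one_right (hm_mul_hm m hK)] at h
  conv_rhs => rw [← h]
  rw [inv_mul_cancel_right]

include hK in
/-- The relation of the root pair. -/
theorem nJ_x_nJ {t : K} (ht : t ≠ 0) :
    nJ K * xG m t * nJ K = xG m (-t⁻¹) * hG m t⁻¹ * nJ K * xG m (-t⁻¹) := by
  have h1 := pair_n (K := K) m (Units.mk0 t ht)⁻¹
  rw [inv_inv] at h1
  simp only [Units.val_inv_eq_inv_val, Units.val_mk0] at h1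
  have hn : SG.nU 8 ((t⁻¹ : K) ^ θ) * SG.nU 10 t⁻¹ = hG m t⁻¹ * nJ K := by
    rw [hG_eq_n m (inv_ne_zero ht), inv_mul_cancel_right]
  rw [hn, nJ_inv m hK] at h1
  have hx : xG m (-t⁻¹) * xG m t⁻¹ = 1 := by rw [xG_add, neg_add_cancel, xG_zero]
  rw [mul_assoc _ (hG m t⁻¹) (nJ K), h1]
  show _ = xG m (-t⁻¹) * (xG m t⁻¹ * (nJ K * xG m t * nJ K) * xG m t⁻¹) * xG m (-t⁻¹)
  calc nJ K * xG m t * nJ K = (xG m (-t⁻¹) * xG m t⁻¹) * (nJ K * xG m t * nJ K) *
        (xG m t⁻¹ * xG m (-t⁻¹)) := by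
          rw [hx, one_mul, xG_add, add_neg_cancel, xG_zero, mul_one]
    _ = _ := by group

include hK in
/-- A torus element is, up to `hm`, in the root pair. -/
theorem torus_split {g : GL chevG2.Idx K} (hg : g ∈ H1 K m) :
    ∃ s : K, s ≠ 0 ∧ (g = hG m s ∨ g = hm K * hG m s) := by
  obtain ⟨c, hc⟩ := (torus K m hK).surjective ⟨g, hg⟩
  have hg' : g = (torus K m hK c : GL chevG2.Idx K) := congrArg Subtype.val hc.symm
  obtain ⟨y, hy⟩ := sq_or_neg_sq m hK c
  set u := y ^ (3 * θ + 3) with hu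
  have key : (u ^ θ)⁻¹ * u = y * y := by
    have hy : (y ^ θ) ^ (3 * θ) = y := Units.ext (by simpa using pow_theta m hK (y : K))
    have h3 : (y ^ θ) ^ 3 = y ^ (3 * θ) := by rw [← pow_mul, mul_comm]
    have e : u ^ θ = y * y ^ (3 * θ) := by
      rw [hu, ← pow_mul, show (3 * θ + 3) * θ = θ * (3 * θ) + θ * 3 by ring, pow_add, pow_mul, hy,
        pow_mul, h3]
    rw [inv_mul_eq_iff_eq_mul, e, hu, pow_add, pow_succ y 2, pow_two]
    ac_rfl
  refine ⟨u, u.ne_zero, ?_⟩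
  rw [hG_eq_torus m hK, key, hg', hm_eq_torus m hK, ← Subgroup.coe_mul, ← map_mul]
  rcases hy with rfl | rfl
  · exact Or.inl rfl
  · right; rw [neg_one_mul]

include hK in
theorem hm_ne_hG {s : K} (hs : s ≠ 0) : hm K ≠ hG m s := by
  intro h
  lift s to Kˣ using hs.isUnit
  rw [hm_eq_torus m hK, hG_eq_torus m hK] at h
  have h' := congrArg Units.val ((torus K m hK).injective (Subtype.ext h))
  rw [Units.val_mul, Units.val_inv_eq_inv_val, Units.val_pow_eq_pow_val, Units.val_neg, Units.val_one] at h'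
  obtain ⟨j, hj⟩ : Odd θ := Odd.pow (by decide)
  rw [eq_inv_mul_iff_mul_eq₀ (pow_ne_zero _ s.ne_zero), hj, pow_succ, pow_mul'] at h'
  exact sq_ne_neg_one m hK ((s : K) ^ j) (mul_right_cancel₀ s.ne_zero (by linear_combination -h'))

end CfsgLib.Chev.Ree
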