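import Cfsg.Agent.Chev.Ree.SylowTwoNormalizer
import Cfsg.Agent.Chev.Ree.GroupLemmas2

/-! Centralisers and normalisers of split torus elements of the small Ree groups. -/

set_option autoImplicit false
set_option maxRecDepth 100000
set_option linter.style.haveILetI false
set_option linter.unusedSectionVars false

namespace CfsgLib.Chev.Ree

open Cfsg.Lie CfsgLib.Chev Matrix CfsgLib.SL2

universe u

variable {K : Type u} [Field K] [Finite K] [CharP K 3] (m : ℕ)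

local notation "θ" => (3 ^ m : ℕ)
local notation "G¹" => twistedG2 K (3 ^ m)

variable (hK : Nat.card K = 3 ^ (2 * m + 1))

variable (K) in
/-- The torus inside the group. -/
noncomputable def TG : Subgroup ↥G¹ := (H1 K m).subgroupOf G¹

theorem mem_TG {g : ↥G¹} : g ∈ TG K m ↔ (g : GL chevG2.Idx K) ∈ H1 K m := Subgroup.mem_subgroupOf

include hK in
theorem card_TG : Nat.card ↥(TG K m) = 3 ^ (2 * m + 1) - 1 := by
  rw [← card_torus m hK]
  exact Nat.card_congr (Subgroup.subgroupOfEquivOfLe (H1_le m hK)).toEquiv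

include hK in
theorem isCyclic_TG : IsCyclic ↥(TG K m) :=
  (Subgroup.subgroupOfEquivOfLe (H1_le m hK)).isCyclic.2 (isCyclic_torus m hK)

include hK in
theorem TG_comm {a b : ↥G¹} (ha : a ∈ TG K m) (hb : b ∈ TG K m) : a * b = b * a :=
  Subtype.ext (H1_comm m hK ha hb)

include hK in
theorem TG_sq {a : ↥G¹} (ha : a ∈ TG K m) (h : a * a = 1) : a = 1 ∨ a = hmG K m :=
  (H1_involution m hK ha (congrArg Subtype.val h)).imp (fun h => Subtype.ext h) (fun h => Subtype.ext h)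

include hK in
theorem hmG_mem_TG : hmG K m ∈ TG K m := (mem_TG m).2 (hm_mem_H1 m hK)

include hK in
theorem nG_conj {a : ↥G¹} (ha : a ∈ TG K m) : nG K m * a * (nG K m)⁻¹ = a⁻¹ :=
  Subtype.ext (nJ_conj_torus m hK ha)

include hK in
/-- A unipotent fixed by a torus element of order more than two is trivial. -/
theorem regular {y v : GL chevG2.Idx K} (hy : y ∈ H1 K m) (hy2 : y * y ≠ 1)
    (hv : v ∈ chevG2.posUnipotent K ⊓ G¹) (h : y * v * y⁻¹ = v) : v = 1 := by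
  obtain ⟨z, rfl⟩ := SG.exists_dg (Subgroup.mem_inf.1 hy).1
  obtain ⟨t, u, w, rfl⟩ := (mem_pos_inf m hK).1 hv
  set c := z 0 with hc
  set P := c ^ (3 * θ) with hP
  have hz1 : z 1 = P := Units.ext (by rw [hP, Units.val_pow_eq_pow_val]; exact coord_eq m hK hy)
  have hPθ : P ^ θ = c := Units.ext (by
    rw [hP, ← pow_mul, mul_comm, pow_mul]
    simpa using pow_theta m hK (c : K))
  have h3 : (c ^ 3) ^ θ = P := by rw [hP, ← pow_mul]
  have hc2 : c * c ≠ 1 := fun h => hy2 (by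
    rw [← torus_apply_eq m hK hy, ← Subgroup.coe_mul, ← map_mul, ← hc, h, map_one]; rfl)
  have hne : c ≠ 1 := fun h => hc2 (by rw [h, one_mul])
  rw [torus_conj_WR m hK hy, chi6, chi10, chi11, hz1] at h
  obtain ⟨e1, e2, e3⟩ := WR_inj m h
  have key : ∀ (a : Kˣ) (x : K), a ≠ 1 → (a : K) * x = x → x = 0 := fun a x ha hx => by
    by_contra hx0
    exact ha (Units.ext (mul_eq_right₀ hx0 |>.1 hx))
  rw [key _ t (fun h => hne (by rw [← hPθ, h, one_pow])) e1,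
    key _ u (fun h => hc2 (by
      have h2 : P * c = 1 := by
        have h6 := congrArg (fun x => x ^ θ) h
        simp only [mul_pow, one_pow] at h6
        rwa [h3, hPθ] at h6
      rw [pow_succ, mul_assoc, mul_comm c P, h2, mul_one, pow_two] at h
      exact h)) e2,
    key _ w (fun h => hne (by
      have h2 : P * c ^ 2 = 1 := by
        have h6 := congrArg (fun x => x ^ θ) h
        simp only [mul_pow, one_pow] at h6
        rwa [h3, pow_right_comm, hPθ] at h6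
      have h4 : P = (c ^ 2)⁻¹ := eq_inv_of_mul_eq_one_left h2
      rw [h4] at h
      have h5 : c ^ 3 * ((c ^ 2)⁻¹) ^ 2 = c⁻¹ := by group
      rwa [h5, inv_eq_one] at h)) e3, WR_zero]

include hK in
/-- Fusion in the torus is controlled by its normaliser. -/
theorem torus_fusion {y g : ↥G¹} (hy : y ∈ TG K m) (hy2 : y * y ≠ 1) (hg : g * y * g⁻¹ ∈ TG K m) :
    (g ∈ TG K m ∧ g * y * g⁻¹ = y) ∨ (nG K m * g ∈ TG K m ∧ g * y * g⁻¹ = y⁻¹) := by
  set z := g * y * g⁻¹ with hz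
  have hz2 : z * z ≠ 1 := fun h => hy2 (by
    rw [hz, show g * y * g⁻¹ * (g * y * g⁻¹) = g * (y * y) * g⁻¹ by group, conj_eq_one_iff] at h
    exact h)
  set Y : GL chevG2.Idx K := (y : GL chevG2.Idx K) with hY
  set Z : GL chevG2.Idx K := (z : GL chevG2.Idx K) with hZ
  have hYH : Y ∈ H1 K m := hy
  have hZH : Z ∈ H1 K m := hg
  have hY2 : Y * Y ≠ 1 := fun h => hy2 (Subtype.ext h)
  have hZ2 : Z * Z ≠ 1 := fun h => hz2 (Subtype.ext h)
  have hrel : Z * (g : GL chevG2.Idx K) = g * Y := by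
    show ((z * g : ↥G¹) : GL chevG2.Idx K) = ((g * y : ↥G¹) : GL chevG2.Idx K)
    rw [hz, inv_mul_cancel_right]
  have hconjU : ∀ {a v : GL chevG2.Idx K}, a ∈ H1 K m → v ∈ chevG2.posUnipotent K ⊓ G¹ →
      a * v * a⁻¹ ∈ chevG2.posUnipotent K ⊓ G¹ := fun ha hv =>
    Subgroup.mem_inf.2 ⟨borel_conj_pos (Subgroup.mem_sup_right (Subgroup.mem_inf.1 ha).1) (Subgroup.mem_inf.1 hv).1,
      mul_mem (mul_mem (H1_le m hK ha) (Subgroup.mem_inf.1 hv).2) (inv_mem (H1_le m hK ha))⟩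
  by_cases hB : (g : GL chevG2.Idx K) ∈ chevG2.borelSubgroup K
  · obtain ⟨u, hu, h, hh, e⟩ := (show (g : GL chevG2.Idx K) ∈ (gdata K m hK).B1 by
      rw [← borel_inf_eq m hK]; exact Subgroup.mem_inf.2 ⟨hB, g.2⟩)
    have hu' : u ∈ chevG2.posUnipotent K ⊓ G¹ := by rw [pos_inf_eq m hK]; exact hu
    have hh' : h ∈ H1 K m := hh
    rw [e] at hrel
    have h1 : (Z * u * Z⁻¹) * (Z * h) = u * (Y * h) := by
      rw [H1_comm m hK hYH hh', ← mul_assoc u h Y, ← hrel]; group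
    have h2 : u⁻¹ * (Z * u * Z⁻¹) = Y * h * (Z * h)⁻¹ := by
      rw [eq_mul_inv_iff_mul_eq, mul_assoc, h1, inv_mul_cancel_left]
    have h3 : u⁻¹ * (Z * u * Z⁻¹) = 1 := pos_diag m hK
      (mul_mem (inv_mem (Subgroup.mem_inf.1 hu').1) (Subgroup.mem_inf.1 (hconjU hZH hu')).1)
      (h2 ▸ mul_mem (mul_mem hYH hh') (inv_mem (mul_mem hZH hh')))
    have hu1 : u = 1 := regular m hK hZH hZ2 hu' (inv_mul_eq_one.1 h3).symm
    rw [h3, eq_comm, mul_inv_eq_one, mul_left_inj] at h2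
    refine Or.inl ⟨(mem_TG m).2 ?_, Subtype.ext h2.symm⟩
    rw [e, hu1, one_mul]; exact hh'
  · obtain ⟨u, hu, b, hb, e⟩ := exists_unb m hK g.2 hB
    have hbB := (Subgroup.mem_inf.1 hb).1
    rw [e] at hrel
    have hnZ : nJ K * Z⁻¹ = Z * nJ K := by
      have := nJ_conj_torus m hK (inv_mem hZH)
      rw [inv_inv, mul_inv_eq_iff_eq_mul] at this
      exact this
    have h1 : (Z * u * Z⁻¹) * nJ K * (Z⁻¹ * b) = u * nJ K * (b * Y) := by
      rw [show Z * u * Z⁻¹ * nJ K * (Z⁻¹ * b) = Z * u * Z⁻¹ * (nJ K * Z⁻¹) * b by group, hnZ,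
        ← mul_assoc (u * nJ K) b Y, ← hrel]
      group
    have hcU := hconjU hZH hu
    have h3 : u⁻¹ * (Z * u * Z⁻¹) = 1 := by
      refine eq_one_of_conj_borel m hK (mul_mem (inv_mem (Subgroup.mem_inf.1 hu).1) (Subgroup.mem_inf.1 hcU).1) ?_
      rw [show (nJ K)⁻¹ * (u⁻¹ * (Z * u * Z⁻¹)) * nJ K = (b * Y) * (Z⁻¹ * b)⁻¹ by
        rw [eq_mul_inv_iff_mul_eq, show (nJ K)⁻¹ * (u⁻¹ * (Z * u * Z⁻¹)) * nJ K * (Z⁻¹ * b) =
          (nJ K)⁻¹ * u⁻¹ * ((Z * u * Z⁻¹) * nJ K * (Z⁻¹ * b)) by group, h1]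
        group]
      have hYB : Y ∈ chevG2.borelSubgroup K := Subgroup.mem_sup_right (Subgroup.mem_inf.1 hYH).1
      have hZB : Z ∈ chevG2.borelSubgroup K := Subgroup.mem_sup_right (Subgroup.mem_inf.1 hZH).1
      exact mul_mem (mul_mem hbB hYB) (inv_mem (mul_mem (inv_mem hZB) hbB))
    have hu1 : u = 1 := regular m hK hZH hZ2 hu (inv_mul_eq_one.1 h3).symm
    rw [(inv_mul_eq_one.1 h3).symm] at h1
    have h4 : Z⁻¹ * b = b * Y := mul_left_cancel h1
    obtain ⟨v, hv, h, hh, eb⟩ := (show b ∈ (gdata K m hK).B1 by rw [← borel_inf_eq m hK]; exact hb)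
    have hv' : v ∈ chevG2.posUnipotent K ⊓ G¹ := by rw [pos_inf_eq m hK]; exact hv
    have hh' : h ∈ H1 K m := hh
    rw [eb] at h4
    have h5 : (Z⁻¹ * v * Z⁻¹⁻¹) * (Z⁻¹ * h) = v * (Y * h) := by
      rw [H1_comm m hK hYH hh', ← mul_assoc v h Y, ← h4]; group
    have h6 : v⁻¹ * (Z⁻¹ * v * Z⁻¹⁻¹) = Y * h * (Z⁻¹ * h)⁻¹ := by
      rw [eq_mul_inv_iff_mul_eq, mul_assoc, h5, inv_mul_cancel_left]
    have h7 : v⁻¹ * (Z⁻¹ * v * Z⁻¹⁻¹) = 1 := pos_diag m hK
      (mul_mem (inv_mem (Subgroup.mem_inf.1 hv').1) (Subgroup.mem_inf.1 (hconjU (inv_mem hZH) hv')).1)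
      (h6 ▸ mul_mem (mul_mem hYH hh') (inv_mem (mul_mem (inv_mem hZH) hh')))
    have hZi2 : Z⁻¹ * Z⁻¹ ≠ 1 := fun h => hZ2 (by
      rw [← inv_inv Z, ← _root_.mul_inv_rev, h, inv_one])
    have hv1 : v = 1 := regular m hK (inv_mem hZH) hZi2 hv' (inv_mul_eq_one.1 h7).symm
    rw [h7, eq_comm, mul_inv_eq_one, mul_left_inj] at h6
    refine Or.inr ⟨(mem_TG m).2 ?_, Subtype.ext ?_⟩
    · show nJ K * (g : GL chevG2.Idx K) ∈ H1 K m
      rw [e, eb, hu1, hv1, one_mul, one_mul, ← mul_assoc, nJ_mul_nJ m hK, one_mul]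
      exact hh'
    · show Z = Y⁻¹
      rw [h6, inv_inv]

include hK in
/-- The centraliser of a torus element of order more than two is the torus. -/
theorem centralizer_TG {y : ↥G¹} (hy : y ∈ TG K m) (hy2 : y * y ≠ 1) :
    Subgroup.centralizer {y} = TG K m := by
  refine le_antisymm (fun g hg => ?_) fun g hg =>
    Subgroup.mem_centralizer_singleton_iff.2 (TG_comm m hK hg hy)
  have e : g * y * g⁻¹ = y := by rw [Subgroup.mem_centralizer_singleton_iff.1 hg, mul_inv_cancel_right]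
  rcases torus_fusion m hK hy hy2 (e.symm ▸ hy) with ⟨h, -⟩ | ⟨-, h⟩
  · exact h
  · exact absurd (by rw [e] at h; nth_rewrite 1 [h]; exact inv_mul_cancel y) hy2

variable (K) in
/-- The odd part of the torus. -/
noncomputable def A1 : Subgroup ↥G¹ :=
  Subgroup.closure {g | g ∈ TG K m ∧ g ^ ((3 ^ (2 * m + 1) - 1) / 2) = 1}

include hK in
theorem k1_facts : 2 * ((3 ^ (2 * m + 1) - 1) / 2) = 3 ^ (2 * m + 1) - 1 ∧ Odd ((3 ^ (2 * m + 1) - 1) / 2) := by
  have h8 := q_mod_eight (K := K) m hK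
  exact ⟨by omega, Nat.odd_iff.2 (by omega)⟩

include hK in
theorem mem_A1 {g : ↥G¹} : g ∈ A1 K m ↔ g ∈ TG K m ∧ g ^ ((3 ^ (2 * m + 1) - 1) / 2) = 1 := by
  refine ⟨fun h => ?_, fun h => Subgroup.subset_closure h⟩
  induction h using Subgroup.closure_induction with
  | mem x hx => exact hx
  | one => exact ⟨one_mem _, one_pow _⟩
  | mul x y _ _ hx hy =>
    exact ⟨mul_mem hx.1 hy.1, by
      rw [(show Commute x y from TG_comm m hK hx.1 hy.1).mul_pow, hx.2, hy.2, one_mul]⟩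
  | inv x _ hx => exact ⟨inv_mem hx.1, by rw [inv_pow, hx.2, inv_one]⟩

theorem A1_le : A1 K m ≤ TG K m := by
  rw [A1, Subgroup.closure_le]; exact fun x hx => hx.1

include hK in
theorem isCyclic_A1 : IsCyclic ↥(A1 K m) := by
  haveI := isCyclic_TG (K := K) m hK
  exact isCyclic_of_injective (Subgroup.inclusion (A1_le m)) (Subgroup.inclusion_injective _)

include hK in
theorem card_A1 : Nat.card ↥(A1 K m) = (3 ^ (2 * m + 1) - 1) / 2 := by
  obtain ⟨hk, hodd⟩ := k1_facts (K := K) m hK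
  haveI := isCyclic_TG (K := K) m hK
  letI : CommGroup ↥(TG K m) :=
    { (inferInstance : Group ↥(TG K m)) with mul_comm := fun a b => Subtype.ext (TG_comm m hK a.2 b.2) }
  have e : Nat.card ↥(A1 K m) = Nat.card (powMonoidHom ((3 ^ (2 * m + 1) - 1) / 2) : ↥(TG K m) →* ↥(TG K m)).ker := by
    refine Nat.card_congr
      { toFun := fun a => ⟨⟨a.1, A1_le m a.2⟩, Subtype.ext ((mem_A1 m hK).1 a.2).2⟩
        invFun := fun a => ⟨a.1.1, (mem_A1 m hK).2 ⟨a.1.2, ?_⟩⟩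
        left_inv := fun a => rfl
        right_inv := fun a => rfl }
    have := congrArg Subtype.val a.2
    exact this
  rw [e, IsCyclic.card_powMonoidHom_ker, card_TG m hK]
  nth_rewrite 1 [← hk]
  exact Nat.gcd_mul_left_left 2 _

include hK in
theorem A1_sq_ne {a : ↥G¹} (ha : a ∈ A1 K m) (ha1 : a ≠ 1) : a * a ≠ 1 := by
  intro h
  refine ha1 (GL0.eq_one_of_sq (M := A1 K m) ?_ ha h)
  rw [card_A1 m hK]; exact (k1_facts (K := K) m hK).2

include hK in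
theorem centralizer_A1 {A₀ : Subgroup ↥G¹} (h : A₀ ≤ A1 K m) (h1 : A₀ ≠ ⊥) :
    Subgroup.centralizer ((A₀ : Subgroup ↥G¹) : Set ↥G¹) = TG K m := by
  obtain ⟨a, ha, ha1⟩ := (Subgroup.ne_bot_iff_exists_ne_one.1 h1) |> fun ⟨a, ha⟩ =>
    (⟨a.1, a.2, fun h => ha (Subtype.ext h)⟩ : ∃ a, a ∈ A₀ ∧ a ≠ 1)
  refine le_antisymm ?_ (fun g hg => Subgroup.mem_centralizer_iff.2 fun b hb =>
    TG_comm m hK (A1_le m (h hb)) hg)
  rw [← centralizer_TG m hK (A1_le m (h ha)) (A1_sq_ne m hK (h ha) ha1)]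
  exact Subgroup.centralizer_le (Set.singleton_subset_iff.2 ha)

include hK in
theorem normalizer_A1 {A₀ : Subgroup ↥G¹} (h : A₀ ≤ A1 K m) (h1 : A₀ ≠ ⊥) :
    Subgroup.normalizer (A₀ : Set ↥G¹) = Subgroup.normalizer ((TG K m : Subgroup ↥G¹) : Set ↥G¹) := by
  haveI := isCyclic_TG (K := K) m hK
  refine le_antisymm ?_ (GL0.normalizer_le_of_cyclic (h.trans (A1_le m)))
  intro g hg
  refine GL0.mem_normalizer_of_conj_le fun x hx => ?_
  rw [← centralizer_A1 m hK h h1] at hx ⊢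
  rw [Subgroup.mem_centralizer_iff] at hx ⊢
  intro b hb
  have hb' : g⁻¹ * b * g ∈ A₀ := (Subgroup.mem_normalizer_iff''.1 hg b).1 hb
  have := hx _ hb'
  calc b * (g * x * g⁻¹) = g * (g⁻¹ * b * g * x) * g⁻¹ := by group
    _ = g * (x * (g⁻¹ * b * g)) * g⁻¹ := by rw [this]
    _ = g * x * g⁻¹ * b := by group

include hK in
theorem card_normalizer_TG (hm : 1 ≤ m) :
    Nat.card ↥(Subgroup.normalizer ((TG K m : Subgroup ↥G¹) : Set ↥G¹)) = 2 * (3 ^ (2 * m + 1) - 1) := by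
  set N := Subgroup.normalizer ((TG K m : Subgroup ↥G¹) : Set ↥G¹)
  have hk1 : 1 < Nat.card ↥(A1 K m) := by
    rw [card_A1 m hK]
    have : 3 ^ 3 ≤ 3 ^ (2 * m + 1) := Nat.pow_le_pow_right (by norm_num) (by omega)
    omega
  haveI : Nontrivial ↥(A1 K m) := Finite.one_lt_card_iff_nontrivial.1 hk1
  obtain ⟨⟨y, hy⟩, hy1⟩ := exists_ne (1 : ↥(A1 K m))
  have hy1' : y ≠ 1 := fun h => hy1 (Subtype.ext h)
  have hyT := A1_le m hy
  have hy2 := A1_sq_ne m hK hy hy1'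
  have e : {z : ↥G¹ | ∃ g ∈ N, g * y * g⁻¹ = z} = {y, y⁻¹} := by
    ext z
    constructor
    · rintro ⟨g, hg, rfl⟩
      rcases torus_fusion m hK hyT hy2 ((Subgroup.mem_normalizer_iff.1 hg y).1 hyT) with ⟨-, h⟩ | ⟨-, h⟩ <;>
        simp [h]
    · rintro (rfl | rfl)
      · exact ⟨1, one_mem _, by simp⟩
      · refine ⟨nG K m, GL0.mem_normalizer_of_conj_le fun x hx => ?_, nG_conj m hK hyT⟩
        rw [nG_conj m hK hx]; exact inv_mem hx
  have e2 : N ⊓ Subgroup.centralizer {y} = TG K m := by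
    rw [centralizer_TG m hK hyT hy2]; exact inf_eq_right.2 Subgroup.le_normalizer
  rw [GL0.card_eq_conj N y, e2, card_TG m hK,
    show Nat.card {z : ↥G¹ // ∃ g ∈ N, g * y * g⁻¹ = z} = Set.ncard {z : ↥G¹ | ∃ g ∈ N, g * y * g⁻¹ = z} from rfl,
    e, Set.ncard_pair (fun h => hy2 (by nth_rewrite 1 [h]; exact inv_mul_cancel y))]

end CfsgLib.Chev.Ree
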