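import Cfsg.Agent.Chev.Ree.Identities
import Cfsg.Agent.Chev.Special.Iso
import Cfsg.Agent.Chev.Special.SpecG2
import Cfsg.Agent.Chev.Twist.Fixed
import Cfsg.Agent.Chev.FieldMap
import Cfsg.Agent.Chev.InstSmall
import Cfsg.Prelude.Def_LieTwisted

/-!
# The endomorphism defining the small Ree groups and its fixed unipotent elements
-/

set_option autoImplicit false
set_option maxRecDepth 20000
set_option linter.style.haveILetI false
set_option linter.unusedSectionVars false

namespace CfsgLib.Chev.Ree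

open Cfsg.Lie CfsgLib.Chev Matrix

universe u

variable {K : Type u} [Field K] [Finite K] [CharP K 3] (m : ℕ)

/-- The fundamental system. -/
noncomputable abbrev SG : Sys.{u} chevG2 := Tbl.Valid.toSys DataG2.valid

/-- The iterate of the Frobenius automorphism. -/
noncomputable def frob (n : ℕ) : K ≃+* K := iterateFrobeniusEquiv K 3 n

theorem frob_apply (n : ℕ) (t : K) : frob n t = t ^ 3 ^ n := iterateFrobeniusEquiv_def K 3 n t

/-- The exchange of the roots of `G₂`. -/
noncomputable def bar : Equiv.Perm (Fin chevG2.nroots) where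
  toFun r := ⟨Special.specG2.rbar DataG2.tbl r, (Special.rbar_spec Special.specG2_valid r.2).1⟩
  invFun r := ⟨Special.specG2.rbar DataG2.tbl r, (Special.rbar_spec Special.specG2_valid r.2).1⟩
  left_inv r := Fin.ext (Special.rbar_spec Special.specG2_valid r.2).2.2.1
  right_inv r := Fin.ext (Special.rbar_spec Special.specG2_valid r.2).2.2.1

theorem bar_apply (r : Fin chevG2.nroots) : (bar r : ℕ) = Special.specG2.rbar DataG2.tbl r := rfl

/-- The exponent of three attached to a root. -/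
noncomputable def lev3 (r : ℕ) : ℕ := cond (Special.specG2.inI (DataG2.tbl.l + r)) (m + 1) m

variable (K) in
/-- The endomorphism whose fixed elements form the small Ree group. -/
noncomputable def twist : Twist (SG.{u}) K where
  endo := (Special.iso (K := K) DataG2.valid Special.specG2_valid (inferInstance : CharP K 3)).comp
    (fieldAut chevG2 (frob m)).toMonoidHom
  bar := bar
  fr r := frob (lev3 m r)
  sg _ := 1
  sg_sq _ := one_mul 1
  bar_pos r := (Special.rbar_spec Special.specG2_valid r.2).2.2.2.2.2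
  bar_neg r r' h := by
    obtain ⟨h1, -, -, h4, h5, -⟩ := Special.rbar_spec Special.specG2_valid
      (show (r : ℕ) < DataG2.tbl.n from r.2)
    have hn : chevG2.neg r = DataG2.tbl.negAt r := Tbl.negd DataG2.valid.linked r.2
    rw [hn] at h
    have hI : Special.specG2.inI (DataG2.tbl.l + (r' : ℕ)) = Special.specG2.inI (DataG2.tbl.l + r) := by
      rw [h]
      have := Special.specG2_valid.bar
      simp only [Special.Spec.barOK, Bool.and_eq_true, List.all_eq_true, List.mem_range, beq_iff_eq] at this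
      exact (this.2 r r.2).1.2
    refine ⟨?_, congrArg frob (by rw [lev3, lev3, hI]), rfl⟩
    rw [bar_apply, bar_apply, h, h4, Tbl.negd DataG2.valid.linked h1]
  endo_xU r t := by
    rw [MonoidHom.comp_apply, MulEquiv.coe_toMonoidHom]
    have e : fieldAut chevG2 (frob m) ⟨SG.xU r t, SG.xU_mem_group r t⟩ =
        ⟨SG.xU r (frob m t), SG.xU_mem_group r _⟩ := Subtype.ext (SG.glMap_xU _ r t)
    rw [e, one_mul]
    refine (Special.iso_xU DataG2.valid Special.specG2_valid (inferInstance : CharP K 3)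
      (show (r : ℕ) < DataG2.tbl.n from r.2) (frob m t)).trans ?_
    rw [bar_apply, frob_apply, frob_apply, Special.Spec.lam, lev3]
    congr 1
    cases Special.specG2.inI (DataG2.tbl.l + r)
    · simp
    · rw [cond_true, cond_true, pow_succ, pow_mul]; rfl

local notation "θ" => (3 ^ m : ℕ)

/-- The endomorphism on a root element. -/
theorem ap_x {r r' : ℕ} (hr : r < 12) {e : ℕ} (h1 : Special.specG2.rbar DataG2.tbl r = r')
    (h2 : lev3 m r = e) (t : K) : (twist K m).ap (SG.xU r t) = SG.xU r' (t ^ 3 ^ e) := by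
  refine ((twist K m).ap_xU ⟨r, hr⟩ t).trans ?_
  show SG.xU (bar ⟨r, hr⟩ : ℕ) (1 * frob (lev3 m r) t) = _
  rw [one_mul, frob_apply, bar_apply, h1, h2]

theorem ap7 (t : K) : (twist K m).ap (SG.xU 7 t) = SG.xU 6 (t ^ (3 * θ)) := by
  rw [ap_x m (r' := 6) (e := m + 1) (by omega) (by decide +kernel) rfl, ← pow_succ']
theorem ap6 (t : K) : (twist K m).ap (SG.xU 6 t) = SG.xU 7 (t ^ θ) :=
  ap_x m (by omega) (by decide +kernel) rfl t
theorem ap8 (t : K) : (twist K m).ap (SG.xU 8 t) = SG.xU 10 (t ^ (3 * θ)) := by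
  rw [ap_x m (r' := 10) (e := m + 1) (by omega) (by decide +kernel) rfl, ← pow_succ']
theorem ap9 (t : K) : (twist K m).ap (SG.xU 9 t) = SG.xU 11 (t ^ (3 * θ)) := by
  rw [ap_x m (r' := 11) (e := m + 1) (by omega) (by decide +kernel) rfl, ← pow_succ']
theorem ap10 (t : K) : (twist K m).ap (SG.xU 10 t) = SG.xU 8 (t ^ θ) :=
  ap_x m (by omega) (by decide +kernel) rfl t
theorem ap11 (t : K) : (twist K m).ap (SG.xU 11 t) = SG.xU 9 (t ^ θ) :=
  ap_x m (by omega) (by decide +kernel) rfl t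
theorem ap3 (t : K) : (twist K m).ap (SG.xU 3 t) = SG.xU 1 (t ^ (3 * θ)) := by
  rw [ap_x m (r' := 1) (e := m + 1) (by omega) (by decide +kernel) rfl, ← pow_succ']
theorem ap1 (t : K) : (twist K m).ap (SG.xU 1 t) = SG.xU 3 (t ^ θ) :=
  ap_x m (by omega) (by decide +kernel) rfl t

variable (hK : Nat.card K = 3 ^ (2 * m + 1))

include hK in
theorem pow_theta (t : K) : (t ^ θ) ^ (3 * θ) = t := by
  haveI := Fintype.ofFinite K
  rw [← pow_mul, show θ * (3 * θ) = 3 ^ (2 * m + 1) by ring, ← hK, Nat.card_eq_fintype_card]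
  exact FiniteField.pow_card t

include hK in
theorem pow_theta' (t : K) : (t ^ (3 * θ)) ^ θ = t := by
  rw [← pow_mul, mul_comm, pow_mul]; exact pow_theta m hK t

theorem add_pow_theta (a b : K) : (a + b) ^ θ = a ^ θ + b ^ θ := by
  rw [← frob_apply, map_add, frob_apply, frob_apply]

theorem add_pow_theta3 (a b : K) : (a + b) ^ (3 * θ) = a ^ (3 * θ) + b ^ (3 * θ) := by
  rw [← pow_succ', ← frob_apply, map_add, frob_apply, frob_apply]

/-! ### Unipotent elements -/

theorem commute_of_pair {r s : ℕ} (h : (r, s) ∈ commPairs) (a b : K) :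
    Commute (SG.xU r a) (SG.xU s b) := by
  have := List.all_eq_true.1 comm_check _ h
  have e := wU_eq_of_sameWordMod (F := K) (p := 3) DataG2.valid a b this
  simpa [Commute, SemiconjBy, Sys.wU, wordVal, pev, va, vb] using e

theorem ab_rule (a b : K) : SG.xU 6 b * SG.xU 7 a = SG.xU 7 a * SG.xU 6 b *
    (SG.xU 8 (a * b) * SG.xU 9 (a ^ 2 * b) * SG.xU 10 (-(a ^ 3 * b)) * SG.xU 11 (-(a ^ 3 * b ^ 2))) := by
  have e := wU_eq_of_sameWordMod (F := K) (p := 3) DataG2.valid a b ab_check
  simpa [Sys.wU, wordVal, pev, va, vb, mul_assoc] using e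

/-- A product of elements of the four higher root subgroups. -/
noncomputable def X (r s u v : K) : GL chevG2.Idx K :=
  SG.xU 8 r * SG.xU 9 s * SG.xU 10 u * SG.xU 11 v

/-- The general element of `U`. -/
noncomputable def W (p q r s u v : K) : GL chevG2.Idx K :=
  SG.xU 7 p * SG.xU 6 q * X r s u v

theorem X_mul (r s u v r' s' u' v' : K) :
    X r s u v * X r' s' u' v' = X (r + r') (s + s') (u + u') (v + v') := by
  have c89 := commute_of_pair (K := K) (r := 8) (s := 9) (by decide)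
  have c810 := commute_of_pair (K := K) (r := 8) (s := 10) (by decide)
  have c811 := commute_of_pair (K := K) (r := 8) (s := 11) (by decide)
  have c910 := commute_of_pair (K := K) (r := 9) (s := 10) (by decide)
  have c911 := commute_of_pair (K := K) (r := 9) (s := 11) (by decide)
  have c1011 := commute_of_pair (K := K) (r := 10) (s := 11) (by decide)
  rw [X, X, X, ← Sys.xU_add, ← Sys.xU_add, ← Sys.xU_add, ← Sys.xU_add]
  set a := SG.xU 8 r
  set a' := SG.xU 8 r'
  set b := SG.xU 9 s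
  set b' := SG.xU 9 s'
  set c := SG.xU 10 u
  set c' := SG.xU 10 u'
  set d := SG.xU 11 v
  set d' := SG.xU 11 v'
  calc a * b * c * d * (a' * b' * c' * d')
      = a * ((b * c * d) * a') * (b' * c' * d') := by group
    _ = a * (a' * (b * c * d)) * (b' * c' * d') := by
        rw [((((c89 r' s).mul_right (c810 r' u)).mul_right (c811 r' v))).eq]
    _ = a * a' * b * ((c * d) * b') * (c' * d') := by group
    _ = a * a' * b * (b' * (c * d)) * (c' * d') := by rw [((c910 s' u).mul_right (c911 s' v)).eq]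
    _ = a * a' * (b * b') * c * (d * c') * d' := by group
    _ = a * a' * (b * b') * c * (c' * d) * d' := by rw [(c1011 u' v).eq]
    _ = a * a' * (b * b') * (c * c') * (d * d') := by group

theorem X_zero : X (0 : K) 0 0 0 = 1 := by simp [X, Sys.xU_zero]

theorem W_mul_X (p q r s u v r' s' u' v' : K) :
    W p q r s u v * X r' s' u' v' = W p q (r + r') (s + s') (u + u') (v + v') := by
  rw [W, W, mul_assoc, X_mul]

theorem swap_rule (a b r s u v : K) : SG.xU 6 b * SG.xU 7 a * X r s u v =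
    W a b (a * b + r) (a ^ 2 * b + s) (-(a ^ 3 * b) + u) (-(a ^ 3 * b ^ 2) + v) := by
  rw [ab_rule, W, mul_assoc _ _ (X r s u v)]
  exact congrArg _ (X_mul _ _ _ _ _ _ _ _)

theorem prodFrom6 (t : ℕ → K) :
    SG.prodFrom t 6 = SG.xU 6 (t 6) * SG.xU 7 (t 7) * X (t 8) (t 9) (t 10) (t 11) := by
  simp [Sys.prodFrom, Sys.wU, X, List.range', mul_assoc,
    show chevG2.nroots = 12 from rfl]

theorem pos_eq : chevG2.posUnipotent K = SG.tailU K 6 := Sys.posUnipotent_eq SG

theorem exists_W {g : GL chevG2.Idx K} (hg : g ∈ chevG2.posUnipotent K) :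
    ∃ p q r s u v : K, g = W p q r s u v := by
  rw [pos_eq] at hg
  obtain ⟨t, -, rfl⟩ := SG.exists_prodFrom (k := 6) le_rfl hg
  exact ⟨_, _, _, _, _, _, (prodFrom6 t).trans (swap_rule _ _ _ _ _ _)⟩

theorem W_mem (p q r s u v : K) : W p q r s u v ∈ chevG2.posUnipotent K := by
  have h : ∀ (i : ℕ) (t : K), 6 ≤ i → i < 12 → SG.xU i t ∈ chevG2.posUnipotent K :=
    fun i t h1 h2 => SG.xU_mem_posUnipotent h1 h2 t
  exact mul_mem (mul_mem (h 7 p (by omega) (by omega)) (h 6 q (by omega) (by omega)))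
    (mul_mem (mul_mem (mul_mem (h 8 r (by omega) (by omega)) (h 9 s (by omega) (by omega)))
      (h 10 u (by omega) (by omega))) (h 11 v (by omega) (by omega)))

theorem W_inj {p q r s u v p' q' r' s' u' v' : K} (h : W p q r s u v = W p' q' r' s' u' v') :
    p = p' ∧ q = q' ∧ r = r' ∧ s = s' ∧ u = u' ∧ v = v' := by
  let f : K → K → K → K → K → K → ℕ → K := fun a b c d e g i =>
    if i = 6 then b else if i = 7 then a else if i = 8 then c - a * b else if i = 9 then d - a ^ 2 * b
    else if i = 10 then e + a ^ 3 * b else g + a ^ 3 * b ^ 2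
  have hf : ∀ a b c d e g : K, W a b c d e g = SG.prodFrom (f a b c d e g) 6 := fun a b c d e g => by
    rw [prodFrom6, swap_rule]
    simp only [f]
    norm_num
  rw [hf, hf] at h
  have k := SG.prodFrom_inj (k := 6) le_rfl h
  have e6 := k 6 le_rfl (by decide)
  have e7 := k 7 (by omega) (by decide)
  have e8 := k 8 (by omega) (by decide)
  have e9 := k 9 (by omega) (by decide)
  have e10 := k 10 (by omega) (by decide)
  have e11 := k 11 (by omega) (by decide)
  simp only [f] at e6 e7 e8 e9 e10 e11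
  norm_num at e6 e7 e8 e9 e10 e11
  subst e6 e7
  exact ⟨rfl, rfl, sub_left_inj.1 e8, sub_left_inj.1 e9, add_right_cancel e10, add_right_cancel e11⟩

theorem ap_W (p q r s u v : K) : (twist K m).ap (W p q r s u v) = W (q ^ θ) (p ^ (3 * θ))
    (q ^ θ * p ^ (3 * θ) + u ^ θ) ((q ^ θ) ^ 2 * p ^ (3 * θ) + v ^ θ)
    (-((q ^ θ) ^ 3 * p ^ (3 * θ)) + r ^ (3 * θ)) (-((q ^ θ) ^ 3 * (p ^ (3 * θ)) ^ 2) + s ^ (3 * θ)) := by
  have hm : ∀ (i : ℕ) (t : K), SG.xU i t ∈ chevG2.group K := SG.xU_mem_group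
  have hX : X r s u v ∈ chevG2.group K :=
    mul_mem (mul_mem (mul_mem (hm _ _) (hm _ _)) (hm _ _)) (hm _ _)
  rw [W, (twist K m).ap_mul (mul_mem (hm _ _) (hm _ _)) hX, (twist K m).ap_mul (hm _ _) (hm _ _), ap7, ap6]
  have e : (twist K m).ap (X r s u v) = X (u ^ θ) (v ^ θ) (r ^ (3 * θ)) (s ^ (3 * θ)) := by
    rw [X, (twist K m).ap_mul (mul_mem (mul_mem (hm _ _) (hm _ _)) (hm _ _)) (hm _ _),
      (twist K m).ap_mul (mul_mem (hm _ _) (hm _ _)) (hm _ _), (twist K m).ap_mul (hm _ _) (hm _ _),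
      ap8, ap9, ap10, ap11]
    have e1 : X (0 : K) 0 (r ^ (3 * θ)) (s ^ (3 * θ)) * X (u ^ θ) (v ^ θ) 0 0 =
        X (u ^ θ) (v ^ θ) (r ^ (3 * θ)) (s ^ (3 * θ)) := by rw [X_mul]; simp
    rw [← e1]
    simp [X, Sys.xU_zero, mul_assoc]
  rw [e, swap_rule]

/-- The word of the positive fixed elements. -/
noncomputable def WR (t u v : K) : GL chevG2.Idx K :=
  W (t ^ θ) t (t ^ (θ + 1) + u ^ θ) (t ^ (2 * θ + 1) + v ^ θ) u v

theorem coe_WR (t u v : K) : (WR m t u v : Matrix chevG2.Idx chevG2.Idx K) =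
    chevG2.wordMat K (reeWordU θ t u v) := by
  rw [← Sys.coe_wU SG]
  simp [Sys.wU, WR, W, X, reeWordU, g2a, g2b, g2ab, g2aab, g2aaab, g2aaabb, mul_assoc]

include hK in
theorem WR_fixed (t u v : K) : WR m t u v ∈ (twist K m).fixed := by
  refine ⟨SG.pos_le_group (W_mem _ _ _ _ _ _), ?_⟩
  rw [WR, ap_W]
  congr 1
  · exact pow_theta m hK t
  · rw [pow_theta m hK, pow_succ]
  · rw [pow_theta m hK]; ring
  · have e1 : (t ^ (θ + 1)) ^ (3 * θ) = t * (t ^ θ) ^ 3 := by
      rw [pow_succ t θ, mul_pow, pow_theta m hK, pow_mul' t 3 θ]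
    rw [pow_theta m hK, add_pow_theta3, pow_theta m hK, e1]
    ring
  · have e2 : (t ^ (2 * θ + 1)) ^ (3 * θ) = t ^ 2 * (t ^ θ) ^ 3 := by
      rw [pow_succ t (2 * θ), mul_pow, show t ^ (2 * θ) = (t ^ θ) ^ 2 by ring, ← pow_mul, mul_comm 2 (3 * θ),
        pow_mul, pow_theta m hK, pow_mul' t 3 θ]
    rw [pow_theta m hK, add_pow_theta3, pow_theta m hK, e2]
    ring

include hK in
theorem exists_WR {g : GL chevG2.Idx K} (hg : g ∈ chevG2.posUnipotent K)
    (hfix : g ∈ (twist K m).fixed) : ∃ t u v : K, g = WR m t u v := by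
  obtain ⟨p, q, r, s, u, v, rfl⟩ := exists_W hg
  have h := hfix.2
  rw [ap_W] at h
  obtain ⟨h1, h2, h3, h4, -, -⟩ := W_inj h
  refine ⟨q, u, v, ?_⟩
  rw [WR]
  congr 1
  · exact h1.symm
  · rw [← h3, h2, pow_succ]
  · rw [← h4, h2]; ring

theorem WR_inj {t u v t' u' v' : K} (h : WR m t u v = WR m t' u' v') : t = t' ∧ u = u' ∧ v = v' := by
  obtain ⟨-, h2, -, -, h5, h6⟩ := W_inj h
  exact ⟨h2, h5, h6⟩

end CfsgLib.Chev.Ree
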